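import Cfsg.Agent.Lib.JankoReeMult.PSLTwo
import Cfsg.Agent.Lib.PSL2Klein
import Cfsg.Agent.Lib.Fusion.PSLSylow
import Cfsg.Agent.Lib.PSL2.Aut
import Cfsg.Agent.Lib.DihedralTransfer

/-!
Sylow 2-subgroups and involutions of `PSL₂(q)`.

* `invol_conj`: one class of involutions;
* `sylow_shape`: a Sylow 2-subgroup is dihedral of order at least eight, or elementary with a cyclic automiser.
-/

set_option autoImplicit false
set_option linter.unusedSectionVars false
set_option linter.style.haveILetI false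

namespace CfsgLib.JT

open Matrix

variable {F : Type*} [Field F] [Fintype F]

local notation "SL" => Matrix.SpecialLinearGroup (Fin 2) F
local notation "PSL" => Matrix.ProjectiveSpecialLinearGroup (Fin 2) F

theorem mk_surj (x : PSL) : ∃ A : SL, CfsgLib.PSL2.mk A = x := QuotientGroup.mk'_surjective _ x

/-- In even characteristic a Sylow 2-subgroup is conjugate to the upper unitriangular group. -/
theorem even_sylow [CharP F 2] (P : Sylow 2 PSL) :
    ∃ g : PSL, ∀ x, x ∈ (P : Subgroup PSL) ↔ ∃ s : F, g * CfsgLib.PSL2.uu s * g⁻¹ = x := by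
  haveI : Fact (Nat.Prime 2) := ⟨Nat.prime_two⟩
  obtain ⟨g, hg⟩ := MulAction.exists_smul_eq PSL (CfsgLib.PSL2.uSylow (F := F) 2) P
  refine ⟨g, fun x => ?_⟩
  rw [← hg]
  constructor
  · rintro ⟨_, ⟨s, rfl⟩, rfl⟩
    exact ⟨Multiplicative.toAdd s, rfl⟩
  · rintro ⟨s, rfl⟩
    exact ⟨_, ⟨Multiplicative.ofAdd s, rfl⟩, rfl⟩

theorem invol_conj_even [CharP F 2] {x y : PSL} (hx : x * x = 1) (hx1 : x ≠ 1) (hy : y * y = 1) (hy1 : y ≠ 1) :
    IsConj x y := by
  haveI : Fact (Nat.Prime 2) := ⟨Nat.prime_two⟩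
  suffices h : ∀ z : PSL, z * z = 1 → z ≠ 1 → IsConj (CfsgLib.PSL2.uu (1 : F)) z from
    (h x hx hx1).symm.trans (h y hy hy1)
  intro z hz hz1
  have hp : IsPGroup 2 (Subgroup.zpowers z) := by
    intro w
    obtain ⟨i, hi⟩ := Subgroup.mem_zpowers_iff.mp w.2
    refine ⟨1, Subtype.ext ?_⟩
    show (w : PSL) ^ 2 ^ 1 = 1
    rw [← hi, pow_one, ← zpow_natCast, ← _root_.zpow_mul, mul_comm, _root_.zpow_mul, zpow_natCast, pow_two, hz,
      _root_.one_zpow]
  obtain ⟨P, hP⟩ := hp.exists_le_sylow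
  obtain ⟨g, hg⟩ := even_sylow P
  obtain ⟨s, hs⟩ := (hg z).mp (hP (Subgroup.mem_zpowers z))
  have hs0 : s ≠ 0 := fun e => hz1 (by
    rw [← hs, e, CfsgLib.PSL2.uu, ofAdd_zero, map_one, mul_one, mul_inv_cancel])
  obtain ⟨a, ha⟩ := FiniteField.isSquare_of_char_two (CharP.ringChar_of_prime_eq_zero Nat.prime_two
    (CharTwo.two_eq_zero (R := F))) s
  have ha0 : a ≠ 0 := fun e => hs0 (by rw [ha, e, mul_zero])
  refine IsConj.trans (isConj_iff.mpr ⟨CfsgLib.PSL2.mk (CfsgLib.PSL2.dSL a ha0), ?_⟩)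
    (isConj_iff.mpr ⟨g, hs⟩)
  rw [CfsgLib.PSL2.mk_diag_conj_u, pow_two, ← ha, mul_one]

/-- One class of involutions. -/
theorem invol_conj {x y : PSL} (hx : x * x = 1) (hx1 : x ≠ 1) (hy : y * y = 1) (hy1 : y ≠ 1) :
    IsConj x y := by
  by_cases h2 : (2 : F) = 0
  · haveI : CharP F 2 := CharTwo.of_one_ne_zero_of_two_eq_zero one_ne_zero h2
    exact invol_conj_even hx hx1 hy hy1
  · obtain ⟨A, rfl⟩ := mk_surj x
    obtain ⟨B, rfl⟩ := mk_surj y
    exact CfsgLib.PSL2.mk.map_isConj (PSL2Klein.isConj_trace_zero h2 ((PSL2Klein.invol_iff h2).mp ⟨hx1, hx⟩)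
      ((PSL2Klein.invol_iff h2).mp ⟨hy1, hy⟩))

/-- In even characteristic the normaliser of the upper unitriangular group acts by scalars. -/
theorem even_scalar [CharP F 2] (P : Sylow 2 PSL) :
    ∃ coord : ↥(P : Subgroup PSL) → F, Function.Injective coord ∧ coord 1 = 0 ∧
      ∀ n : PSL, (∀ x ∈ (P : Subgroup PSL), n * x * n⁻¹ ∈ (P : Subgroup PSL)) →
        ∃ c : F, ∀ x y : (P : Subgroup PSL), n * (x : PSL) * n⁻¹ = y → coord y = c * coord x := by
  classical
  obtain ⟨g, hg⟩ := even_sylow P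
  choose coord hcoord using fun x : (P : Subgroup PSL) => (hg x).mp x.2
  have huniq : ∀ (x : (P : Subgroup PSL)) (s : F), g * CfsgLib.PSL2.uu s * g⁻¹ = x → coord x = s := fun x s h =>
    CfsgLib.PSL2.uu_injective (mul_left_cancel (mul_right_cancel ((hcoord x).trans h.symm)))
  refine ⟨coord, fun x y e => Subtype.ext (by rw [← hcoord x, ← hcoord y, e]),
    huniq 1 0 (by rw [CfsgLib.PSL2.uu, ofAdd_zero, map_one, mul_one, mul_inv_cancel]; rfl), fun n hn => ?_⟩
  obtain ⟨A, hA⟩ := mk_surj (g⁻¹ * n * g)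
  have hA0 : A.1 1 0 = 0 := by
    refine CfsgLib.PSL2.upper_of_normalizes A ?_
    obtain ⟨s, hs⟩ := (hg _).mp (hn _ ((hg _).mpr ⟨1, rfl⟩))
    refine ⟨Multiplicative.ofAdd s, ?_⟩
    show CfsgLib.PSL2.uu s = _
    rw [hA]
    calc CfsgLib.PSL2.uu s = g⁻¹ * (g * CfsgLib.PSL2.uu s * g⁻¹) * g := by group
      _ = g⁻¹ * n * g * CfsgLib.PSL2.uu 1 * (g⁻¹ * n * g)⁻¹ := by rw [hs]; group
  have had : A.1 0 0 * A.1 1 1 = 1 := by
    have := A.2
    rw [Matrix.det_fin_two, hA0, mul_zero, sub_zero] at this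
    exact this
  refine ⟨A.1 0 0 * A.1 0 0, fun x y e => huniq y _ ?_⟩
  have key : CfsgLib.PSL2.mk A * CfsgLib.PSL2.uu (coord x) * (CfsgLib.PSL2.mk A)⁻¹ =
      CfsgLib.PSL2.uu (A.1 0 0 * A.1 0 0 * coord x) := by
    rw [CfsgLib.PSL2.uu_eq, CfsgLib.PSL2.uu_eq, ← map_inv, ← map_mul, ← map_mul]
    congr 1
    apply Subtype.ext
    show A.1 * (CfsgLib.PSL2.uSL (coord x)).1 * A.1.adjugate =
      (CfsgLib.PSL2.uSL (A.1 0 0 * A.1 0 0 * coord x)).1
    rw [CfsgLib.PSL2.coe_uSL, CfsgLib.PSL2.coe_uSL, Matrix.adjugate_fin_two]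
    ext i j
    fin_cases i <;> fin_cases j <;>
      simp [Matrix.mul_apply, Fin.sum_univ_two, hA0, CfsgLib.PSL2.uSL, Matrix.adjugate_fin_two] <;>
      first | linear_combination had | ring1
  rw [← key, hA, ← e, ← hcoord x]
  group

/-- The shape of a Sylow 2-subgroup. -/
theorem sylow_shape (h3 : 3 < Fintype.card F) (P : Sylow 2 PSL) :
    (∃ k : ℕ, Nonempty ((P : Subgroup PSL) ≃* DihedralGroup (2 ^ (k + 2)))) ∨
    ((∀ x ∈ (P : Subgroup PSL), x * x = 1) ∧ 4 ≤ Nat.card (P : Subgroup PSL) ∧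
      (Nat.card (P : Subgroup PSL) = 4 ∨ CharP F 2)) := by
  classical
  haveI : Fact (Nat.Prime 2) := ⟨Nat.prime_two⟩
  by_cases h2 : (2 : F) = 0
  · haveI : CharP F 2 := CharTwo.of_one_ne_zero_of_two_eq_zero one_ne_zero h2
    refine .inr ⟨fun x hx => ?_, ?_, .inr inferInstance⟩
    · obtain ⟨g, hg⟩ := even_sylow P
      obtain ⟨s, rfl⟩ := (hg x).mp hx
      rw [conj_mul, CfsgLib.PSL2.uu, ← map_mul, ← ofAdd_add, CharTwo.add_self_eq_zero, ofAdd_zero, map_one, mul_one,
        mul_inv_cancel]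
    obtain ⟨g, hg⟩ := even_sylow P
    have h1 : Fintype.card F ≤ Nat.card (P : Subgroup PSL) := by
      rw [← Nat.card_eq_fintype_card]
      refine Nat.card_le_card_of_injective (fun s => ⟨g * CfsgLib.PSL2.uu s * g⁻¹, (hg _).mpr ⟨s, rfl⟩⟩)
        fun a b e => CfsgLib.PSL2.uu_injective (mul_left_cancel (mul_right_cancel (congrArg Subtype.val e)))
    omega
  · have hodd : Odd (Fintype.card F) := by
      rw [Nat.odd_iff]
      refine FiniteField.odd_card_of_char_ne_two fun e => h2 ?_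
      have := ringChar.spec F 2
      simpa [e] using this
    by_cases h16 : 16 ∣ Fintype.card F ^ 2 - 1
    · refine .inl ?_
      obtain ⟨U, n, hn, ⟨eU⟩⟩ := PSLSylow.exists_dihedral (F := F) (Nat.odd_iff.mp hodd) h16
      obtain ⟨a, ha⟩ := U.2.exists_card_eq
      rw [Nat.card_congr eU.toEquiv, DihedralGroup.nat_card] at ha
      obtain ⟨k, rfl⟩ : ∃ k, a = k + 3 := by
        refine ⟨a - 3, ?_⟩
        by_contra hne
        have := Nat.pow_le_pow_right two_pos (show a ≤ 2 by omega)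
        omega
      obtain rfl : n = 2 ^ (k + 2) := by rw [pow_succ] at ha; omega
      exact ⟨k, ⟨(Sylow.equiv P U).trans eU⟩⟩
    · -- order four
      have hcard4 : Nat.card (P : Subgroup PSL) ≤ 4 := by
        obtain ⟨a, ha⟩ := P.2.exists_card_eq
        have h8 : ¬ 8 ∣ Nat.card PSL := by
          intro h8
          have hc := CfsgLib.SLCard.gcd_mul_card_PSL (F := F) (n := 2) (by norm_num)
          rw [CfsgLib.SLCard.card_SL_two, Nat.gcd_eq_left (show 2 ∣ Fintype.card F - 1 from by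
            obtain ⟨k, hk⟩ := hodd; omega)] at hc
          have h16' : 2 ^ 4 ∣ Fintype.card F * (Fintype.card F ^ 2 - 1) := by
            rw [← hc, show (2 : ℕ) ^ 4 = 2 * 8 by norm_num]
            exact Nat.mul_dvd_mul_left 2 h8
          exact h16 ((Nat.Coprime.pow_left 4 (Nat.coprime_two_left.mpr hodd)).dvd_of_dvd_mul_left h16')
        rw [ha]
        by_contra hgt
        refine h8 (dvd_trans ?_ (P : Subgroup PSL).card_subgroup_dvd_card)
        rw [ha, show (8 : ℕ) = 2 ^ 3 by norm_num]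
        refine pow_dvd_pow 2 ?_
        by_contra h
        have := Nat.pow_le_pow_right two_pos (show a ≤ 2 by omega)
        omega
      have hcomm : IsMulCommutative (P : Subgroup PSL) := by
        obtain ⟨a, ha⟩ := P.2.exists_card_eq
        have ha2 : a ≤ 2 := by
          by_contra h
          have := Nat.pow_le_pow_right two_pos (show 3 ≤ a by omega)
          omega
        rcases (show a = 0 ∨ a = 1 ∨ a = 2 by omega) with rfl | rfl | rfl
        · haveI : Subsingleton (P : Subgroup PSL) := (Nat.card_eq_one_iff_unique.mp (by simpa using ha)).1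
          exact ⟨⟨fun a b => Subsingleton.elim _ _⟩⟩
        · haveI : IsCyclic (P : Subgroup PSL) := isCyclic_of_prime_card (p := 2) (by simpa using ha)
          exact ⟨⟨IsCyclic.commGroup.mul_comm⟩⟩
        · exact ⟨⟨IsPGroup.commutative_of_card_eq_prime_sq ha⟩⟩
      obtain ⟨h4, hsq, -⟩ := JankoReeMult.sylow_klein hodd h3 P hcomm
      exact .inr ⟨hsq, h4.ge, .inl h4⟩

end CfsgLib.JT
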