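import Cfsg.Agent.Lib.SchurRing.Cyclic

/-!
Schur's theorem for primitive groups with a regular cyclic subgroup of composite odd order.

* `rel_of_prime`: for order `p^k`, `k ≥ 2`, all nontrivial elements lie in one suborbit;
* `two_trans`: primitive with a regular cyclic subgroup of composite odd order is 2-transitive.
-/

set_option autoImplicit false
set_option linter.unusedSectionVars false

namespace CfsgLib.JT

open CfsgLib.SchurRing Polynomial

/-- A function on `ℤ/p` with values `0, 1` away from zero and vanishing self-convolution is constant there. -/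
theorem const_of_conv {p : ℕ} [hp : Fact p.Prime] (hp2 : p ≠ 2) (h : ZMod p → ZMod p)
    (hv : ∀ a, a ≠ 0 → h a = 0 ∨ h a = 1) (hsum : ∑ a, h a = 0) (hconv : ∀ a, ∑ b, h b * h (a - b) = 0) :
    (∀ a, a ≠ 0 → h a = 0) ∨ ∀ a, a ≠ 0 → h a = 1 := by
  classical
  set M : ℕ → ZMod p := fun i => ∑ a, a ^ i * h a with hM
  have hrel : ∀ i, ∑ j ∈ Finset.range (i + 1), (i.choose j : ZMod p) * (M (i - j) * M j) = 0 := by
    intro i
    have e1 : ∀ b : ZMod p, ∑ d, (b + d) ^ i * (h b * h d) = ∑ a, a ^ i * (h b * h (a - b)) := fun b =>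
      Fintype.sum_equiv (Equiv.addLeft b) _ _ fun d => by simp
    have e2 : ∑ b, ∑ d, (b + d) ^ i * (h b * h d) = 0 := by
      rw [Finset.sum_congr rfl fun b _ => e1 b, Finset.sum_comm]
      refine Finset.sum_eq_zero fun a _ => ?_
      rw [← Finset.mul_sum, hconv a, mul_zero]
    rw [← e2]
    simp only [hM, Finset.sum_mul_sum, Finset.mul_sum, add_pow, Finset.sum_mul]
    rw [Finset.sum_comm]
    refine Finset.sum_congr rfl fun b _ => ?_
    rw [Finset.sum_comm]
    refine Finset.sum_congr rfl fun d _ => Finset.sum_congr rfl fun j _ => ?_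
    ring
  have hzero : ∀ i, 2 * i < p → M i = 0 := by
    intro i
    induction i using Nat.strong_induction_on with
    | _ i ih =>
      intro hi
      have h1 := hrel (2 * i)
      rw [Finset.sum_eq_single i (fun j hj hne => by
        have hj' := Finset.mem_range.mp hj
        rcases lt_or_gt_of_ne hne with h | h
        · rw [ih j h (by omega), mul_zero, mul_zero]
        · rw [ih (2 * i - j) (by omega) (by omega), zero_mul, mul_zero]) (fun h => absurd (Finset.mem_range.mpr (by omega)) h),
        show 2 * i - i = i by omega] at h1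
      rcases mul_eq_zero.mp h1 with h2 | h2
      · exfalso
        have h3 : p ∣ (2 * i).factorial := by
          rw [← Nat.choose_mul_factorial_mul_factorial (show i ≤ 2 * i by omega)]
          exact Dvd.dvd.mul_right (Dvd.dvd.mul_right ((ZMod.natCast_eq_zero_iff _ _).mp h2) _) _
        have := (Nat.Prime.dvd_factorial hp.out).mp h3
        omega
      · exact mul_self_eq_zero.mp h2
  have hp3 : 3 ≤ p := by
    have := hp.out.two_le
    omega
  have hpodd : p % 2 = 1 := Nat.odd_iff.mp (hp.out.odd_of_ne_two hp2)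
  set r := (p - 1) / 2 with hr
  set P : (ZMod p)[X] :=
    ∑ j ∈ Finset.range r, C (-((p - 1).choose j : ZMod p) * (-1) ^ (p - 1 - j) * M (p - 1 - j)) * X ^ j with hP
  have hdeg : P.natDegree < r := by
    have hr0 : 0 < r := by omega
    refine lt_of_le_of_lt (natDegree_sum_le_of_forall_le _ _ (n := r - 1) fun j hj => ?_) (by omega)
    exact (natDegree_C_mul_X_pow_le _ j).trans (by have := Finset.mem_range.mp hj; omega)
  have heval : ∀ a, P.eval a = h a := fun a => by
    have e0 : ∀ b, ((a - b) ^ (p - 1) : ZMod p) = if b = a then 0 else 1 := fun b => by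
      by_cases hb : b = a
      · rw [if_pos hb, hb, sub_self, zero_pow (by omega)]
      · rw [if_neg hb]
        exact ZMod.pow_card_sub_one_eq_one (sub_ne_zero.mpr (Ne.symm hb))
    have e1 : ∑ b, h b * (a - b) ^ (p - 1) = -h a := by
      have e3 : ∀ b, h b * (a - b) ^ (p - 1) = h b - if b = a then h b else 0 := fun b => by
        rw [e0 b]; split <;> simp
      rw [Finset.sum_congr rfl fun b _ => e3 b, Finset.sum_sub_distrib, hsum, Finset.sum_ite_eq',
        if_pos (Finset.mem_univ a), zero_sub]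
    have e2 : ∑ b, h b * (a - b) ^ (p - 1) =
        ∑ j ∈ Finset.range (p - 1 + 1), ((p - 1).choose j : ZMod p) * (-1) ^ (p - 1 - j) * M (p - 1 - j) * a ^ j := by
      simp only [hM, sub_eq_add_neg, add_pow, Finset.mul_sum, Finset.sum_mul]
      rw [Finset.sum_comm]
      refine Finset.sum_congr rfl fun j _ => Finset.sum_congr rfl fun b _ => ?_
      rw [neg_pow]
      ring
    rw [← Finset.sum_subset (Finset.range_subset_range.mpr (show r ≤ p - 1 + 1 by omega)) (fun j hj hj' => by
      rw [hzero (p - 1 - j) (by simp only [Finset.mem_range] at hj hj'; omega), mul_zero, zero_mul])] at e2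
    rw [hP, eval_finsetSum, ← neg_neg (h a), ← e1, e2, ← Finset.sum_neg_distrib]
    refine Finset.sum_congr rfl fun j _ => ?_
    simp only [eval_mul, eval_pow, eval_C, eval_X]
    ring
  have hQ : P * (P - 1) = 0 := by
    refine eq_zero_of_natDegree_lt_card_of_eval_eq_zero' _ (Finset.univ.erase (0 : ZMod p)) (fun a ha => ?_) ?_
    · rw [eval_mul, eval_sub, eval_one, heval]
      rcases hv a (Finset.ne_of_mem_erase ha) with e | e <;> rw [e] <;> simp
    · rw [Finset.card_erase_of_mem (Finset.mem_univ _), Finset.card_univ, ZMod.card]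
      refine lt_of_le_of_lt natDegree_mul_le ?_
      have h1 : (P - 1).natDegree ≤ max P.natDegree (natDegree (1 : (ZMod p)[X])) := natDegree_sub_le _ _
      rw [natDegree_one] at h1
      omega
  rcases mul_eq_zero.mp hQ with e | e
  · exact Or.inl fun a _ => by rw [← heval, e, eval_zero]
  · exact Or.inr fun a _ => by rw [← heval, sub_eq_zero.mp e, eval_one]

variable {G Ω : Type*} [Group G] [Finite G] [MulAction G Ω] {C : Subgroup G} {a : Ω}
  (hb : Function.Bijective fun c : C => (c : G) • a)
include hb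

/-- For order `p^k`, `k ≥ 2`, all nontrivial elements lie in one suborbit. -/
theorem rel_of_prime [IsCyclic C] (hH : IsCoatom (MulAction.stabilizer G a)) {p : ℕ} [hp : Fact p.Prime] (hp2 : p ≠ 2)
    (hpn2 : p ^ 2 ∣ Nat.card C) {w : C} (hw : orderOf w = p) {c : C} (hc : c ≠ 1) : Rel a c w := by
  classical
  have hpn : p ∣ Nat.card C := (dvd_pow_self p two_ne_zero).trans hpn2
  letI : Fintype C := Fintype.ofFinite C
  letI : CommGroup C := IsCyclic.commGroup
  have hw1 : w ≠ 1 := fun e => hp.out.ne_one (by rw [← hw, e, orderOf_one])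
  have hwp : w ^ p = 1 := hw ▸ pow_orderOf_eq_one w
  have hΩ : ∀ z : C, z ^ p = 1 → z ∈ Subgroup.zpowers w := by
    intro z hz
    have hsub : (Finset.range p).image (fun i => w ^ i) ⊆ Finset.univ.filter fun z => z ^ p = 1 := fun x hx => by
      obtain ⟨i, -, rfl⟩ := Finset.mem_image.mp hx
      rw [Finset.mem_filter]
      exact ⟨Finset.mem_univ _, by rw [pow_right_comm, hwp, one_pow]⟩
    have heq := Finset.eq_of_subset_of_card_le hsub (by
      rw [Finset.card_image_of_injOn (fun i hi j hj e =>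
        pow_injOn_Iio_orderOf (by simpa [hw] using hi) (by simpa [hw] using hj) e), Finset.card_range]
      exact IsCyclic.card_pow_eq_one_le hp.out.pos)
    have hz' : z ∈ (Finset.range p).image (fun i => w ^ i) :=
      heq.symm ▸ Finset.mem_filter.mpr ⟨Finset.mem_univ _, hz⟩
    obtain ⟨i, -, rfl⟩ := Finset.mem_image.mp hz'
    exact Subgroup.pow_mem _ (Subgroup.mem_zpowers w) i
  -- the suborbit of `w`
  set u : C → ZMod p := fun x => if Rel a w x then 1 else 0 with hu
  have huI : Inv a u := fun x x' h => if_congr ⟨fun h' => h'.trans h, fun h' => h'.trans h.symm⟩ rfl rfl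
  have hnot1 : ∀ x : C, x ≠ 1 → ¬ Rel a x 1 := fun x hx hr => by
    obtain ⟨h, ha, h1⟩ := hr.symm
    rw [Subgroup.coe_one, one_smul, ha] at h1
    exact hx (hb.1 (by simp [← h1]))
  have hcos : ∀ x z : C, x ^ p ≠ 1 → z ^ p = 1 → u (x * z) = u x := by
    intro x z hx hz
    refine if_congr ⟨fun h => ?_, fun h => coset_subset hb hH hpn hw1 h hx hz⟩ rfl rfl
    have := coset_subset hb hH hpn hw1 h (z := z⁻¹) (by rwa [mul_pow, hz, mul_one]) (by rw [inv_pow, hz, inv_one])
    rwa [mul_inv_cancel_right] at this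
  -- sums over full cosets vanish
  have hzero : ∀ (P : C → Prop) [DecidablePred P] (F : C → ZMod p), (∀ x z : C, z ^ p = 1 → (P (x * z) ↔ P x)) →
      (∀ x z : C, P x → z ^ p = 1 → F (x * z) = F x) → ∑ x ∈ Finset.univ.filter P, F x = 0 := by
    intro P _ F hP hF
    rw [← Finset.sum_fiberwise _ (fun x => x ^ p) F]
    refine Finset.sum_eq_zero fun y _ => ?_
    rcases Finset.eq_empty_or_nonempty ((Finset.univ.filter P).filter fun x => x ^ p = y) with e | ⟨x₀, hx₀⟩
    · rw [e, Finset.sum_empty]
    simp only [Finset.mem_filter, Finset.mem_univ, true_and] at hx₀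
    have himg : ((Finset.univ.filter P).filter fun x => x ^ p = y) = (Finset.range p).image fun i => x₀ * w ^ i := by
      ext x
      simp only [Finset.mem_filter, Finset.mem_univ, true_and, Finset.mem_image, Finset.mem_range]
      constructor
      · rintro ⟨-, hx⟩
        obtain ⟨i, hi⟩ := Subgroup.mem_zpowers_iff.mp (hΩ (x₀⁻¹ * x) (by
          rw [mul_pow, inv_pow, hx₀.2, hx, inv_mul_cancel]))
        refine ⟨(i % p).toNat, ?_, ?_⟩
        · have := Int.emod_lt_of_pos i (show (0 : ℤ) < p by exact_mod_cast hp.out.pos)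
          have := Int.emod_nonneg i (show (p : ℤ) ≠ 0 by exact_mod_cast hp.out.ne_zero)
          omega
        · rw [← zpow_natCast, Int.toNat_of_nonneg (Int.emod_nonneg i (by exact_mod_cast hp.out.ne_zero)),
            ← hw, zpow_mod_orderOf, hi, mul_inv_cancel_left]
      · rintro ⟨i, -, rfl⟩
        exact ⟨(hP x₀ _ (by rw [pow_right_comm, hwp, one_pow])).mpr hx₀.1,
          by rw [mul_pow, pow_right_comm, hwp, one_pow, mul_one, hx₀.2]⟩
    rw [himg, Finset.sum_image (fun i hi j hj e => pow_injOn_Iio_orderOf (by simpa [hw] using hi)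
      (by simpa [hw] using hj) (mul_left_cancel e)), Finset.sum_congr rfl fun i _ =>
      hF x₀ (w ^ i) hx₀.1 (by rw [pow_right_comm, hwp, one_pow])]
    simp
  -- the trace on the subgroup of order `p`
  let e : ZMod p → C := fun i => w ^ i.val
  have heinj : Function.Injective e := fun i j h => ZMod.val_injective p
    (pow_injOn_Iio_orderOf (by simpa [hw] using ZMod.val_lt i) (by simpa [hw] using ZMod.val_lt j) h)
  have hadd : ∀ i j, e (i + j) = e i * e j := fun i j => by
    show w ^ (i + j).val = w ^ i.val * w ^ j.val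
    rw [← pow_add, pow_eq_pow_iff_modEq, hw, ZMod.val_add]
    exact Nat.mod_modEq _ _
  have hep : ∀ i, e i ^ p = 1 := fun i => by rw [pow_right_comm, hwp, one_pow]
  have hsumΩ : ∀ F : C → ZMod p, ∑ x ∈ Finset.univ.filter (fun x : C => x ^ p = 1), F x = ∑ i, F (e i) := by
    intro F
    refine (Finset.sum_bij (fun i _ => e i) (fun i _ => by simp [hep]) (fun i _ j _ h => heinj h) (fun x hx => ?_)
      (fun _ _ => rfl)).symm
    simp only [Finset.mem_filter, Finset.mem_univ, true_and] at hx
    obtain ⟨k, hk⟩ := Subgroup.mem_zpowers_iff.mp (hΩ x hx)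
    refine ⟨(k : ZMod p), Finset.mem_univ _, ?_⟩
    show w ^ (k : ZMod p).val = x
    rw [← hk, ← zpow_natCast, zpow_eq_zpow_iff_modEq, hw, ZMod.val_intCast]
    exact Int.mod_modEq k p
  set cc : ZMod p := ∑ i, u (e i) with hcc
  set f : C → ZMod p := fun y => (∑ x, u x * u (x⁻¹ * y)) - 2 * cc * u y with hf
  have hfI : Inv a f := by
    intro y y' hr
    obtain ⟨h, ha, hy⟩ := id hr
    have h1 : ∑ x, u x * u (x⁻¹ * y) = ∑ x, u x * u (x⁻¹ * y') :=
      Fintype.sum_equiv (move hb h) _ _ fun x => by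
        rw [huI x (move hb h x) ⟨h, ha, (move_spec hb h x).symm⟩, huI _ _ (rel_div hb hy x)]
    show _ - _ = _ - _
    rw [h1, huI y y' hr]
  have hout : ∀ y : C, y ^ p ≠ 1 → f y = 0 := by
    intro y hy
    show _ - _ = 0
    rw [← Finset.sum_filter_add_sum_filter_not Finset.univ (fun x : C => x ^ p = 1), hsumΩ,
      ← Finset.sum_filter_add_sum_filter_not (Finset.univ.filter fun x : C => ¬ x ^ p = 1) (fun x => x ^ p = y ^ p),
      Finset.filter_filter, Finset.filter_filter]
    have h1 : ∑ i, u (e i) * u ((e i)⁻¹ * y) = cc * u y := by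
      rw [hcc, Finset.sum_mul]
      refine Finset.sum_congr rfl fun i _ => ?_
      rw [mul_comm (e i)⁻¹ y, hcos y _ hy (by rw [inv_pow, hep, inv_one])]
    have h2 : ∑ x ∈ Finset.univ.filter (fun x : C => ¬ x ^ p = 1 ∧ x ^ p = y ^ p), u x * u (x⁻¹ * y) = cc * u y := by
      rw [hcc, Finset.sum_mul]
      refine Finset.sum_bij' (i := fun x _ => (e.invFun (x⁻¹ * y))) (j := fun i _ => y * (e i)⁻¹)
        (fun x _ => Finset.mem_univ _) (fun i _ => by
          simp only [Finset.mem_filter, Finset.mem_univ, true_and, mul_pow, inv_pow, hep, inv_one, mul_one]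
          exact ⟨hy, trivial⟩) (fun x hx => ?_) (fun i _ => ?_) (fun x hx => ?_)
      · simp only [Finset.mem_filter, Finset.mem_univ, true_and] at hx
        obtain ⟨k, hk⟩ : ∃ i, e i = x⁻¹ * y := by
          obtain ⟨k, hk⟩ := Subgroup.mem_zpowers_iff.mp (hΩ (x⁻¹ * y) (by
            rw [mul_pow, inv_pow, hx.2, inv_mul_cancel]))
          refine ⟨(k : ZMod p), ?_⟩
          show w ^ (k : ZMod p).val = _
          rw [← hk, ← zpow_natCast, zpow_eq_zpow_iff_modEq, hw, ZMod.val_intCast]
          exact Int.mod_modEq k p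
        rw [Function.invFun_eq ⟨k, hk⟩, mul_inv_rev, inv_inv, mul_comm y⁻¹ x, mul_comm x y⁻¹, mul_inv_cancel_left]
      · rw [show (y * (e i)⁻¹)⁻¹ * y = e i by rw [mul_inv_rev, inv_inv, mul_assoc, inv_mul_cancel, mul_one],
          Function.leftInverse_invFun heinj]
      · simp only [Finset.mem_filter, Finset.mem_univ, true_and] at hx
        have hz : (x⁻¹ * y) ^ p = 1 := by rw [mul_pow, inv_pow, hx.2, inv_mul_cancel]
        obtain ⟨i, hi⟩ : ∃ i, e i = x⁻¹ * y := by
          obtain ⟨k, hk⟩ := Subgroup.mem_zpowers_iff.mp (hΩ _ hz)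
          refine ⟨(k : ZMod p), ?_⟩
          show w ^ (k : ZMod p).val = _
          rw [← hk, ← zpow_natCast, zpow_eq_zpow_iff_modEq, hw, ZMod.val_intCast]
          exact Int.mod_modEq k p
        rw [Function.invFun_eq ⟨i, hi⟩, mul_comm (u x)]
        congr 1
        conv_rhs => rw [show y = x * (x⁻¹ * y) from (mul_inv_cancel_left x y).symm]
        rw [hcos x _ hx.1 hz]
    have h3 : ∑ x ∈ Finset.univ.filter (fun x : C => ¬ x ^ p = 1 ∧ ¬ x ^ p = y ^ p), u x * u (x⁻¹ * y) = 0 := by
      refine hzero _ _ (fun x z hz => by rw [mul_pow, hz, mul_one]) fun x z hx hz => ?_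
      rw [hcos x z hx.1 hz, mul_inv_rev, mul_assoc, mul_comm z⁻¹, hcos _ _ ?_ (by rw [inv_pow, hz, inv_one])]
      rw [mul_pow, inv_pow]
      intro e'
      exact hx.2 (inv_mul_eq_one.mp e')
    rw [h1, h2, h3]
    ring
  -- an invariant function supported on the subgroup of order `p` is a multiple of the identity
  have hin : ∀ i : ZMod p, i ≠ 0 → f (e i) = 0 := by
    intro i hi
    by_contra hne
    have hne1 : e i ≠ 1 := fun h => hi (heinj (h.trans (by simp [e])))
    let U : Set C := {y | y ≠ 1 ∧ f y ≠ 0}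
    have hU : ∀ y y', Rel a y y' → y ∈ U → y' ∈ U := fun y y' hr hy =>
      ⟨fun h => hnot1 y hy.1 (h ▸ hr), fun h => hy.2 ((hfI y y' hr).trans h)⟩
    have hle : Subgroup.closure U ≤ (powMonoidHom p : C →* C).ker := by
      rw [Subgroup.closure_le]
      intro y hy
      by_contra h
      exact hy.2 (hout y h)
    have htop : Subgroup.closure U ≠ ⊤ := fun htop => by
      obtain ⟨g, hg⟩ := IsCyclic.exists_generator (α := C)
      have h1 : orderOf g ∣ p := orderOf_dvd_of_pow_eq_one (hle (htop ▸ Subgroup.mem_top g))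
      rw [orderOf_eq_card_of_forall_mem_zpowers hg] at h1
      have h2 := Nat.le_of_dvd hp.out.pos (hpn2.trans h1)
      have h3 := hp.out.two_le
      nlinarith
    have hbot := eq_bot_of_invariant hb hH htop (closure_invariant hb hU)
    exact hne1 ((Subgroup.eq_bot_iff_forall _).mp hbot _ (Subgroup.subset_closure ⟨hne1, hne⟩))
  -- the trace has vanishing self-convolution
  set h : ZMod p → ZMod p := fun i => u (e i) - if i = 0 then cc else 0 with hh
  have hval : ∀ i, f (e i) = (∑ j, u (e j) * u (e (i - j))) - 2 * cc * u (e i) := by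
    intro i
    show _ - _ = _
    rw [← Finset.sum_filter_add_sum_filter_not Finset.univ (fun x : C => x ^ p = 1), hsumΩ,
      hzero (fun x => ¬ x ^ p = 1) (fun x => u x * u (x⁻¹ * e i)) (fun x z hz => by rw [mul_pow, hz, mul_one])
        (fun x z hx hz => by
          show u (x * z) * u ((x * z)⁻¹ * e i) = _
          rw [hcos x z hx hz, mul_inv_rev, mul_assoc, mul_comm z⁻¹, hcos _ _ ?_ (by rw [inv_pow, hz, inv_one])]
          rw [mul_pow, inv_pow, hep, mul_one]
          exact fun e' => hx (inv_eq_one.mp e')), add_zero]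
    congr 1
    refine Finset.sum_congr rfl fun j _ => ?_
    congr 2
    rw [inv_mul_eq_iff_eq_mul, ← hadd, add_sub_cancel]
  have hue0 : u (e 0) = 0 := by
    show (if Rel a w (e 0) then 1 else 0 : ZMod p) = 0
    rw [if_neg]
    simpa [e] using hnot1 w hw1
  have hhh : ∀ i, ∑ j, h j * h (i - j) = (∑ j, u (e j) * u (e (i - j))) - 2 * cc * u (e i) +
      if i = 0 then cc * cc else 0 := by
    intro i
    simp only [hh, sub_mul, mul_sub, Finset.sum_sub_distrib, ite_mul, mul_ite, zero_mul, mul_zero,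
      Finset.sum_ite_eq', Finset.mem_univ, if_true, sub_zero]
    have h1 : ∀ j, (i - j = 0) ↔ j = i := fun j => by rw [sub_eq_zero, eq_comm]
    simp only [h1, Finset.sum_ite_eq', Finset.mem_univ, if_true]
    split_ifs <;> ring
  have hsum : ∑ i, h i = 0 := by
    simp [hh, Finset.sum_sub_distrib, hcc]
  have hne0 : ∀ i, i ≠ 0 → ∑ j, h j * h (i - j) = 0 := fun i hi => by
    rw [hhh, if_neg hi, add_zero, ← hval, hin i hi]
  have hconv : ∀ i, ∑ j, h j * h (i - j) = 0 := by
    intro i
    by_cases hi : i = 0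
    swap
    · exact hne0 i hi
    subst hi
    have htot : ∑ i : ZMod p, ∑ j, h j * h (i - j) = 0 := by
      rw [Finset.sum_comm]
      refine Finset.sum_eq_zero fun j _ => ?_
      rw [← Finset.mul_sum, Fintype.sum_equiv (Equiv.subRight j) (fun i => h (i - j)) h (fun i => rfl), hsum, mul_zero]
    rwa [Finset.sum_eq_single 0 (fun i _ hi => hne0 i hi) (fun h => absurd (Finset.mem_univ _) h)] at htot
  have hv : ∀ i, i ≠ 0 → h i = 0 ∨ h i = 1 := fun i hi => by
    simp only [hh, hu, if_neg hi, sub_zero]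
    split <;> simp
  rcases const_of_conv hp2 h hv hsum hconv with hz | hone
  · exfalso
    have h1 := hz 1 one_ne_zero
    simp only [hh, if_neg (one_ne_zero : (1 : ZMod p) ≠ 0), sub_zero, hu] at h1
    rw [if_pos (by simpa [e, ZMod.val_one] using Rel.refl w)] at h1
    exact one_ne_zero h1
  · obtain ⟨x, hx, hxp⟩ := meets hb hH hpn hc
    obtain ⟨k, hk⟩ := Subgroup.mem_zpowers_iff.mp (hΩ x hxp)
    have hx' : e (k : ZMod p) = x := by
      show w ^ (k : ZMod p).val = x
      rw [← hk, ← zpow_natCast, zpow_eq_zpow_iff_modEq, hw, ZMod.val_intCast]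
      exact Int.mod_modEq k p
    have hk0 : (k : ZMod p) ≠ 0 := fun h0 => hnot1 c hc (by
      rw [← hx', h0] at hx
      simpa [e] using hx)
    have h1 := hone _ hk0
    simp only [hh, if_neg hk0, sub_zero, hu] at h1
    split at h1
    · next h2 => exact hx.trans (hx' ▸ h2.symm)
    · exact absurd h1 zero_ne_one

omit hb in
/-- A primitive group with a regular cyclic subgroup of composite odd order is 2-transitive. -/
theorem two_trans [Finite Ω] [MulAction.IsPretransitive G Ω] [MulAction.IsPreprimitive G Ω]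
    (C : Subgroup G) [IsCyclic C] {a : Ω} (hb : Function.Bijective fun c : C => (c : G) • a)
    (hodd : Odd (Nat.card Ω)) (h2 : 2 ≤ Nat.card Ω) (hnp : ¬ (Nat.card Ω).Prime) :
    MulAction.IsMultiplyPretransitive G Ω 2 := by
  haveI : Nontrivial Ω := Finite.one_lt_card_iff_nontrivial.mp (by omega)
  have hH : IsCoatom (MulAction.stabilizer G a) :=
    (MulAction.isCoatom_stabilizer_iff_preprimitive G a).mpr inferInstance
  have hcard : Nat.card C = Nat.card Ω := Nat.card_eq_of_bijective _ hb
  obtain ⟨p, hp, hpn⟩ := Nat.exists_prime_and_dvd (n := Nat.card C) (by omega)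
  haveI := Fact.mk hp
  obtain ⟨w, hw⟩ := exists_prime_orderOf_dvd_card' p hpn
  have hw1 : w ≠ 1 := fun e => hp.ne_one (by rw [← hw, e, orderOf_one])
  have key : ∀ c : C, c ≠ 1 → Rel a c w := by
    by_cases hr : ∃ r, r.Prime ∧ r ∣ Nat.card C ∧ r ≠ p
    · obtain ⟨r, hr, hrn, hrp⟩ := hr
      haveI := Fact.mk hr
      obtain ⟨z, hz⟩ := exists_prime_orderOf_dvd_card' r hrn
      exact fun c hc => rel_of_ne hb hH hrp hrn hpn hc (hz ▸ pow_orderOf_eq_one z)
        (fun e => hr.ne_one (by rw [← hz, e, orderOf_one])) (hw ▸ pow_orderOf_eq_one w) hw1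
    · push Not at hr
      have hp2 : p ≠ 2 := fun e => Nat.not_even_iff_odd.mpr hodd (even_iff_two_dvd.mpr (by rw [← hcard, ← e]; exact hpn))
      obtain ⟨k, hk⟩ : ∃ k, Nat.card C = p ^ k :=
        ⟨_, Nat.eq_prime_pow_of_unique_prime_dvd (Nat.card_pos.ne') fun {d} hd hdn => hr d hd hdn⟩
      have hk2 : 2 ≤ k := by
        rcases k with _ | _ | k
        · rw [pow_zero] at hk; omega
        · rw [zero_add, pow_one] at hk; exact absurd (hcard ▸ hk ▸ hp) hnp
        · omega
      exact fun c hc => rel_of_prime hb hH hp2 (hk ▸ pow_dvd_pow p hk2) hw hc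
  have hpt : ∀ x, x ≠ a → ∃ h : G, h • a = a ∧ h • x = (w : G) • a := fun x hx => by
    obtain ⟨c, rfl⟩ := hb.2 x
    exact key c (fun e => hx (by subst e; simp))
  refine MulAction.is_two_pretransitive_iff.mpr fun {b b' d d'} hbb hdd => ?_
  obtain ⟨g, hg⟩ := MulAction.exists_smul_eq G b a
  obtain ⟨k, hk⟩ := MulAction.exists_smul_eq G d a
  obtain ⟨h, ha, hh⟩ := hpt (g • b') (fun e => hbb (smul_left_cancel g (hg.trans e.symm)))
  obtain ⟨m, ma, hm⟩ := hpt (k • d') (fun e => hdd (smul_left_cancel k (hk.trans e.symm)))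
  refine ⟨k⁻¹ * m⁻¹ * h * g, ?_, ?_⟩
  · rw [mul_smul, mul_smul, mul_smul, hg, ha, inv_smul_eq_iff.mpr ma.symm, inv_smul_eq_iff]
    exact hk.symm
  · rw [mul_smul, mul_smul, mul_smul, hh, ← hm, inv_smul_smul, inv_smul_smul]

end CfsgLib.JT
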