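import Cfsg.Agent.Lib.JTType.AffineBase
import Cfsg.Agent.Lib.JTType.SchurPower
import Cfsg.Agent.S0675

/-!
Groups of affine maps of a vector space over `GF(2)` whose stabiliser of `0` is odd and normalises a Singer cycle.

* `eight`: if such a group is transitive and contains no translation, the space has eight elements.
-/

set_option autoImplicit false
set_option linter.unusedSectionVars false

namespace CfsgLib.JT

universe u v

/-- The action on the non-trivial elements through automorphisms. -/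
@[reducible]
def ptAction {M : Type*} [Group M] {U : Type*} [Group U] (φ : M →* MulAut U) : MulAction M {u : U // u ≠ 1} where
  smul m u := ⟨φ m u, fun e => u.2 ((φ m).injective (e.trans (map_one (φ m)).symm))⟩
  one_smul u := Subtype.ext (by show φ 1 (u : U) = u; rw [map_one]; rfl)
  mul_smul m m' u := Subtype.ext (by show φ (m * m') (u : U) = φ m (φ m' u); rw [map_mul]; rfl)

/-- The stabiliser of a point under a homomorphism into the automorphisms. -/
def fixer {M : Type*} [Group M] {U : Type*} [Group U] (φ : M →* MulAut U) (u : U) : Subgroup M where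
  carrier := {m | φ m u = u}
  one_mem' := by show φ 1 u = u; rw [map_one]; rfl
  mul_mem' := fun {a b} ha hb => by
    show φ (a * b) u = u
    rw [map_mul, MulAut.mul_apply, show φ b u = u from hb, show φ a u = u from ha]
  inv_mem' := fun {a} ha => by
    show φ a⁻¹ u = u
    rw [map_inv, MulAut.inv_apply, MulEquiv.symm_apply_eq]
    exact (show φ a u = u from ha).symm

theorem mem_fixer {M : Type*} [Group M] {U : Type*} [Group U] {φ : M →* MulAut U} {u : U} {m : M} :
    m ∈ fixer φ u ↔ φ m u = u := Iff.rfl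

/-- The hypotheses: an affine action with faithful linear part, `h` transitive on the nonzero vectors. -/
structure Affine (U : Type u) [CommGroup U] (W : Type v) [Group W] [MulAction W U] where
  ℓ : W →* MulAut U
  inj : Function.Injective ℓ
  aff : ∀ (w : W) (x y : U), w • (x * y) = (w • x) * ℓ w y
  trans : ∀ x : U, ∃ w : W, w • (1 : U) = x
  odd : Odd (Nat.card (MulAction.stabilizer W (1 : U)))
  h : W
  h1 : h • (1 : U) = 1
  singer : ∀ u v : U, u ≠ 1 → v ≠ 1 → ∃ i : ℕ, ℓ (h ^ i) u = v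
  norm : ∀ x : W, x • (1 : U) = 1 → x * h * x⁻¹ ∈ Subgroup.zpowers h
  sq : ∀ x : U, x * x = 1
  four : 4 ≤ Nat.card U

variable {U : Type u} [CommGroup U] [Finite U] {W : Type v} [Group W] [Finite W] [MulAction W U]

namespace Affine

variable (A : Affine U W)
include A

theorem lin {x : W} (hx : x • (1 : U) = 1) (y : U) : x • y = A.ℓ x y := by
  rw [← one_mul y, A.aff, hx, one_mul, one_mul]

theorem eq_one_of_fix {x : W} (hx : ∀ y : U, x • y = y) : x = 1 :=
  A.inj (MulEquiv.ext fun y => by rw [← A.lin (hx 1), hx, map_one]; rfl)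

theorem hpow1 (i : ℕ) : (A.h ^ i) • (1 : U) = 1 :=
  (show A.h ^ i ∈ MulAction.stabilizer W (1 : U) from pow_mem A.h1 i)

/-- A nontrivial normal subgroup is transitive. -/
theorem normal_trans (N : Subgroup W) [N.Normal] (hN : N ≠ ⊥) (v : U) : ∃ w ∈ N, w • (1 : U) = v := by
  by_cases hv : v = 1
  · exact ⟨1, one_mem N, by rw [one_smul, hv]⟩
  obtain ⟨m, hm, hm1⟩ : ∃ m ∈ N, m • (1 : U) ≠ 1 := by
    by_contra hcon
    push Not at hcon
    obtain ⟨m, hm, hm1⟩ := (Subgroup.bot_or_exists_ne_one N).resolve_left hN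
    refine hm1 (A.eq_one_of_fix fun y => ?_)
    obtain ⟨w, rfl⟩ := A.trans y
    have h := hcon _ ((inferInstance : N.Normal).conj_mem m hm w⁻¹)
    rwa [inv_inv, mul_smul, mul_smul, inv_smul_eq_iff] at h
  obtain ⟨i, hi⟩ := A.singer _ v hm1 hv
  refine ⟨A.h ^ i * m * (A.h ^ i)⁻¹, (inferInstance : N.Normal).conj_mem m hm _, ?_⟩
  rw [mul_smul, mul_smul, inv_smul_eq_iff.mpr (A.hpow1 i).symm, A.lin (A.hpow1 i), hi]

/-- No nontrivial normal 2-subgroup. -/
theorem no_normal_two (N : Subgroup W) [N.Normal] (hp : IsPGroup 2 N) : N = ⊥ := by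
  classical
  haveI : Fact (Nat.Prime 2) := ⟨Nat.prime_two⟩
  letI := ptAction (A.ℓ.comp N.subtype)
  have hmod := hp.card_modEq_card_fixedPoints {u : U // u ≠ 1}
  have hcard : Nat.card {u : U // u ≠ 1} = Nat.card U - 1 := by
    haveI := Fintype.ofFinite U
    rw [Nat.card_eq_fintype_card, Nat.card_eq_fintype_card]
    simp
  obtain ⟨n, hn⟩ := (show IsPGroup 2 U from fun x => ⟨1, by rw [pow_one, pow_two, A.sq]⟩).exists_card_eq
  have hpos : 0 < Nat.card (MulAction.fixedPoints N {u : U // u ≠ 1}) := by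
    rcases Nat.eq_zero_or_pos (Nat.card (MulAction.fixedPoints N {u : U // u ≠ 1})) with h0 | h0
    · exfalso
      rw [h0, hcard, hn, Nat.ModEq, Nat.zero_mod] at hmod
      have h4 := A.four
      rw [hn] at h4
      have : 2 ∣ 2 ^ n := dvd_pow_self 2 (fun e => by rw [e] at h4; norm_num at h4)
      omega
    · exact h0
  obtain ⟨⟨u₁, hu₁⟩, hfix⟩ := (Nat.card_pos_iff.mp hpos).1
  have hall : ∀ x : N, A.ℓ (x : W) = 1 := fun x => MulEquiv.ext fun v => by
    by_cases hv : v = 1
    · rw [hv, map_one, map_one]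
    obtain ⟨i, hi⟩ := A.singer u₁ v hu₁ hv
    have h2 := congrArg Subtype.val (hfix ⟨(A.h ^ i)⁻¹ * (x : W) * A.h ^ i, by
      simpa using (inferInstance : N.Normal).conj_mem x x.2 (A.h ^ i)⁻¹⟩)
    change A.ℓ ((A.h ^ i)⁻¹ * (x : W) * A.h ^ i) u₁ = u₁ at h2
    rw [map_mul, map_mul, map_inv, MulAut.mul_apply, MulAut.mul_apply, hi, MulAut.inv_apply,
      MulEquiv.symm_apply_eq, hi] at h2
    exact h2
  exact (Subgroup.eq_bot_iff_forall N).mpr fun x hx => A.inj ((hall ⟨x, hx⟩).trans (map_one A.ℓ).symm)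

/-- No nontrivial solvable normal subgroup. -/
theorem no_normal_solvable (N : Subgroup W) [N.Normal] (hs : Group.IsSolvable N) : N = ⊥ := by
  classical
  obtain ⟨k, hk⟩ := (Group.isSolvable_def N).mp hs
  induction k with
  | zero =>
    rw [derivedSeries_zero] at hk
    refine (Subgroup.eq_bot_iff_forall N).mpr fun x hx => ?_
    have h1 : (⟨x, hx⟩ : N) ∈ (⊤ : Subgroup N) := Subgroup.mem_top _
    rw [hk, Subgroup.mem_bot] at h1
    exact congrArg Subtype.val h1
  | succ k ih =>
    refine ih (by_contra fun hne => ?_)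
    set M := (derivedSeries N k).map N.subtype with hM
    have hMne : M ≠ ⊥ := fun e => hne ((Subgroup.map_eq_bot_iff_of_injective _ N.subtype_injective).mp e)
    haveI : (derivedSeries N k).Characteristic := derivedSeries_characteristic N k
    haveI : M.Normal := inferInstance
    have hcomm : ∀ a ∈ M, ∀ b ∈ M, a * b = b * a := by
      rintro _ ⟨a, ha, rfl⟩ _ ⟨b, hb, rfl⟩
      have h1 := Subgroup.commutator_mem_commutator ha hb
      rw [← derivedSeries_succ, hk, Subgroup.mem_bot, commutatorElement_eq_one_iff_mul_comm] at h1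
      exact congrArg N.subtype h1
    have hbij : Function.Bijective fun x : M => (x : W) • (1 : U) := by
      refine ⟨fun x y e => Subtype.ext ?_, fun v => ?_⟩
      · refine (inv_mul_eq_one.mp (A.eq_one_of_fix fun v => ?_)).symm
        obtain ⟨m, hm, rfl⟩ := A.normal_trans M hMne v
        rw [← mul_smul, hcomm _ (mul_mem (inv_mem y.2) x.2) m hm, mul_smul, mul_smul (y : W)⁻¹,
          inv_smul_eq_iff.mpr e]
      · obtain ⟨m, hm, e⟩ := A.normal_trans M hMne v
        exact ⟨⟨m, hm⟩, e⟩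
    obtain ⟨n, hn⟩ := (show IsPGroup 2 U from fun x => ⟨1, by rw [pow_one, pow_two, A.sq]⟩).exists_card_eq
    exact hMne (A.no_normal_two M (IsPGroup.of_card (n := n) (by rw [Nat.card_eq_of_bijective _ hbij, hn])))

theorem hfree {i : ℕ} {u : U} (hu : u ≠ 1) (hi : A.ℓ (A.h ^ i) u = u) : A.h ^ i = 1 := by
  refine A.inj (MulEquiv.ext fun v => ?_)
  rw [map_one, MulAut.one_apply]
  by_cases hv : v = 1
  · rw [hv, map_one]
  obtain ⟨j, rfl⟩ := A.singer u v hu hv
  rw [← MulAut.mul_apply, ← map_mul, (Commute.pow_pow (Commute.refl A.h) i j).eq, map_mul, MulAut.mul_apply, hi]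

theorem mem_zpowers {x : W} (hx : x ∈ Subgroup.zpowers A.h) : ∃ i : ℕ, A.h ^ i = x :=
  (mem_powers_iff_mem_zpowers (x := A.h)).mpr hx

/-- Some translation exists when the stabiliser of zero is just the Singer cycle. -/
theorem false_of_sharp (h0 : ∀ x : W, x • (1 : U) = 1 → ∀ v : U, v ≠ 1 → A.ℓ x v = v → x = 1) : False := by
  classical
  haveI : Fact (Nat.Prime 2) := ⟨Nat.prime_two⟩
  haveI := Fintype.ofFinite U
  haveI := Fintype.ofFinite W
  have htwo : ∀ (x : W) (a b : U), a ≠ b → x • a = a → x • b = b → x = 1 := by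
    intro x a b hab ha hb
    obtain ⟨w, rfl⟩ := A.trans a
    have h1 : (w⁻¹ * x * w) • (1 : U) = 1 := by rw [mul_smul, mul_smul, ha, inv_smul_smul]
    have h2 := h0 _ h1 (w⁻¹ • b) (fun e => hab (by rw [← e, smul_inv_smul])) (by
      rw [← A.lin h1, mul_smul, mul_smul, smul_inv_smul, hb])
    have e : x = w * (w⁻¹ * x * w) * w⁻¹ := by group
    rw [e, h2, mul_one, mul_inv_cancel]
  set q := Nat.card U
  have hX : Nat.card (MulAction.stabilizer W (1 : U)) = q - 1 := by
    obtain ⟨u₀, hu₀⟩ : ∃ u : U, u ≠ 1 := by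
      haveI : Nontrivial U := Finite.one_lt_card_iff_nontrivial.mp (by have := A.four; omega)
      exact exists_ne 1
    have hbij : Function.Bijective fun x : MulAction.stabilizer W (1 : U) =>
        (⟨A.ℓ (x : W) u₀, fun e => hu₀ ((A.ℓ (x : W)).injective (e.trans (map_one _).symm))⟩ : {v : U // v ≠ 1}) := by
      refine ⟨fun x y e => Subtype.ext ?_, fun v => ?_⟩
      · have e' : A.ℓ (x : W) u₀ = A.ℓ (y : W) u₀ := congrArg Subtype.val e
        refine (inv_mul_eq_one.mp (h0 _ (mul_mem (inv_mem y.2) x.2) u₀ hu₀ ?_)).symm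
        rw [map_mul, MulAut.mul_apply, map_inv, MulAut.inv_apply, MulEquiv.symm_apply_eq, e']
      · obtain ⟨i, hi⟩ := A.singer u₀ v hu₀ v.2
        exact ⟨⟨A.h ^ i, A.hpow1 i⟩, Subtype.ext hi⟩
    rw [Nat.card_eq_of_bijective _ hbij, Nat.card_eq_fintype_card]
    simp [q]
  have hstab : ∀ v : U, Nat.card (MulAction.stabilizer W v) = q - 1 := fun v => by
    obtain ⟨w, rfl⟩ := A.trans v
    rw [MulAction.stabilizer_smul_eq_stabilizer_map_conj, Subgroup.card_map_of_injective (MulEquiv.injective _), hX]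
  have hW : Nat.card W = q * (q - 1) := by
    rw [← (MulAction.stabilizer W (1 : U)).index_mul_card, hX]
    congr 1
    rw [MulAction.index_stabilizer, Set.eq_univ_of_forall (s := MulAction.orbit W (1 : U)) (fun v => A.trans v),
      Set.ncard_univ]
  obtain ⟨n, hn⟩ := (show IsPGroup 2 U from fun x => ⟨1, by rw [pow_one, pow_two, A.sq]⟩).exists_card_eq
  have hn0 : n ≠ 0 := fun e => by
    have := A.four
    rw [hn, e] at this
    norm_num at this
  have hq2 : q = 2 ^ n := hn
  obtain ⟨P⟩ : Nonempty (Sylow 2 W) := inferInstance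
  have hPodd : ∀ (x : W) (v : U), x • v = v → (∃ j : ℕ, x ^ 2 ^ j = 1) → x = 1 := by
    rintro x v hx ⟨j, hj⟩
    refine orderOf_eq_one_iff.mp (Nat.eq_one_of_dvd_coprimes (Nat.Coprime.pow_left j (?_ : Nat.Coprime 2 (q - 1))) (orderOf_dvd_of_pow_eq_one hj)
      (by rw [← hstab v, ← Subgroup.orderOf_mk x (show x ∈ MulAction.stabilizer W v from hx)]
          exact orderOf_dvd_natCard _))
    rw [Nat.coprime_two_left, hq2, Nat.odd_iff]
    have : 2 ∣ 2 ^ n := dvd_pow_self 2 hn0
    have := Nat.two_pow_pos n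
    omega
  have hP : Nat.card P = q := by
    have h1 := P.card_eq_multiplicity
    rw [h1, hW, Nat.factorization_mul (show q ≠ 0 from Nat.card_pos.ne')
      (show q - 1 ≠ 0 by have : 4 ≤ q := A.four; omega), Finsupp.add_apply, hq2,
      Nat.Prime.factorization_pow Nat.prime_two, Finsupp.single_eq_same,
      Nat.factorization_eq_zero_of_not_dvd (by
        have : 2 ∣ 2 ^ n := dvd_pow_self 2 hn0
        have := Nat.two_pow_pos n
        omega), add_zero]
  let T := (Σ v : U, {x : W // x • v = v ∧ x ≠ 1}) ⊕ {x : W // x ∈ (P : Subgroup W) ∧ x ≠ 1}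
  let g : T → {x : W // x ≠ 1} := Sum.elim (fun s => ⟨s.2.1, s.2.2.2⟩) (fun p => ⟨p.1, p.2.2⟩)
  have hginj : Function.Injective g := by
    have hex : ∀ p : {x : W // x ∈ (P : Subgroup W) ∧ x ≠ 1}, ∃ j : ℕ, p.1 ^ 2 ^ j = 1 := fun p => by
      obtain ⟨j, hj⟩ := P.2 ⟨p.1, p.2.1⟩
      exact ⟨j, congrArg Subtype.val hj⟩
    rintro (⟨v, x, hx, hx1⟩ | p) (⟨v', x', hx', hx1'⟩ | p') e
    · have e' : x = x' := congrArg Subtype.val e
      subst e'
      have hvv : v = v' := by_contra fun hne => hx1 (htwo x v v' hne hx hx')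
      subst hvv
      rfl
    · exfalso
      have e' : x = p'.1 := congrArg Subtype.val e
      exact p'.2.2 (hPodd _ v (e' ▸ hx) (hex p'))
    · exfalso
      have e' : p.1 = x' := congrArg Subtype.val e
      exact p.2.2 (hPodd _ v' (e'.symm ▸ hx') (hex p))
    · exact congrArg Sum.inr (Subtype.ext (show p.1 = p'.1 from congrArg (fun z : {x : W // x ≠ 1} => z.1) e))
  have hcardT : Nat.card T = Nat.card {x : W // x ≠ 1} := by
    have hne : ∀ {K : Type v} [Group K] [Finite K], Nat.card {x : K // x ≠ 1} = Nat.card K - 1 := fun {K} _ _ => by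
      haveI := Fintype.ofFinite K
      rw [Nat.card_eq_fintype_card, Nat.card_eq_fintype_card]
      simp
    have h1 : ∀ v : U, Nat.card {x : W // x • v = v ∧ x ≠ 1} = q - 1 - 1 := fun v => by
      rw [← hstab v, ← hne]
      exact Nat.card_congr
        { toFun := fun x => ⟨⟨x.1, x.2.1⟩, fun e => x.2.2 (congrArg Subtype.val e)⟩
          invFun := fun x => ⟨x.1.1, x.1.2, fun e => x.2 (Subtype.ext e)⟩
          left_inv := fun _ => rfl
          right_inv := fun _ => rfl }
    have h2 : Nat.card {x : W // x ∈ (P : Subgroup W) ∧ x ≠ 1} = q - 1 := by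
      rw [← hP, ← hne]
      exact Nat.card_congr
        { toFun := fun x => ⟨⟨x.1, x.2.1⟩, fun e => x.2.2 (congrArg Subtype.val e)⟩
          invFun := fun x => ⟨x.1.1, x.1.2, fun e => x.2 (Subtype.ext e)⟩
          left_inv := fun _ => rfl
          right_inv := fun _ => rfl }
    rw [Nat.card_sum, Nat.card_sigma, Finset.sum_congr rfl (fun v _ => h1 v), Finset.sum_const, Finset.card_univ,
      smul_eq_mul, h2, hne, hW, ← Nat.card_eq_fintype_card]
    have := A.four
    obtain ⟨r, hr⟩ : ∃ r, q = r + 2 := ⟨q - 2, by omega⟩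
    rw [show Nat.card U = r + 2 from hr, hr, show r + 2 - 1 - 1 = r by omega, show r + 2 - 1 = r + 1 by omega]
    have : (r + 2) * (r + 1) = (r + 2) * r + r + 1 + 1 := by ring
    omega
  have hgbij : Function.Bijective g := hginj.bijective_of_nat_card_le hcardT.ge
  have hnormal : (P : Subgroup W).Normal := ⟨fun x hx w => by
    by_contra hnot
    have hne : w * x * w⁻¹ ≠ 1 := fun e => hnot (e ▸ one_mem _)
    obtain ⟨s, hs⟩ := hgbij.2 ⟨_, hne⟩
    rcases s with ⟨v, y, hy, hy1⟩ | p
    · have e : y = w * x * w⁻¹ := congrArg Subtype.val hs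
      refine hy1 (hPodd y v hy ?_)
      obtain ⟨j, hj⟩ := P.2 ⟨x, hx⟩
      exact ⟨j, by rw [e, conj_pow, show x ^ 2 ^ j = 1 from congrArg Subtype.val hj, mul_one, mul_inv_cancel]⟩
    · exact hnot ((show p.1 = w * x * w⁻¹ from congrArg Subtype.val hs) ▸ p.2.1)⟩
  have := A.no_normal_two (P : Subgroup W) P.2
  rw [← hP] at hq2
  rw [this, Subgroup.card_bot] at hq2
  exact absurd hq2 (Nat.one_lt_two_pow hn0).ne

/-- The space has eight elements, for a minimal group. -/
theorem eight_core (hmin : ∀ W' : Subgroup W, A.h ∈ W' → (∀ v : U, ∃ w ∈ W', w • (1 : U) = v) → W' = ⊤) :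
    Nat.card U = 8 := by
  classical
  haveI : Fact (Nat.Prime 2) := ⟨Nat.prime_two⟩
  obtain ⟨n, hn⟩ := (show IsPGroup 2 U from fun x => ⟨1, by rw [pow_one, pow_two, A.sq]⟩).exists_card_eq
  have h4 := A.four
  have hn2 : 2 ≤ n := by
    by_contra h
    have := Nat.pow_le_pow_right two_pos (show n ≤ 1 by omega)
    rw [hn] at h4
    omega
  obtain ⟨u₀, hu₀⟩ : ∃ u : U, u ≠ 1 := by
    haveI : Nontrivial U := Finite.one_lt_card_iff_nontrivial.mp (by omega)
    exact exists_ne 1
  haveI := Fintype.ofFinite U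
  have hPt : Nat.card {u : U // u ≠ 1} = 2 ^ n - 1 := by
    rw [← hn, Nat.card_eq_fintype_card, Nat.card_eq_fintype_card]; simp
  set H := Subgroup.zpowers A.h with hH
  set X := MulAction.stabilizer W (1 : U) with hXdef
  set Fs := fixer A.ℓ u₀ with hFs
  set F := X ⊓ Fs with hF
  have hdec : ∀ w : W, ∃ i : ℕ, (A.h ^ i)⁻¹ * w ∈ Fs := fun w => by
    obtain ⟨i, hi⟩ := A.singer u₀ (A.ℓ w u₀) hu₀ (fun e => hu₀ ((A.ℓ w).injective (e.trans (map_one _).symm)))
    refine ⟨i, ?_⟩
    rw [hFs, mem_fixer, map_mul, MulAut.mul_apply, map_inv, MulAut.inv_apply, MulEquiv.symm_apply_eq, hi]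
  -- orders
  have hFsidx : Fs.index = 2 ^ n - 1 := by
    letI := ptAction A.ℓ
    have e : Fs = MulAction.stabilizer W (⟨u₀, hu₀⟩ : {u : U // u ≠ 1}) := by
      ext w
      exact ⟨fun h => Subtype.ext h, fun h => congrArg Subtype.val h⟩
    rw [e, MulAction.index_stabilizer, Set.eq_univ_of_forall (s := MulAction.orbit W (⟨u₀, hu₀⟩ : {u : U // u ≠ 1}))
      (fun v => by
        obtain ⟨i, hi⟩ := A.singer u₀ v hu₀ v.2
        exact ⟨A.h ^ i, Subtype.ext hi⟩), Set.ncard_univ, hPt]
  have hXidx : X.index = 2 ^ n := by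
    rw [hXdef, MulAction.index_stabilizer, Set.eq_univ_of_forall (s := MulAction.orbit W (1 : U)) (fun v => A.trans v),
      Set.ncard_univ, hn]
  have hFidx : F.relIndex X = 2 ^ n - 1 := by
    letI := ptAction (A.ℓ.comp X.subtype)
    have e : F.subgroupOf X = MulAction.stabilizer X (⟨u₀, hu₀⟩ : {u : U // u ≠ 1}) := by
      ext w
      rw [hF, Subgroup.mem_subgroupOf, Subgroup.mem_inf]
      exact ⟨fun h => Subtype.ext h.2, fun h => ⟨w.2, congrArg Subtype.val h⟩⟩
    rw [Subgroup.relIndex, e, MulAction.index_stabilizer,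
      Set.eq_univ_of_forall (s := MulAction.orbit X (⟨u₀, hu₀⟩ : {u : U // u ≠ 1})) (fun v => by
        obtain ⟨i, hi⟩ := A.singer u₀ v hu₀ v.2
        exact ⟨⟨A.h ^ i, A.hpow1 i⟩, Subtype.ext hi⟩), Set.ncard_univ, hPt]
  set f := Nat.card F with hf
  have hXcard : Nat.card X = (2 ^ n - 1) * f := by
    rw [← hFidx, Subgroup.relIndex, ← (F.subgroupOf X).index_mul_card,
      Nat.card_congr (Subgroup.subgroupOfEquivOfLe (inf_le_left : F ≤ X)).toEquiv]
  have hFscard : Nat.card Fs = 2 ^ n * f := by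
    have h1 := Fs.index_mul_card
    have h2 := X.index_mul_card
    rw [hFsidx] at h1
    rw [hXidx, hXcard, ← h1] at h2
    refine Nat.eq_of_mul_eq_mul_left (show 0 < 2 ^ n - 1 by
      have := Nat.pow_le_pow_right two_pos hn2
      omega) ?_
    rw [← h2]; ring
  have hfo : Odd f := by
    have h1 := A.odd
    rw [← hXdef, hXcard, Nat.odd_mul] at h1
    exact h1.2
  have hf3 : 3 ≤ f := by
    rcases (show f = 1 ∨ 3 ≤ f by obtain ⟨k, hk⟩ := hfo; omega) with h1 | h1
    · exfalso
      have hbot : F = ⊥ := Subgroup.card_eq_one.mp (hf ▸ h1)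
      refine A.false_of_sharp fun x hx v hv hxv => ?_
      obtain ⟨i, hi⟩ := A.singer u₀ v hu₀ hv
      have hmem : (A.h ^ i)⁻¹ * x * A.h ^ i ∈ F := by
        refine ⟨Subgroup.mul_mem _ (Subgroup.mul_mem _ (Subgroup.inv_mem _ (A.hpow1 i)) hx) (A.hpow1 i), ?_⟩
        show A.ℓ _ u₀ = u₀
        rw [map_mul, map_mul, MulAut.mul_apply, MulAut.mul_apply, hi, hxv, map_inv, MulAut.inv_apply,
          MulEquiv.symm_apply_eq, hi]
      rw [hbot, Subgroup.mem_bot] at hmem
      calc x = A.h ^ i * ((A.h ^ i)⁻¹ * x * A.h ^ i) * (A.h ^ i)⁻¹ := by group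
        _ = 1 := by rw [hmem]; group
    · exact h1
  obtain ⟨σ, hσ, e, hef, hσh⟩ := exists_frobenius A.sq A.ℓ A.inj A.singer hn (by omega) hu₀ F
    (fun x hx => hx.2) (fun x hx => A.norm x hx.1)
  have he : 0 < e := by
    rcases Nat.eq_zero_or_pos e with h0 | h0
    · rw [h0, zero_mul] at hef; omega
    · exact h0
  -- a minimal overgroup of the stabiliser of `u₀`
  have hFstop : Fs < ⊤ := lt_top_iff_ne_top.mpr fun e' => by
    have h1 := hFsidx
    rw [e', Subgroup.index_top] at h1
    have := Nat.pow_le_pow_right two_pos hn2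
    omega
  obtain ⟨M, hFM, hMmin⟩ : ∃ M, Fs < M ∧ ∀ M', Fs < M' → M' ≤ M → M' = M := by
    obtain ⟨M, hM⟩ := (Set.toFinite {M : Subgroup W | Fs < M}).exists_minimal ⟨⊤, hFstop⟩
    exact ⟨M, hM.prop, fun M' h1 h2 => le_antisymm h2 (hM.le_of_le h1 h2)⟩
  set hh := Fs.relIndex M with hhh
  set d := M.index with hd
  have hhd : hh * d = 2 ^ n - 1 := by rw [hhh, hd, Subgroup.relIndex_mul_index hFM.le, hFsidx]
  -- the part of `H` in `M`
  let C : Subgroup M := (H ⊓ M).subgroupOf M
  haveI : IsCyclic C := by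
    have h1 : IsCyclic (H ⊓ M : Subgroup W) := isCyclic_of_injective (Subgroup.inclusion (inf_le_left : H ⊓ M ≤ H))
      (Subgroup.inclusion_injective _)
    exact ((Subgroup.subgroupOfEquivOfLe (inf_le_right : H ⊓ M ≤ M)).isCyclic).mpr h1
  set p₀ : M ⧸ Fs.subgroupOf M := ((1 : M) : M ⧸ Fs.subgroupOf M) with hp₀
  have hb : Function.Bijective fun c : C => (c : M) • p₀ := by
    refine ⟨fun c c' ec => Subtype.ext (Subtype.ext ?_), fun p => ?_⟩
    · simp only [hp₀] at ec
      rw [MulAction.Quotient.smul_coe, MulAction.Quotient.smul_coe, QuotientGroup.eq, smul_eq_mul, smul_eq_mul,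
        mul_one, mul_one, Subgroup.mem_subgroupOf] at ec
      obtain ⟨i, hi⟩ := A.mem_zpowers (mul_mem (inv_mem (c.2.1 : ((c : M) : W) ∈ H)) (c'.2.1 : ((c' : M) : W) ∈ H))
      simp only [Subgroup.coe_mul, Subgroup.coe_inv] at ec
      simp only [Subgroup.coe_subtype] at hi
      rw [← hi] at ec
      exact (inv_mul_eq_one.mp (hi.symm.trans (A.hfree hu₀ ec)))
    · obtain ⟨m, rfl⟩ := QuotientGroup.mk_surjective p
      obtain ⟨i, hi⟩ := hdec (m : W)
      have hiM : A.h ^ i ∈ M := by
        have := mul_mem m.2 (inv_mem (hFM.le hi))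
        rwa [mul_inv_rev, inv_inv, mul_inv_cancel_left] at this
      refine ⟨⟨⟨A.h ^ i, hiM⟩, Subgroup.pow_mem _ (Subgroup.mem_zpowers _) i, hiM⟩, ?_⟩
      show (⟨A.h ^ i, hiM⟩ : M) • p₀ = _
      rw [hp₀, MulAction.Quotient.smul_coe, QuotientGroup.eq, smul_eq_mul, mul_one, Subgroup.mem_subgroupOf]
      exact hi
  have hcardC : Nat.card (M ⧸ Fs.subgroupOf M) = hh := rfl
  have hhh1 : 1 < hh := by
    rcases Nat.lt_or_ge 1 hh with h1 | h1
    · exact h1
    · exfalso
      have h0 : hh ≠ 0 := Subgroup.index_ne_zero_of_finite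
      exact hFM.not_ge (Subgroup.relIndex_eq_one.mp (show Fs.relIndex M = 1 by omega))
  -- the kernel on the cosets of `M`
  set K := M.normalCore with hK
  have hHK : H ⊓ M ≤ K := by
    intro x hx w
    obtain ⟨i, hi⟩ := hdec w⁻¹
    have hy : w * A.h ^ i ∈ M := by
      have := inv_mem (hFM.le hi)
      rwa [mul_inv_rev, inv_inv, inv_inv] at this
    have e1 : w * x * w⁻¹ = (w * A.h ^ i) * x * (w * A.h ^ i)⁻¹ := by
      obtain ⟨j, rfl⟩ := A.mem_zpowers hx.1
      rw [mul_inv_rev, show w * A.h ^ i * A.h ^ j = w * A.h ^ j * A.h ^ i by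
        rw [mul_assoc, mul_assoc, (Commute.pow_pow (Commute.refl A.h) i j).eq]]
      group
    rw [e1]
    exact mul_mem (mul_mem hy hx.2) (inv_mem hy)
  have hKne : K ≠ ⊥ := fun e' => by
    haveI : Subsingleton C := ⟨fun a b => by
      have : ∀ c : C, c = 1 := fun c => by
        have h1 : ((c : M) : W) ∈ K := hHK c.2
        rw [e', Subgroup.mem_bot] at h1
        exact Subtype.ext (Subtype.ext h1)
      rw [this a, this b]⟩
    have h2 := Nat.card_eq_of_bijective _ hb
    rw [hcardC, Nat.card_of_subsingleton (1 : C)] at h2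
    omega
  have hKH : K ⊔ H = ⊤ := hmin _ (Subgroup.mem_sup_right (Subgroup.mem_zpowers _)) fun v => by
    obtain ⟨w, hw, hwv⟩ := A.normal_trans K hKne v
    exact ⟨w, Subgroup.mem_sup_left hw, hwv⟩
  have hσK : σ ∈ K := by
    obtain ⟨k, hk, x, hx, hkx⟩ := Subgroup.mem_sup_of_normal_left.mp (hKH ▸ Subgroup.mem_top σ : σ ∈ K ⊔ H)
    have hxM : x ∈ M := by
      have := mul_mem (inv_mem (M.normalCore_le hk)) (hFM.le hσ.2)
      rwa [← hkx, inv_mul_cancel_left] at this
    exact hkx ▸ mul_mem hk (hHK ⟨hx, hxM⟩)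
  have hdvd : d ∣ 2 ^ e - 1 := by
    have hmem : A.h ^ (2 ^ e - 1) ∈ M := by
      have h1 : σ * A.h * σ⁻¹ * A.h⁻¹ ∈ K := by
        have h2 := (inferInstance : K.Normal).conj_mem _ (inv_mem hσK) A.h
        have h3 := mul_mem hσK h2
        rwa [← mul_assoc, ← mul_assoc] at h3
      rw [hσh] at h1
      refine M.normalCore_le ?_
      rwa [← Nat.sub_add_cancel (Nat.one_le_two_pow : 1 ≤ 2 ^ e), pow_succ, mul_inv_cancel_right] at h1
    set MH := M.subgroupOf H with hMH
    haveI : MH.Normal := Subgroup.normal_of_comm _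
    have hidx : MH.index = d := by
      rw [hd, Subgroup.index_eq_card, Subgroup.index_eq_card]
      refine Nat.card_eq_of_bijective (Quotient.map' (fun x : H => (x : W)) fun a b hab => ?_) ⟨?_, ?_⟩
      · rw [QuotientGroup.leftRel_apply] at hab ⊢
        simpa [hMH, Subgroup.mem_subgroupOf] using hab
      · intro a b hab
        induction a using QuotientGroup.induction_on with
        | H a =>
          induction b using QuotientGroup.induction_on with
          | H b =>
            refine QuotientGroup.eq.mpr ?_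
            rw [hMH, Subgroup.mem_subgroupOf]
            simpa using QuotientGroup.eq.mp hab
      · intro p
        obtain ⟨w, rfl⟩ := QuotientGroup.mk_surjective p
        obtain ⟨i, hi⟩ := hdec w
        exact ⟨((⟨A.h ^ i, Subgroup.pow_mem _ (Subgroup.mem_zpowers _) i⟩ : H) : H ⧸ MH),
          QuotientGroup.eq.mpr (hFM.le hi)⟩
    have h2 : orderOf ((⟨A.h, Subgroup.mem_zpowers _⟩ : H) : H ⧸ MH) = MH.index := by
      rw [Subgroup.index_eq_card]
      refine orderOf_eq_card_of_forall_mem_zpowers fun p => ?_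
      obtain ⟨⟨x, hx⟩, rfl⟩ := QuotientGroup.mk_surjective p
      obtain ⟨j, hj⟩ := Subgroup.mem_zpowers_iff.mp hx
      refine ⟨j, ?_⟩
      show ((_ : H) : H ⧸ MH) ^ j = _
      rw [← QuotientGroup.mk_zpow]
      exact congrArg _ (Subtype.ext hj)
    rw [← hidx, ← h2]
    refine orderOf_dvd_of_pow_eq_one ?_
    rw [← QuotientGroup.mk_pow, QuotientGroup.eq_one_iff, hMH, Subgroup.mem_subgroupOf]
    exact hmem
  -- the action of `M` on the cosets of the stabiliser
  haveI : MulAction.IsPretransitive M (M ⧸ Fs.subgroupOf M) := inferInstance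
  haveI : Nontrivial (M ⧸ Fs.subgroupOf M) := Finite.one_lt_card_iff_nontrivial.mp (hcardC ▸ hhh1)
  have hcoatom : IsCoatom (Fs.subgroupOf M) := by
    refine ⟨fun e' => hFM.not_ge (Subgroup.subgroupOf_eq_top.mp e'), fun L hL => ?_⟩
    have h1 : Fs < L.map M.subtype := by
      have h2 := (Subgroup.map_lt_map_iff_of_injective M.subtype_injective).mpr hL
      rwa [Subgroup.subgroupOf_map_subtype, inf_eq_left.mpr hFM.le] at h2
    have h3 := hMmin _ h1 (Subgroup.map_subtype_le L)
    refine (Subgroup.eq_top_iff' L).mpr fun x => ?_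
    obtain ⟨y, hy, hyx⟩ : (x : W) ∈ L.map M.subtype := h3.symm ▸ x.2
    exact Subtype.ext hyx ▸ hy
  have hstab : MulAction.stabilizer M p₀ = Fs.subgroupOf M := MulAction.stabilizer_quotient _
  haveI hprim : MulAction.IsPreprimitive M (M ⧸ Fs.subgroupOf M) :=
    (MulAction.isCoatom_stabilizer_iff_preprimitive M p₀).mp (hstab.symm ▸ hcoatom)
  have hhodd : Odd hh := by
    have h1 : Odd (2 ^ n - 1) := by
      rw [Nat.odd_iff]
      have : 2 ∣ 2 ^ n := dvd_pow_self 2 (by omega)
      have := Nat.two_pow_pos n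
      omega
    rw [← hhd, Nat.odd_mul] at h1
    exact h1.1
  have h2t : MulAction.IsMultiplyPretransitive M (M ⧸ Fs.subgroupOf M) 2 := by
    by_cases hp : hh.Prime
    swap
    · exact two_trans C hb (hcardC ▸ hhodd) (hcardC ▸ hhh1) (hcardC ▸ hp)
    haveI := Fintype.ofFinite (M ⧸ Fs.subgroupOf M)
    set ψ := MulAction.toPermHom M (M ⧸ Fs.subgroupOf M)
    haveI : MulAction.IsPretransitive ψ.range (M ⧸ Fs.subgroupOf M) := ⟨fun a b => by
      obtain ⟨m, hm⟩ := MulAction.exists_smul_eq M a b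
      exact ⟨⟨ψ m, m, rfl⟩, hm⟩⟩
    rcases Cfsg.Agent.S0675.result (by rw [← Nat.card_eq_fintype_card, hcardC]; exact hp) ψ.range with hs | ht
    swap
    · refine MulAction.is_two_pretransitive_iff.mpr fun {a b c d'} hab hcd => ?_
      obtain ⟨⟨_, m, rfl⟩, h1, h2⟩ := MulAction.is_two_pretransitive_iff.mp ht hab hcd
      exact ⟨m, h1, h2⟩
    exfalso
    -- the kernel is trivial
    have hkerbot : ψ.ker = ⊥ := by
      refine (Subgroup.eq_bot_iff_forall _).mpr fun k hk => Subtype.ext (A.inj (MulEquiv.ext fun v => ?_))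
      set S₀ : Set U := {v | ∃ x ∈ H ⊓ M, A.ℓ x u₀ = v}
      set V := Subgroup.closure S₀ with hV
      have hkV : ∀ v ∈ V, A.ℓ (k : W) v = v := by
        intro v hv
        induction hv using Subgroup.closure_induction with
        | mem y hy =>
          obtain ⟨x, hx, rfl⟩ := hy
          have h1 : k • ((⟨x, hx.2⟩ : M) : M ⧸ Fs.subgroupOf M) = ((⟨x, hx.2⟩ : M) : M ⧸ Fs.subgroupOf M) :=
            congrArg (fun π : Equiv.Perm (M ⧸ Fs.subgroupOf M) => π ((⟨x, hx.2⟩ : M) : M ⧸ Fs.subgroupOf M))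
              (MonoidHom.mem_ker.mp hk)
          rw [MulAction.Quotient.smul_coe, eq_comm, QuotientGroup.eq, smul_eq_mul, Subgroup.mem_subgroupOf] at h1
          have h2 : A.ℓ (x⁻¹ * ((k : W) * x)) u₀ = u₀ := h1
          rw [map_mul, map_mul, MulAut.mul_apply, MulAut.mul_apply, map_inv, MulAut.inv_apply,
            MulEquiv.symm_apply_eq] at h2
          exact h2
        | one => rw [map_one]
        | mul a b _ _ ha hb' => rw [map_mul, ha, hb']
        | inv a _ ha => rw [map_inv, ha]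
      have hu₀V : u₀ ∈ V := Subgroup.subset_closure ⟨1, one_mem _, by rw [map_one]; rfl⟩
      have hinv : ∀ x ∈ H ⊓ M, ∀ v ∈ V, A.ℓ x v ∈ V := by
        intro x hx v hv
        induction hv using Subgroup.closure_induction with
        | mem y hy =>
          obtain ⟨x', hx', rfl⟩ := hy
          exact Subgroup.subset_closure ⟨x * x', mul_mem hx hx', by rw [map_mul]; rfl⟩
        | one => rw [map_one]; exact one_mem _
        | mul a b _ _ ha hb' => rw [map_mul]; exact mul_mem ha hb'
        | inv a _ ha => rw [map_inv]; exact inv_mem ha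
      -- `V` is everything
      obtain ⟨j, hj⟩ := ((show IsPGroup 2 U from fun x => ⟨1, by rw [pow_one, pow_two, A.sq]⟩).to_subgroup V).exists_card_eq
      have hdiv1 : hh ∣ 2 ^ j - 1 := by
        letI act : MulAction (H ⊓ M : Subgroup W) {v : V // v ≠ 1} :=
          { smul := fun x v => ⟨⟨A.ℓ (x : W) (v.1 : U), hinv x x.2 _ v.1.2⟩, fun e' => v.2 (Subtype.ext
              ((A.ℓ (x : W)).injective ((congrArg Subtype.val e').trans (map_one _).symm)))⟩
            one_smul := fun v => Subtype.ext (Subtype.ext (by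
              show A.ℓ ((1 : (H ⊓ M : Subgroup W)) : W) (v.1 : U) = v.1
              rw [OneMemClass.coe_one, map_one]; rfl))
            mul_smul := fun x y v => Subtype.ext (Subtype.ext (by
              show A.ℓ ((x * y : (H ⊓ M : Subgroup W)) : W) (v.1 : U) = A.ℓ (x : W) (A.ℓ (y : W) (v.1 : U))
              rw [Subgroup.coe_mul, map_mul]; rfl)) }
        have hfreeV : ∀ v : {v : V // v ≠ 1}, MulAction.stabilizer (H ⊓ M : Subgroup W) v = ⊥ := fun v => by
          refine (Subgroup.eq_bot_iff_forall _).mpr fun x hx => Subtype.ext ?_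
          obtain ⟨i, hi⟩ := A.mem_zpowers x.2.1
          have h1 : A.ℓ (x : W) (v.1 : U) = v.1 := congrArg (fun z : {v : V // v ≠ 1} => (z.1 : U)) hx
          rw [← hi] at h1 ⊢
          exact A.hfree (fun e' => v.2 (Subtype.ext e')) h1
        have hcV : Nat.card {v : V // v ≠ 1} = 2 ^ j - 1 := by
          haveI := Fintype.ofFinite V
          rw [← hj, Nat.card_eq_fintype_card, Nat.card_eq_fintype_card]
          simp
        have hcHM : Nat.card (H ⊓ M : Subgroup W) = hh := by
          rw [← hcardC, ← Nat.card_eq_of_bijective _ hb]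
          exact (Nat.card_congr (Subgroup.subgroupOfEquivOfLe (inf_le_right : H ⊓ M ≤ M)).toEquiv).symm
        rw [← hcV, ← hcHM, Nat.card_congr (MulAction.selfEquivSigmaOrbits (H ⊓ M : Subgroup W) {v : V // v ≠ 1})]
        haveI := Fintype.ofFinite (MulAction.orbitRel.Quotient (H ⊓ M : Subgroup W) {v : V // v ≠ 1})
        rw [Nat.card_sigma]
        refine Finset.dvd_sum fun ω _ => ?_
        rw [Nat.card_congr (MulAction.orbitEquivQuotientStabilizer _ ω.out), ← Subgroup.index_eq_card, hfreeV,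
          Subgroup.index_bot]
      have hjn : j ≤ n := (Nat.pow_le_pow_iff_right (by norm_num : 1 < 2)).mp
        (hj ▸ hn ▸ Subgroup.card_le_card_group V)
      rcases hjn.eq_or_lt with hjn | hjn
      · rw [OneMemClass.coe_one, map_one]
        exact hkV v (Subgroup.eq_top_of_card_eq V (by rw [hj, hn, hjn]) ▸ Subgroup.mem_top v)
      exfalso
      have hj1 : 1 ≤ j := by
        by_contra h0
        have h1 : Nat.card V = 1 := by rw [hj, show j = 0 by omega, pow_zero]
        have := Subgroup.card_eq_one.mp h1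
        rw [this, Subgroup.mem_bot] at hu₀V
        exact hu₀ hu₀V
      have hg : hh ∣ 2 ^ Nat.gcd j n - 1 := by
        rw [← Nat.pow_sub_one_gcd_pow_sub_one]
        exact Nat.dvd_gcd hdiv1 (hhd ▸ Dvd.intro d rfl)
      have hg1 : Nat.gcd j n ≤ j := Nat.gcd_le_left _ hj1
      have hg2 : 2 * Nat.gcd j n ≤ n := by
        obtain ⟨r, hr⟩ := Nat.gcd_dvd_right j n
        rcases r with _ | _ | r
        · omega
        · omega
        · calc 2 * Nat.gcd j n ≤ Nat.gcd j n * (r + 2) := by nlinarith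
            _ = n := hr.symm
      have hge : e + Nat.gcd j n ≤ n := by
        have : 3 * e ≤ n := by rw [← hef, mul_comm 3 e]; exact Nat.mul_le_mul_left e hf3
        omega
      have hgpos : 0 < Nat.gcd j n := Nat.gcd_pos_of_pos_left _ hj1
      have h1 := Nat.le_of_dvd (by have := Nat.one_lt_two_pow hgpos.ne'; omega) hg
      have h2 := Nat.le_of_dvd (by have := Nat.one_lt_two_pow he.ne'; omega) hdvd
      have h3 := Nat.mul_le_mul h1 h2
      rw [hhd] at h3
      have h4 := Nat.pow_le_pow_right two_pos hge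
      rw [pow_add] at h4
      have h5 := Nat.one_lt_two_pow he.ne'
      have h6 := Nat.one_lt_two_pow hgpos.ne'
      obtain ⟨a, ha⟩ : ∃ a, 2 ^ e = a + 2 := ⟨2 ^ e - 2, by omega⟩
      obtain ⟨b, hb'⟩ : ∃ b, 2 ^ Nat.gcd j n = b + 2 := ⟨2 ^ Nat.gcd j n - 2, by omega⟩
      rw [ha, hb', show b + 2 - 1 = b + 1 by omega, show a + 2 - 1 = a + 1 by omega] at h3
      rw [ha, hb'] at h4
      have e1 : (a + 2) * (b + 2) = (b + 1) * (a + 1) + a + b + 3 := by ring
      omega
    have hinjψ : Function.Injective ψ := (MonoidHom.ker_eq_bot_iff ψ).mp hkerbot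
    haveI hMs : Group.IsSolvable M := by
      haveI := hs
      exact Group.isSolvable_of_ker_le_range (1 : Unit →* M) ψ.rangeRestrict (by
        rw [MonoidHom.ker_rangeRestrict, hkerbot]; exact bot_le)
    have hKs : Group.IsSolvable K := Group.isSolvable_of_ker_le_range (1 : Unit →* K) (Subgroup.inclusion M.normalCore_le) (by
        rw [(MonoidHom.ker_eq_bot_iff _).mpr (Subgroup.inclusion_injective _)]; exact bot_le)
    exact hKne (A.no_normal_solvable K hKs)
  -- two-transitivity
  have hdiv : hh - 1 ∣ 2 ^ n * f := by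
    obtain ⟨p₁, hp₁⟩ := exists_ne p₀
    have horb : MulAction.orbit (MulAction.stabilizer M p₀) p₁ = {p | p ≠ p₀} := by
      refine Set.Subset.antisymm ?_ fun p hp => ?_
      · rintro _ ⟨s, rfl⟩ e'
        refine hp₁ (smul_left_cancel (s : M) ?_)
        rw [show (s : M) • p₀ = p₀ from s.2]
        exact e'
      · obtain ⟨m, h1, h2⟩ := MulAction.is_two_pretransitive_iff.mp h2t hp₁.symm (Ne.symm hp)
        exact ⟨⟨m, h1⟩, h2⟩
    have h1 := MulAction.index_stabilizer (MulAction.stabilizer M p₀) p₁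
    rw [horb] at h1
    haveI := Fintype.ofFinite (M ⧸ Fs.subgroupOf M)
    have h2 : ({p | p ≠ p₀} : Set (M ⧸ Fs.subgroupOf M)).ncard = hh - 1 := by
      show ({p₀}ᶜ : Set (M ⧸ Fs.subgroupOf M)).ncard = _
      rw [Set.ncard_compl, Set.ncard_singleton, hcardC]
    rw [← h2, ← h1, ← hFscard,
      ← Nat.card_congr ((MulEquiv.subgroupCongr hstab).trans (Subgroup.subgroupOfEquivOfLe hFM.le)).toEquiv]
    exact Subgroup.index_dvd_card _
  obtain ⟨he1, hf1⟩ := arith he hf3 hfo hdvd (hef.symm ▸ hhd) (hef.symm ▸ hdiv)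
  have hn3 : n = 3 := by
    have h1 := hef
    have h2 : Nat.card F = 3 := hf1
    rw [he1, h2] at h1
    omega
  rw [hn, hn3]
  norm_num

end Affine

/-- An affine group without translations, transitive, with odd stabiliser normalising a Singer cycle: eight points. -/
theorem Affine.eight (A : Affine U W) : Nat.card U = 8 := by
  classical
  set s : Set (Subgroup W) := {W' | A.h ∈ W' ∧ ∀ v : U, ∃ w ∈ W', w • (1 : U) = v}
  obtain ⟨W', hW'⟩ := (Set.toFinite s).exists_minimal ⟨⊤, Subgroup.mem_top _, fun v => by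
    obtain ⟨w, hw⟩ := A.trans v
    exact ⟨w, Subgroup.mem_top w, hw⟩⟩
  obtain ⟨hh, htr⟩ := hW'.prop
  let A' : Affine U W' :=
    { ℓ := A.ℓ.comp W'.subtype
      inj := A.inj.comp W'.subtype_injective
      aff := fun w x y => A.aff (w : W) x y
      trans := fun v => by
        obtain ⟨w, hw, hwv⟩ := htr v
        exact ⟨⟨w, hw⟩, hwv⟩
      odd := by
        refine Odd.of_dvd_nat A.odd (Subgroup.card_dvd_of_injective
          ((W'.subtype.comp (MulAction.stabilizer W' (1 : U)).subtype).codRestrict (MulAction.stabilizer W (1 : U))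
            fun x => x.2) fun a b e => ?_)
        exact Subtype.ext (Subtype.ext (congrArg (fun z : MulAction.stabilizer W (1 : U) => (z : W)) e))
      h := ⟨A.h, hh⟩
      h1 := A.h1
      singer := fun u v hu hv => A.singer u v hu hv
      norm := fun x hx => by
        obtain ⟨i, hi⟩ := Subgroup.mem_zpowers_iff.mp (A.norm (x : W) hx)
        exact Subgroup.mem_zpowers_iff.mpr ⟨i, Subtype.ext hi⟩
      sq := A.sq
      four := A.four }
  refine A'.eight_core fun W'' h1 h2 => ?_
  have hmem : W''.map W'.subtype ∈ s := by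
    refine ⟨⟨_, h1, rfl⟩, fun v => ?_⟩
    obtain ⟨w, hw, hwv⟩ := h2 v
    exact ⟨_, ⟨w, hw, rfl⟩, hwv⟩
  have h3 := hW'.le_of_le hmem (Subgroup.map_subtype_le W'')
  refine (Subgroup.eq_top_iff' W'').mpr fun x => ?_
  obtain ⟨y, hy, hyx⟩ := h3 x.2
  exact Subtype.ext hyx ▸ hy

end CfsgLib.JT
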