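import Cfsg.Agent.Lib.Chev.Aut.FieldCyclic
import Mathlib

/-!
Arithmetic and the field of an affine group with a cyclic point stabiliser part regular on the nonzero vectors.

* `arith`: `h - 1 ∣ 2^(ef) f`, `h d = 2^(ef) - 1`, `d ∣ 2^e - 1` force `e = 1`, `f = 3`;
* `exists_frobenius`: the stabiliser of a vector in the normaliser of a Singer cycle is cyclic, acting by powers of 2.
-/

set_option autoImplicit false
set_option linter.unusedSectionVars false

namespace CfsgLib.JT

theorem arith {e f h d : ℕ} (he : 0 < e) (hf : 3 ≤ f) (hfo : Odd f) (hd : d ∣ 2 ^ e - 1)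
    (hhd : h * d = 2 ^ (e * f) - 1) (hdiv : h - 1 ∣ 2 ^ (e * f) * f) : e = 1 ∧ f = 3 := by
  obtain ⟨m, hm⟩ := hd
  set k := 2 ^ e with hk
  have hk2 : 2 ≤ k := by rw [hk]; exact Nat.le_self_pow he.ne' 2
  have hd0 : 0 < d := by
    rcases Nat.eq_zero_or_pos d with h0 | h0
    · rw [h0, zero_mul] at hm; omega
    · exact h0
  set P := ∑ i ∈ Finset.range (f - 1), k ^ i with hP
  have hPhi : (k - 1) * (1 + k * P) = k ^ f - 1 := by
    rw [← geom_sum_mul_of_one_le (x := k) (by omega) f]
    rw [mul_comm (k - 1)]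
    congr 1
    rw [hP, Finset.mul_sum, show f = (f - 1) + 1 by omega, Finset.sum_range_succ', show f - 1 + 1 - 1 = f - 1 by omega]
    simp only [pow_succ']
    rw [add_comm]; simp
  have hh : h = m * (1 + k * P) := by
    refine Nat.eq_of_mul_eq_mul_right hd0 ?_
    rw [hhd, pow_mul, ← hk, ← hPhi, hm]
    ring
  have hP2 : 2 ^ (f - 1) - 1 ≤ P := by
    have h22 := geom_sum_mul_of_one_le (x := (2 : ℕ)) (by norm_num) (f - 1)
    rw [show (2 : ℕ) - 1 = 1 by norm_num, mul_one] at h22
    rw [← h22]
    exact Finset.sum_le_sum fun i _ => Nat.pow_le_pow_left hk2 i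
  have hP3 : 1 + k ≤ P := by
    rw [hP, show f - 1 = (f - 3) + 1 + 1 by omega, Finset.sum_range_succ', Finset.sum_range_succ']
    simp [pow_succ]
    omega
  have hPk : P % 2 = 1 := by
    rw [hP, show f - 1 = (f - 2) + 1 by omega, Finset.sum_range_succ']
    simp only [pow_zero, pow_succ', ← Finset.mul_sum]
    have : k % 2 = 0 := by rw [hk]; exact Nat.mod_eq_zero_of_dvd (dvd_pow_self 2 he.ne') |>.trans rfl
    rw [Nat.add_mod, Nat.mul_mod, this]
    simp
  have hfac : ∀ a : ℕ, a ∣ 2 ^ (e * f) * f → a % 2 = 1 → a ∣ f := fun a ha hodd =>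
    (Nat.Coprime.pow_right _ (Nat.coprime_two_right.mpr (Nat.odd_iff.mpr hodd))).dvd_of_dvd_mul_left ha
  have hm0 : 0 < m := by
    rcases Nat.eq_zero_or_pos m with h0 | h0
    · rw [h0, mul_zero] at hm; omega
    · exact h0
  have hmk : m < k := lt_of_le_of_lt (Nat.le_of_dvd (by omega) (Dvd.intro_left d hm.symm)) (by omega)
  have h2f : f < 2 ^ (f - 1) - 1 ∨ f = 3 := by
    rcases (show f = 3 ∨ 4 ≤ f by omega) with e3 | e3
    · exact Or.inr e3
    · left
      obtain ⟨j, rfl⟩ : ∃ j, f = j + 4 := ⟨f - 4, by omega⟩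
      have := Nat.lt_two_pow_self (n := j)
      rw [show j + 4 - 1 = j + 3 by omega, pow_add]
      omega
  rcases (show m = 1 ∨ 2 ≤ m by omega) with h1 | h1
  · rw [h1, one_mul] at hh
    rw [hh, show 1 + k * P - 1 = k * P by omega] at hdiv
    have hPf : P ∣ f := hfac P (dvd_of_mul_left_dvd hdiv) hPk
    have hle := Nat.le_of_dvd (by omega) hPf
    have hf3 : f = 3 := h2f.resolve_left fun hlt => by omega
    subst hf3
    refine ⟨?_, rfl⟩
    have : k ≤ 2 := by omega
    by_contra hne
    have : 2 ^ 2 ≤ k := by rw [hk]; exact Nat.pow_le_pow_right two_pos (by omega)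
    omega
  · exfalso
    have hmod : (h - 1) % k ≠ 0 := by
      rw [hh, show m * (1 + k * P) - 1 = (m - 1) + k * (m * P) by
        rw [mul_add, mul_one, show m * (k * P) = k * (m * P) by ring]; omega, Nat.add_mul_mod_self_left,
        Nat.mod_eq_of_lt (by omega)]
      omega
    -- the odd part divides `f`, the 2-part is less than `k`
    obtain ⟨i, a, ha, heq⟩ := Nat.exists_eq_pow_mul_and_not_dvd (show h - 1 ≠ 0 by
      intro h0; rw [h0] at hmod; simp at hmod) 2 (by norm_num)
    have hie : i < e := by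
      by_contra hcon
      refine hmod (Nat.mod_eq_zero_of_dvd ?_ |>.trans rfl)
      rw [heq, hk]
      exact Dvd.dvd.mul_right (pow_dvd_pow 2 (by omega)) a
    have haf : a ≤ f := Nat.le_of_dvd (by omega)
      (hfac a ((Dvd.intro_left _ heq.symm).trans hdiv) (by omega))
    have hb : 2 ^ i * a ≤ k * f := Nat.mul_le_mul (by rw [hk]; exact Nat.pow_le_pow_right two_pos hie.le) haf
    rw [← heq, hh] at hb
    have h5 : 2 * (1 + k * P) ≤ m * (1 + k * P) := Nat.mul_le_mul_right _ h1
    have h6 : k * P ≥ k * (2 ^ (f - 1) - 1) := Nat.mul_le_mul_left _ hP2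
    rcases h2f with h7 | h7
    · have : k * f ≤ k * (2 ^ (f - 1) - 1) := Nat.mul_le_mul_left _ h7.le
      omega
    · subst h7
      have : k * 3 ≤ k * P := Nat.mul_le_mul_left _ (by omega)
      omega

variable {U : Type*} [CommGroup U] [Finite U] {W : Type*} [Group W] [Finite W]

/-- The stabiliser of a vector in the normaliser of a Singer cycle is generated by a power of the Frobenius map. -/
theorem exists_frobenius (hU2 : ∀ x : U, x * x = 1) (ℓ : W →* MulAut U) (hℓ : Function.Injective ℓ) {h : W}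
    (htr : ∀ u v : U, u ≠ 1 → v ≠ 1 → ∃ i : ℕ, ℓ (h ^ i) u = v) {n : ℕ} (hq : Nat.card U = 2 ^ n) (hn : 0 < n)
    {u₀ : U} (hu₀ : u₀ ≠ 1) (F : Subgroup W) (hFu : ∀ x ∈ F, ℓ x u₀ = u₀)
    (hFn : ∀ x ∈ F, x * h * x⁻¹ ∈ Subgroup.zpowers h) :
    ∃ σ ∈ F, ∃ e : ℕ, e * Nat.card F = n ∧ σ * h * σ⁻¹ = h ^ 2 ^ e := by
  classical
  haveI : Fact (Nat.Prime 2) := ⟨Nat.prime_two⟩
  let L : W → AddMonoid.End (Additive U) := fun w => MonoidHom.toAdditive (ℓ w).toMonoidHom
  have hLapp : ∀ w (x : Additive U), L w x = Additive.ofMul (ℓ w x.toMul) := fun _ _ => rfl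
  have hLmul : ∀ w w', L (w * w') = L w * L w' := fun w w' => AddMonoidHom.ext fun x => by
    show Additive.ofMul (ℓ (w * w') x.toMul) = Additive.ofMul (ℓ w (ℓ w' x.toMul))
    rw [map_mul]; rfl
  have hLone : L 1 = 1 := AddMonoidHom.ext fun x => by
    show Additive.ofMul (ℓ 1 x.toMul) = x
    rw [map_one]; rfl
  have hLinj : Function.Injective L := fun w w' e => hℓ (MulEquiv.ext fun x =>
    Additive.ofMul.injective (DFunLike.congr_fun e (Additive.ofMul x)))
  have hLpow : ∀ i : ℕ, L (h ^ i) = L h ^ i := fun i => by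
    induction i with
    | zero => rw [pow_zero, pow_zero, hLone]
    | succ i ih => rw [pow_succ, hLmul, ih, pow_succ]
  set R := Subring.closure ({L h} : Set (AddMonoid.End (Additive U))) with hR
  have hLR : ∀ i : ℕ, L (h ^ i) ∈ R := fun i => hLpow i ▸ pow_mem (Subring.subset_closure (Set.mem_singleton _)) i
  have hcomm : ∀ r ∈ R, r * L h = L h * r := fun r hr => by
    induction hr using Subring.closure_induction with
    | mem x hx => rw [Set.mem_singleton_iff.mp hx]
    | zero => simp
    | one => simp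
    | add x y _ _ hx hy => rw [add_mul, mul_add, hx, hy]
    | neg x _ hx => exact Commute.neg_left (show Commute x (L h) from hx)
    | mul x y _ _ hx hy => rw [mul_assoc, hy, ← mul_assoc, hx, mul_assoc]
  have hcommp : ∀ r ∈ R, ∀ i : ℕ, r * L (h ^ i) = L (h ^ i) * r := fun r hr i => by
    rw [hLpow]; exact (Commute.pow_right (hcomm r hr) i).eq
  have hexi : ∀ x : Additive U, x ≠ 0 → ∃ i : ℕ, L (h ^ i) (Additive.ofMul u₀) = x := fun x hx => by
    obtain ⟨i, hi⟩ := htr u₀ x.toMul hu₀ (fun e => hx (Additive.toMul.injective e))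
    exact ⟨i, by rw [hLapp]; exact congrArg Additive.ofMul hi⟩
  have hzero : ∀ r ∈ R, r (Additive.ofMul u₀) = 0 → r = 0 := fun r hr h0 => AddMonoidHom.ext fun x => by
    by_cases hx : x = 0
    · subst hx; exact map_zero r
    · obtain ⟨i, rfl⟩ := hexi x hx
      show (r * L (h ^ i)) (Additive.ofMul u₀) = 0
      rw [hcommp r hr i]
      show L (h ^ i) (r (Additive.ofMul u₀)) = 0
      rw [h0, map_zero]
  let ev : R → Additive U := fun r => (r : AddMonoid.End (Additive U)) (Additive.ofMul u₀)
  have hev : Function.Bijective ev := by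
    refine ⟨fun r s e => Subtype.ext (sub_eq_zero.mp (hzero _ (sub_mem r.2 s.2) ?_)), fun x => ?_⟩
    · show (r : AddMonoid.End (Additive U)) _ - (s : AddMonoid.End (Additive U)) _ = 0
      exact sub_eq_zero.mpr e
    · by_cases hx : x = 0
      · exact ⟨0, hx.symm ▸ rfl⟩
      · obtain ⟨i, hi⟩ := hexi x hx
        exact ⟨⟨_, hLR i⟩, hi⟩
  haveI : Finite R := Finite.of_injective ev hev.1
  letI : CommRing R :=
    { (inferInstance : Ring R) with
      mul_comm := by
        rintro ⟨a, ha⟩ b
        refine Subtype.ext ?_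
        show a * (b : AddMonoid.End (Additive U)) = b * a
        induction ha using Subring.closure_induction with
        | mem x hx => rw [Set.mem_singleton_iff.mp hx, ← hcomm b b.2]
        | zero => simp
        | one => simp
        | add x y _ _ hx hy => rw [add_mul, mul_add, hx, hy]
        | neg x _ hx => exact Commute.neg_left (show Commute x (b : AddMonoid.End (Additive U)) from hx)
        | mul x y _ _ hx hy => rw [mul_assoc, hy, ← mul_assoc, hx, mul_assoc] }
  haveI : Nontrivial R := ⟨⟨0, 1, fun e => hu₀ (by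
    have h1 := congrArg ev e
    exact (Additive.ofMul.injective h1).symm)⟩⟩
  haveI : NoZeroDivisors R := ⟨fun {r s} e => by
    by_contra hne
    push Not at hne
    have hs : ev s ≠ 0 := fun h0 => hne.2 (hev.1 h0)
    obtain ⟨i, hi⟩ := hexi _ hs
    refine hne.1 (hev.1 ?_)
    have h1 : ((r : AddMonoid.End (Additive U)) * s) (Additive.ofMul u₀) = 0 := congrArg ev e
    change (r : AddMonoid.End (Additive U)) (ev s) = 0 at h1
    rw [← hi] at h1
    change ((r : AddMonoid.End (Additive U)) * L (h ^ i)) (Additive.ofMul u₀) = 0 at h1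
    rw [hcommp r r.2 i] at h1
    show ev r = 0
    have h2 : L (h ^ i) (ev r) = 0 := h1
    exact Additive.toMul.injective ((ℓ (h ^ i)).injective ((congrArg Additive.toMul h2).trans (map_one _).symm))⟩
  haveI : IsDomain R := NoZeroDivisors.to_isDomain R
  letI : Field R := (Finite.isDomain_to_isField R).toField
  have hcardR : Nat.card R = 2 ^ n := by
    rw [Nat.card_eq_of_bijective ev hev, ← hq]; exact Nat.card_congr Additive.toMul
  haveI : CharP R 2 := CharTwo.of_one_ne_zero_of_two_eq_zero one_ne_zero (hev.1 (by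
    show ((2 : R) : AddMonoid.End (Additive U)) (Additive.ofMul u₀) = 0
    rw [show ((2 : R) : AddMonoid.End (Additive U)) = (1 : R) + (1 : R) from by rw [← Subring.coe_add, one_add_one_eq_two]]
    show Additive.ofMul u₀ + Additive.ofMul u₀ = 0
    exact Additive.toMul.injective (hU2 u₀)))
  -- conjugation
  have hpres : ∀ x ∈ F, ∀ r ∈ R, L x * r * L x⁻¹ ∈ R := fun x hx r hr => by
    induction hr using Subring.closure_induction with
    | mem y hy =>
      rw [Set.mem_singleton_iff.mp hy, ← hLmul, ← hLmul]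
      obtain ⟨j, hj⟩ := (mem_powers_iff_mem_zpowers (x := h)).mpr (hFn x hx)
      exact hj ▸ hLR j
    | zero => simp
    | one => rw [mul_one, ← hLmul, mul_inv_cancel, hLone]; exact one_mem _
    | add a b _ _ ha hb => rw [mul_add, add_mul]; exact add_mem ha hb
    | neg a _ ha =>
      rw [show L x * -a * L x⁻¹ = -(L x * a * L x⁻¹) from
        (congrArg (· * L x⁻¹) (mul_neg (L x) a)).trans (neg_mul _ _)]
      exact neg_mem ha
    | mul a b _ _ ha hb =>
      rw [show L x * (a * b) * L x⁻¹ = (L x * a * L x⁻¹) * (L x * b * L x⁻¹) by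
        simp only [mul_assoc]; rw [← mul_assoc (L x⁻¹) (L x), ← hLmul, inv_mul_cancel, hLone, one_mul]]
      exact mul_mem ha hb
  let φ : F → (R →+* R) := fun x =>
    { toFun := fun r => ⟨L x * (r : AddMonoid.End (Additive U)) * L (x : W)⁻¹, hpres x x.2 r r.2⟩
      map_one' := Subtype.ext (by
        show L x * (1 : AddMonoid.End (Additive U)) * L (x : W)⁻¹ = 1
        rw [mul_one, ← hLmul, mul_inv_cancel, hLone])
      map_mul' := fun a b => Subtype.ext (by
        show L x * ((a : AddMonoid.End (Additive U)) * b) * L (x : W)⁻¹ =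
          (L x * a * L (x : W)⁻¹) * (L x * b * L (x : W)⁻¹)
        simp only [mul_assoc]; rw [← mul_assoc (L (x : W)⁻¹) (L x), ← hLmul, inv_mul_cancel, hLone, one_mul])
      map_zero' := Subtype.ext (by simp)
      map_add' := fun a b => Subtype.ext (by
        show L x * ((a : AddMonoid.End (Additive U)) + b) * L (x : W)⁻¹ = _
        rw [mul_add, add_mul]; rfl) }
  let Φ : F →* RingAut R := MonoidHom.mk'
    (fun x => RingEquiv.ofBijective (φ x) (Finite.injective_iff_bijective.mp (RingHom.injective _)))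
    (fun x y => RingEquiv.ext fun r => Subtype.ext (by
      show L ((x * y : F) : W) * r * L ((x * y : F) : W)⁻¹ = L x * (L y * r * L (y : W)⁻¹) * L (x : W)⁻¹
      rw [Subgroup.coe_mul, mul_inv_rev, hLmul, hLmul]
      simp only [mul_assoc]))
  have hΦ : Function.Injective Φ := by
    refine (injective_iff_map_eq_one _).mpr fun x hx => Subtype.ext (hLinj ?_)
    have h1 : L x * L h * L (x : W)⁻¹ = L h :=
      congrArg Subtype.val (DFunLike.congr_fun hx (⟨L h, Subring.subset_closure (Set.mem_singleton _)⟩ : R))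
    rw [← hLmul, ← hLmul] at h1
    have h2 : Commute (x : W) h := mul_inv_eq_iff_eq_mul.mp (hLinj h1)
    refine AddMonoidHom.ext fun y => ?_
    by_cases hy : y = 0
    · subst hy; rw [map_zero, map_zero]
    · obtain ⟨i, rfl⟩ := hexi y hy
      show (L (x : W) * L (h ^ i)) (Additive.ofMul u₀) = L ((1 : F) : W) (L (h ^ i) (Additive.ofMul u₀))
      rw [← hLmul, (h2.pow_right i).eq, hLmul, OneMemClass.coe_one, hLone]
      show L (h ^ i) (L (x : W) (Additive.ofMul u₀)) = L (h ^ i) (Additive.ofMul u₀)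
      rw [hLapp (x : W)]
      exact congrArg _ (congrArg Additive.ofMul (hFu x x.2))
  obtain ⟨hcyc, hcardA⟩ := CfsgLib.Chev.ringAut_cyclic_card (F := R) 2 hcardR
  haveI := hcyc
  letI : Fintype R := Fintype.ofFinite R
  set fr : RingAut R := frobeniusEquiv R 2 with hfr
  have hfrp : ∀ (i : ℕ) (r : R), (fr ^ i) r = r ^ 2 ^ i := fun i => by
    induction i with
    | zero => intro r; simp
    | succ i ih =>
      intro r
      rw [pow_succ, RingAut.mul_apply, ih, hfr, frobeniusEquiv_apply, frobenius_def, ← pow_mul, ← pow_succ']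
  haveI : Finite (RingAut R) := Nat.finite_of_card_ne_zero (by rw [hcardA]; omega)
  have hord : orderOf fr = n := by
    refine le_antisymm (hcardA ▸ Nat.le_of_dvd (by omega) (orderOf_dvd_natCard fr)) ?_
    by_contra hlt
    push Not at hlt
    have h1 : ∀ r : R, r ^ 2 ^ orderOf fr = r := fun r => by rw [← hfrp, pow_orderOf_eq_one]; rfl
    have h3 : 1 < 2 ^ orderOf fr := Nat.one_lt_pow (orderOf_pos fr).ne' (by norm_num)
    have h2 : Fintype.card R ≤ 2 ^ orderOf fr := by
      refine (Finset.card_le_card (s := Finset.univ) (t := ((Polynomial.X ^ 2 ^ orderOf fr - Polynomial.X :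
        Polynomial R)).roots.toFinset) fun r _ => ?_).trans ((Multiset.toFinset_card_le _).trans
          ((Polynomial.card_roots' _).trans (FiniteField.X_pow_card_sub_X_natDegree_eq R h3).le))
      rw [Multiset.mem_toFinset, Polynomial.mem_roots (FiniteField.X_pow_card_sub_X_ne_zero R h3),
        Polynomial.IsRoot.def]
      simp [h1 r]
    rw [← Nat.card_eq_fintype_card, hcardR] at h2
    have := Nat.pow_lt_pow_right (show 1 < 2 by norm_num) hlt
    omega
  have hfd : Nat.card F ∣ n := hcardA ▸ Subgroup.card_dvd_of_injective Φ hΦ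
  obtain ⟨e, he⟩ := hfd
  haveI := Fintype.ofFinite (RingAut R)
  letI : DecidableEq (RingAut R) := Classical.decEq _
  have hgen : Subgroup.zpowers (fr ^ e) = Φ.range := by
    refine Subgroup.eq_of_le_of_card_ge (fun a ha => ?_) ?_
    · have hpow : a ^ Nat.card F = 1 → a ∈ Φ.range := fun ha => by
        have h1 : (Finset.univ.filter fun b : RingAut R => b ∈ Φ.range) =
            Finset.univ.filter fun b : RingAut R => b ^ Nat.card F = 1 := by
          refine Finset.eq_of_subset_of_card_le (fun b hb => ?_) ((IsCyclic.card_pow_eq_one_le Nat.card_pos).trans ?_)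
          · simp only [Finset.mem_filter, Finset.mem_univ, true_and] at hb ⊢
            obtain ⟨x, rfl⟩ := hb
            rw [← map_pow, pow_card_eq_one', map_one]
          · rw [← Nat.subtype_card (p := fun b => b ∈ Φ.range) _ (fun b => by simp),
              Nat.card_congr (MonoidHom.ofInjective hΦ).toEquiv]
        have h2 : a ∈ Finset.univ.filter fun b : RingAut R => b ∈ Φ.range := h1 ▸ by simp [ha]
        exact (Finset.mem_filter.mp h2).2
      obtain ⟨j, rfl⟩ := Subgroup.mem_zpowers_iff.mp ha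
      refine hpow ?_
      rw [← zpow_natCast, zpow_comm, zpow_natCast, ← pow_mul, mul_comm e, ← he, ← hord, pow_orderOf_eq_one, one_zpow]
    · have he0 : e ≠ 0 := fun h0 => by rw [h0, mul_zero] at he; omega
      rw [Nat.card_zpowers, orderOf_pow_of_dvd he0 (by rw [hord]; exact Dvd.intro_left _ he.symm), hord,
        ← Nat.card_congr (MonoidHom.ofInjective hΦ).toEquiv, he, Nat.mul_div_cancel _ (Nat.pos_of_ne_zero he0)]
  obtain ⟨σ, hσ⟩ : fr ^ e ∈ Φ.range := hgen ▸ Subgroup.mem_zpowers _
  refine ⟨σ, σ.2, e, by rw [mul_comm, ← he], hLinj ?_⟩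
  have h1 := congrArg (fun a : RingAut R => ((a ⟨L h, Subring.subset_closure (Set.mem_singleton _)⟩ : R) :
    AddMonoid.End (Additive U))) hσ
  simp only [hfrp, SubmonoidClass.coe_pow] at h1
  rw [hLpow, hLmul, hLmul, ← h1]
  rfl

end CfsgLib.JT
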