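import Cfsg.Agent.Lib.JTType.Setup
import Cfsg.Agent.Lib.Elementary
import Cfsg.Agent.Lib.GW.Reduction

/-!
A Sylow 2-subgroup of the centraliser, read off from the quotient by the core.
-/

set_option autoImplicit false
set_option linter.unusedSectionVars false
set_option linter.style.haveILetI false

namespace CfsgLib.JT

theorem z2_cases : ∀ a : Multiplicative (ZMod 2), a = 1 ∨ a = Multiplicative.ofAdd 1 := by decide

theorem z2_ne : (Multiplicative.ofAdd (1 : ZMod 2)) ≠ 1 := by decide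

theorem z2_sq : Multiplicative.ofAdd (1 : ZMod 2) * Multiplicative.ofAdd 1 = 1 := by decide

/-- Two involutions whose product has odd order are conjugate by an element of the group they generate. -/
theorem conj_of_odd_mul {G : Type*} [Group G] {a b : G} (ha : a * a = 1) (hb : b * b = 1) (hodd : Odd (orderOf (b * a))) :
    ∃ y ∈ Subgroup.zpowers (b * a), y * a * y⁻¹ = b := by
  obtain ⟨m, hm⟩ := hodd
  refine ⟨(b * a) ^ (m + 1), Subgroup.pow_mem _ (Subgroup.mem_zpowers _) _, ?_⟩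
  have hw : ∀ i : ℕ, a * ((b * a) ^ i)⁻¹ = (b * a) ^ i * a := by
    intro i
    induction i with
    | zero => simp
    | succ i ih =>
      have h1 : a * (b * a)⁻¹ = b * a * a := by
        rw [mul_inv_rev, inv_eq_of_mul_eq_one_right ha, inv_eq_of_mul_eq_one_right hb, ← mul_assoc, ha, one_mul,
          mul_assoc, ha, mul_one]
      calc a * ((b * a) ^ (i + 1))⁻¹ = (a * (b * a)⁻¹) * ((b * a) ^ i)⁻¹ := by rw [pow_succ]; group
        _ = b * a * (a * ((b * a) ^ i)⁻¹) := by rw [h1]; group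
        _ = (b * a) ^ (i + 1) * a := by rw [ih, pow_succ']; group
  calc (b * a) ^ (m + 1) * a * ((b * a) ^ (m + 1))⁻¹ = (b * a) ^ (m + 1) * (a * ((b * a) ^ (m + 1))⁻¹) := mul_assoc _ _ _
    _ = (b * a) ^ (2 * m + 1) * (b * a) * a := by
      rw [hw, ← mul_assoc, ← pow_add, ← pow_succ]
      ring_nf
    _ = b := by rw [← hm, pow_orderOf_eq_one, one_mul, mul_assoc, ha, mul_one]

variable {G : Type*} [Group G] [Finite G] {X : Type*} [Group X] [Finite X]

/-- What the hypothesis gives about the centraliser `C` of `t`. -/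
structure Census (t : G) (T D : Subgroup G) (X : Type*) [Group X] [Finite X] where
  inv : Inv t T
  DT : D ≤ T
  idx : D.relIndex T = 2
  tD : t ∉ D
  /-- the normal subgroup of odd index -/
  C₂ : Subgroup G
  C₂C : C₂ ≤ Subgroup.centralizer ({t} : Set G)
  TC₂ : T ≤ C₂
  C₂n : ∀ c ∈ Subgroup.centralizer ({t} : Set G), ∀ x ∈ C₂, c * x * c⁻¹ ∈ C₂
  /-- the map to the simple factor -/
  σ : C₂ →* X
  surj : Function.Surjective σ
  σinj : ∀ x : C₂, (x : G) ∈ D → σ x = 1 → (x : G) = 1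
  sylow : ∃ P : Sylow 2 X, ∀ p : X, p ∈ (P : Subgroup X) ↔ ∃ x : C₂, (x : G) ∈ D ∧ σ x = p
  fus : ∀ x y : C₂, (x : G) ∈ D → (y : G) ∈ D → (x : G) * x = 1 → (y : G) * y = 1 → IsConj (σ x) (σ y) →
    ∃ c : C₂, (c : G) * x * (c : G)⁻¹ = y
  normD : ∀ c ∈ Subgroup.centralizer ({t} : Set G), ∀ x ∈ D, c * x * c⁻¹ ∈ T → c * x * c⁻¹ ∈ D

/-- The census from the structure of `C/O(C)`. -/
theorem exists_census [IsSimpleGroup X] (hX : ¬ IsMulCommutative X) (t : G) (ht : orderOf t = 2)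
    (e : ↥(Subgroup.closure {x : (↥(Subgroup.centralizer ({t} : Set G)) ⧸
        Cfsg.oddCore ↥(Subgroup.centralizer ({t} : Set G))) | ∃ k : ℕ, orderOf x = 2 ^ k}) ≃*
      (Multiplicative (ZMod 2) × X)) :
    ∃ T D : Subgroup G, Nonempty (Census t T D X) := by
  classical
  haveI : Fact (Nat.Prime 2) := ⟨Nat.prime_two⟩
  set C := Subgroup.centralizer ({t} : Set G) with hC
  set O := Cfsg.oddCore C with hO
  set O₂ := Subgroup.closure {x : C ⧸ O | ∃ k : ℕ, orderOf x = 2 ^ k} with hO₂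
  have hO₂n : O₂.Normal := by
    refine ⟨fun n hn g => ?_⟩
    have : O₂.map (MulAut.conj g).toMonoidHom ≤ O₂ := by
      rw [hO₂, MonoidHom.map_closure, Subgroup.closure_le]
      rintro _ ⟨x, ⟨k, hk⟩, rfl⟩
      exact Subgroup.subset_closure ⟨k, (MulEquiv.orderOf_eq (MulAut.conj g) x).trans hk⟩
    exact this ⟨n, hn, rfl⟩
  have htt : t * t = 1 := by rw [← pow_two, ← ht, pow_orderOf_eq_one]
  have ht1 : t ≠ 1 := fun h => by rw [h, orderOf_one] at ht; omega
  have htC : t ∈ C := Subgroup.mem_centralizer_singleton_iff.mpr rfl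
  let π : C →* C ⧸ O := QuotientGroup.mk' O
  have hker : ∀ x : C, π x = 1 → Odd (orderOf x) := fun x hx =>
    CfsgLib.odd_card_oddCore.of_dvd_nat (Subgroup.orderOf_dvd_natCard _ ((QuotientGroup.eq_one_iff x).mp hx))
  have h2el : ∀ x : C, (∃ k : ℕ, x ^ 2 ^ k = 1) → π x = 1 → x = 1 := by
    rintro x ⟨k, hk⟩ hx
    exact orderOf_eq_one_iff.mp (Nat.eq_one_of_dvd_coprimes
      ((Nat.coprime_two_left.mpr (hker x hx)).pow_left k) (orderOf_dvd_of_pow_eq_one hk) dvd_rfl)
  let τ : C := ⟨t, htC⟩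
  have hτ : ∀ x : C, τ * x = x * τ := fun x => Subtype.ext (Subgroup.mem_centralizer_singleton_iff.mp x.2).symm
  let C₂' : Subgroup C := O₂.comap π
  let θ : C₂' →* Multiplicative (ZMod 2) × X :=
    e.toMonoidHom.comp ((π.comp C₂'.subtype).codRestrict O₂ fun x => x.2)
  have hθsurj : Function.Surjective θ := by
    intro p
    obtain ⟨w, rfl⟩ := e.surjective p
    obtain ⟨c, hc⟩ := QuotientGroup.mk'_surjective O w.1
    exact ⟨⟨c, show π c ∈ O₂ by rw [show π c = w.1 from hc]; exact w.2⟩, congrArg e (Subtype.ext hc)⟩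
  have hθker : ∀ x : C₂', θ x = 1 → π x.1 = 1 := fun x hx => congrArg Subtype.val (e.map_eq_one_iff.mp hx)
  obtain ⟨T₀⟩ : Nonempty (Sylow 2 C) := inferInstance
  have hT₀C₂ : (T₀ : Subgroup C) ≤ C₂' := by
    intro x hx
    obtain ⟨k, hk⟩ := T₀.2 ⟨x, hx⟩
    show π x ∈ O₂
    refine Subgroup.subset_closure ?_
    obtain ⟨j, -, hj⟩ := (Nat.dvd_prime_pow Nat.prime_two).mp (orderOf_dvd_of_pow_eq_one
      (show π x ^ 2 ^ k = 1 by rw [← map_pow, show x ^ 2 ^ k = 1 from congrArg Subtype.val hk, map_one]))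
    exact ⟨j, hj⟩
  have hτT : τ ∈ (T₀ : Subgroup C) := by
    obtain ⟨Q, hQ⟩ := (show IsPGroup 2 (Subgroup.zpowers τ) from IsPGroup.of_card (n := 1) (by
      rw [Nat.card_zpowers, Subgroup.orderOf_mk, ht, pow_one])).exists_le_sylow
    obtain ⟨g, hg⟩ := MulAction.exists_smul_eq C Q T₀
    rw [← hg]
    refine ⟨τ, hQ (Subgroup.mem_zpowers τ), ?_⟩
    show g * τ * g⁻¹ = τ
    rw [← hτ, mul_inv_cancel_right]
  -- the map `θ` at `τ`
  have hθinj : ∀ x : C₂', x.1 ∈ (T₀ : Subgroup C) → θ x = 1 → x = 1 := by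
    intro x hx h1
    obtain ⟨k, hk⟩ := T₀.2 ⟨x.1, hx⟩
    exact Subtype.ext (h2el x.1 ⟨k, congrArg Subtype.val hk⟩ (hθker x h1))
  let τ₂ : C₂' := ⟨τ, hT₀C₂ hτT⟩
  have hθτ : (θ τ₂).2 = 1 ∧ (θ τ₂).1 = Multiplicative.ofAdd 1 := by
    have hcen : ∀ p, θ τ₂ * p = p * θ τ₂ := fun p => by
      obtain ⟨x, rfl⟩ := hθsurj p
      rw [← map_mul, ← map_mul]
      exact congrArg θ (Subtype.ext (hτ x.1))
    have h2 : (θ τ₂).2 = 1 := by
      have hz : (θ τ₂).2 ∈ Subgroup.center X :=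
        Subgroup.mem_center_iff.mpr fun y => (congrArg Prod.snd (hcen (1, y))).symm
      rcases (inferInstance : (Subgroup.center X).Normal).eq_bot_or_eq_top with h | h
      · rwa [h, Subgroup.mem_bot] at hz
      · exact absurd ⟨⟨fun a b => (Subgroup.mem_center_iff.mp (h ▸ Subgroup.mem_top a) b).symm⟩⟩ hX
    refine ⟨h2, ?_⟩
    rcases z2_cases (θ τ₂).1 with h | h
    · exact absurd (congrArg (fun x : C₂' => ((x : C) : G)) (hθinj τ₂ hτT (Prod.ext h h2))) ht1
    · exact h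
  let φ₁ : C₂' →* Multiplicative (ZMod 2) := (MonoidHom.fst _ _).comp θ
  let φ₂ : C₂' →* X := (MonoidHom.snd _ _).comp θ
  let T' : Sylow 2 C₂' := T₀.subtype hT₀C₂
  set D' := (T' : Subgroup C₂') ⊓ φ₁.ker with hD'
  set C₂ := C₂'.map C.subtype with hC₂
  set T := (T₀ : Subgroup C).map C.subtype with hT
  set D := (D'.map C₂'.subtype).map C.subtype with hD
  have hmemT : ∀ x : C₂', ((x : C) : G) ∈ T ↔ x ∈ (T' : Subgroup C₂') := fun x =>
    ⟨fun ⟨y, hy, h⟩ => by obtain rfl := Subtype.ext (p := fun g => g ∈ C) h; exact hy, fun h => ⟨x.1, h, rfl⟩⟩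
  have hmemD : ∀ x : C₂', ((x : C) : G) ∈ D ↔ x ∈ D' :=
    fun x => ⟨fun ⟨y, ⟨z, hz, hzy⟩, h⟩ => by
      obtain rfl := Subtype.ext (p := fun g => g ∈ C) (show ((y : C) : G) = ((x : C) : G) from h)
      obtain rfl := Subtype.ext (p := fun g => g ∈ C₂') hzy
      exact hz, fun h => ⟨x.1, ⟨x, h, rfl⟩, rfl⟩⟩
  have hDT : D ≤ T := by
    rintro _ ⟨_, ⟨x, hx, rfl⟩, rfl⟩
    exact ⟨x.1, hx.1, rfl⟩
  have htD : t ∉ D := fun h => by
    have h1 : φ₁ τ₂ = 1 := MonoidHom.mem_ker.mp ((hmemD τ₂).mp h).2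
    have h2 : Multiplicative.ofAdd (1 : ZMod 2) = 1 := hθτ.2.symm.trans h1
    exact z2_ne h2
  have hInv : Inv t T := by
    refine ⟨ht1, htt, ⟨τ, hτT, rfl⟩, Subgroup.map_subtype_le _, T₀.2.map _, ?_⟩
    show Odd ((T₀ : Subgroup C).map C.subtype |>.subgroupOf C).index
    rw [Subgroup.subgroupOf, Subgroup.comap_map_eq_self_of_injective C.subtype_injective,
      ← Nat.not_even_iff_odd, even_iff_two_dvd]
    exact T₀.not_dvd_index
  have hidx : D.relIndex T = 2 := by
    show ((D'.map C₂'.subtype).map C.subtype).relIndex ((T₀ : Subgroup C).map C.subtype) = 2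
    rw [Subgroup.relIndex_map_map_of_injective _ _ C.subtype_injective,
      show (T₀ : Subgroup C) = (T' : Subgroup C₂').map C₂'.subtype from
        (Subgroup.map_subgroupOf_eq_of_le hT₀C₂).symm,
      Subgroup.relIndex_map_map_of_injective _ _ C₂'.subtype_injective, hD', Subgroup.inf_relIndex_left]
    show (φ₁.ker.subgroupOf (T' : Subgroup C₂')).index = 2
    rw [Subgroup.index_eq_two_iff]
    refine ⟨⟨τ₂, hτT⟩, fun b => ?_⟩
    rw [Subgroup.mem_subgroupOf, Subgroup.mem_subgroupOf, MonoidHom.mem_ker, MonoidHom.mem_ker, Subgroup.coe_mul,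
      map_mul, show φ₁ τ₂ = Multiplicative.ofAdd 1 from hθτ.2]
    rcases z2_cases (φ₁ b.1) with h | h <;>
      simp [h, z2_ne, z2_sq, xor_def]
  let ι : C₂ →* C₂' :=
    MonoidHom.mk' (fun x => ⟨⟨x.1, Subgroup.map_subtype_le _ x.2⟩, by
        obtain ⟨y, hy, h⟩ := x.2
        rwa [show (⟨x.1, Subgroup.map_subtype_le _ x.2⟩ : C) = y from Subtype.ext h.symm]⟩)
      fun a b => rfl
  refine ⟨T, D, ⟨
    { inv := hInv
      DT := hDT
      idx := hidx
      tD := htD
      C₂ := C₂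
      C₂C := Subgroup.map_subtype_le _
      TC₂ := Subgroup.map_mono hT₀C₂
      C₂n := fun c hc x hx => by
        obtain ⟨y, hy, rfl⟩ := hx
        exact ⟨⟨c, hc⟩ * y * ⟨c, hc⟩⁻¹, (hO₂n.comap π).conj_mem y hy ⟨c, hc⟩, rfl⟩
      σ := φ₂.comp ι
      surj := fun p => by
        obtain ⟨x, hx⟩ := hθsurj (1, p)
        exact ⟨⟨x.1, x.1, x.2, rfl⟩, congrArg Prod.snd hx⟩
      σinj := fun x hx h => by
        have h' := (hmemD (ι x)).mp hx
        have := hθinj (ι x) h'.1 (Prod.ext (MonoidHom.mem_ker.mp h'.2) h)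
        exact congrArg (fun y : C₂' => ((y : C) : G)) this
      sylow := by
        refine ⟨T'.mapSurjective (f := φ₂) (fun p => ?_), fun p => ?_⟩
        · obtain ⟨x, hx⟩ := hθsurj (1, p)
          exact ⟨x, congrArg Prod.snd hx⟩
        show p ∈ (T' : Subgroup C₂').map φ₂ ↔ _
        constructor
        · rintro ⟨x, hx, rfl⟩
          rcases z2_cases (φ₁ x) with h | h
          · exact ⟨⟨_, x.1, x.2, rfl⟩, (hmemD x).mpr ⟨hx, MonoidHom.mem_ker.mpr h⟩, rfl⟩
          · refine ⟨⟨_, (x * τ₂).1, (x * τ₂).2, rfl⟩, (hmemD (x * τ₂)).mpr ⟨mul_mem hx hτT, ?_⟩, ?_⟩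
            · show φ₁ (x * τ₂) = 1
              rw [map_mul, h, show φ₁ τ₂ = Multiplicative.ofAdd 1 from hθτ.2]
              exact z2_sq
            · show φ₂ (x * τ₂) = φ₂ x
              rw [map_mul, show φ₂ τ₂ = 1 from hθτ.1, mul_one]
        · rintro ⟨x, hx, rfl⟩
          exact ⟨ι x, ((hmemD (ι x)).mp hx).1, rfl⟩
      fus := fun x y hx hy hx2 hy2 hc => by
        obtain ⟨n, hn⟩ := isConj_iff.mp hc
        obtain ⟨c, hc'⟩ := hθsurj (1, n)
        set w := c * ι x * c⁻¹ with hw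
        have hθw : θ w = θ (ι y) := by
          rw [hw, map_mul, map_mul, map_inv, hc']
          have h1 : φ₁ (ι x) = 1 := MonoidHom.mem_ker.mp ((hmemD (ι x)).mp hx).2
          have h2 : φ₁ (ι y) = 1 := MonoidHom.mem_ker.mp ((hmemD (ι y)).mp hy).2
          refine Prod.ext ?_ ?_
          · show 1 * φ₁ (ι x) * 1⁻¹ = φ₁ (ι y)
            rw [h1, h2, mul_one, one_mul, inv_one]
          · exact hn
        have hw2 : w * w = 1 := by
          have e1 : ι x * ι x = 1 := Subtype.ext (Subtype.ext hx2)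
          rw [hw, conj_mul, e1, mul_one, mul_inv_cancel]
        have hy2' : ι y * ι y = 1 := Subtype.ext (Subtype.ext hy2)
        have hodd : Odd (orderOf (ι y * w)) := by
          rw [← Subgroup.orderOf_coe]
          refine hker _ (hθker (ι y * w) ?_)
          rw [map_mul, hθw, ← map_mul, hy2', map_one]
        obtain ⟨z, -, hz⟩ := conj_of_odd_mul hw2 hy2' hodd
        refine ⟨⟨_, (z * c).1, (z * c).2, rfl⟩, ?_⟩
        have := congrArg (fun v : C₂' => ((v : C) : G))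
          (show z * c * ι x * (z * c)⁻¹ = ι y by rw [← hz, hw]; group)
        exact this
      normD := fun c hc x hx hxT => by
        obtain ⟨_, ⟨x', hx', rfl⟩, rfl⟩ := hx
        set cx : C₂' := ⟨⟨c, hc⟩ * x'.1 * ⟨c, hc⟩⁻¹, (hO₂n.comap π).conj_mem x'.1 x'.2 ⟨c, hc⟩⟩ with hcx
        refine (hmemD cx).mpr ⟨(hmemT cx).mp hxT, MonoidHom.mem_ker.mpr ?_⟩
        -- elements with trivial first part are products of commutators
        have hx1 : φ₁ x' = 1 := MonoidHom.mem_ker.mp hx'.2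
        have htop : commutator X = ⊤ := (inferInstance : (commutator X).Normal).eq_bot_or_eq_top.resolve_left fun h =>
          hX ⟨⟨fun a b => commutatorElement_eq_one_iff_mul_comm.mp (Subgroup.mem_bot.mp
            (h ▸ Subgroup.commutator_mem_commutator (Subgroup.mem_top a) (Subgroup.mem_top b)))⟩⟩
        haveI := hO₂n
        have hmem : (π x'.1) ∈ ⁅O₂, O₂⁆ := by
          have h1 : θ x' ∈ (commutator X).map (MonoidHom.inr (Multiplicative (ZMod 2)) X) := by
            rw [htop]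
            exact ⟨φ₂ x', Subgroup.mem_top _, Prod.ext hx1.symm rfl⟩
          rw [commutator_def, Subgroup.map_commutator] at h1
          have hle : ⁅(⊤ : Subgroup X).map (MonoidHom.inr (Multiplicative (ZMod 2)) X),
              (⊤ : Subgroup X).map (MonoidHom.inr (Multiplicative (ZMod 2)) X)⁆ ≤
              (⁅(⊤ : Subgroup ↥O₂), (⊤ : Subgroup ↥O₂)⁆ : Subgroup ↥O₂).map e.toMonoidHom := by
            rw [Subgroup.map_commutator]
            refine Subgroup.commutator_mono ?_ ?_ <;>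
              exact (le_top.trans_eq (Subgroup.map_top_of_surjective e.toMonoidHom e.surjective).symm)
          obtain ⟨w, hw, hwe⟩ := hle h1
          have h2 : w = ⟨π x'.1, x'.2⟩ := e.injective hwe
          have h3 := Subgroup.mem_map_of_mem O₂.subtype hw
          rw [Subgroup.map_commutator, ← MonoidHom.range_eq_map, Subgroup.range_subtype, h2] at h3
          exact h3
        have hmem2 : (⟨π cx.1, cx.2⟩ : ↥O₂) ∈ commutator ↥O₂ := by
          have h1 : π cx.1 ∈ ⁅O₂, O₂⁆ := by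
            show π (⟨c, hc⟩ * x'.1 * ⟨c, hc⟩⁻¹) ∈ _
            rw [map_mul, map_mul, map_inv]
            exact (inferInstance : (⁅O₂, O₂⁆).Normal).conj_mem _ hmem _
          have h3 : ⁅O₂, O₂⁆ = (commutator ↥O₂).map O₂.subtype := by
            rw [commutator_def, Subgroup.map_commutator, ← MonoidHom.range_eq_map, Subgroup.range_subtype]
          rw [h3] at h1
          obtain ⟨w, hw, hwe⟩ := h1
          rwa [show w = ⟨π cx.1, cx.2⟩ from Subtype.ext hwe] at hw
        exact Abelianization.commutator_subset_ker ((MonoidHom.fst _ _).comp e.toMonoidHom) hmem2 }⟩⟩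

end CfsgLib.JT
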