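import Cfsg.Agent.Lib.JTType.Setup

/-!
The dihedral case: a Sylow 2-subgroup `⟨t⟩ × D` of the centraliser with `D` dihedral of order at least eight is
impossible in a simple group.
-/

set_option autoImplicit false
set_option linter.unusedSectionVars false
set_option linter.style.haveILetI false

namespace CfsgLib.JT

variable {G : Type*} [Group G] [Finite G]

/-- The data of the dihedral case; `z` is the central involution of `D`. -/
structure Dih (t : G) (T D : Subgroup G) (z : G) : Prop where
  inv : Inv t T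
  DT : D ≤ T
  idx : D.relIndex T = 2
  tD : t ∉ D
  zD : z ∈ D
  z1 : z ≠ 1
  zz : z * z = 1
  zc : ∀ x ∈ D, x * z = z * x
  zchar : ∀ g ∈ Subgroup.normalizer (T : Set G), g * z * g⁻¹ = z
  center : ∀ x ∈ T, (∀ y ∈ T, x * y = y * x) → x = 1 ∨ x = t ∨ x = z ∨ x = t * z
  fus : ∀ u ∈ D, u ≠ 1 → u * u = 1 → ∃ c ∈ Subgroup.centralizer ({t} : Set G), c * z * c⁻¹ = u
  gen : D ≤ Subgroup.closure {x | x ∈ D ∧ x * x = 1}
  count : Nat.card {x : G // x ∈ D ∧ x * x = 1} % 4 = 2
  refl : ∀ d ∈ D, d * d = z → ∃ r ∈ D, r * r = 1 ∧ r * d * r⁻¹ = d⁻¹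

namespace Dih

variable {t : G} {T D : Subgroup G} {z : G} (P : Dih t T D z)
include P

theorem mul_mem_iff {x : G} (hx : x ∈ T) : t * x ∈ D ↔ x ∉ D := by
  have h := mem_iff_not_mul P.idx hx P.inv.tT P.tD
  rw [← P.inv.comm hx]
  tauto

theorem sq_mul {x : G} (hx : x ∈ T) : t * x * (t * x) = x * x := by
  calc t * x * (t * x) = t * (x * t) * x := by group
    _ = (t * t) * (x * x) := by rw [P.inv.comm hx]; group
    _ = x * x := by rw [P.inv.sq, one_mul]

theorem conj_invol {x : G} (h : IsConj t x) : x * x = 1 := by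
  obtain ⟨g, rfl⟩ := isConj_iff.mp h
  rw [conj_mul, P.inv.sq, mul_one, mul_inv_cancel]

/-- The main argument when `s, s'` are the two conjugates outside `T`. -/
theorem false_of_pair {s s' d r : G} (hd : d ∈ D) (hdz : d * d = z) (hr : r ∈ D) (hr1 : r * r = 1)
    (hrd : r * d * r⁻¹ = d⁻¹) (he : s' = s * t * d) (hs : IsConj t s) (hs' : IsConj t s') (hsd : s * d = d * s)
    (hsr : s * r = r * s) (hs'r : s' * (r * t) = r * t * s')
    (hK : ∀ x ∈ T, IsConj t x ↔ x ∉ D ∧ x * x = 1)
    (hprod : ∀ a i : G, IsConj t a → i * i = 1 → a * i = i * a → (IsConj t i ↔ ¬ IsConj t (a * i))) : False := by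
  have hrt : r * t = t * r := P.inv.comm (P.DT hr)
  have hrT : r * t ∈ T := mul_mem (P.DT hr) P.inv.tT
  have hrtD : r * t ∉ D := fun h => P.tD ((Subgroup.mul_mem_cancel_left D hr).mp h)
  have hrtsq : r * t * (r * t) = 1 := by rw [hrt, P.sq_mul (P.DT hr), hr1]
  have h1 : ¬ IsConj t (s' * (r * t)) := (hprod s' (r * t) hs' hrtsq hs'r).mp ((hK _ hrT).mpr ⟨hrtD, hrtsq⟩)
  have hdr : d * r * (d * r) = 1 := by
    have hri : r⁻¹ = r := inv_eq_of_mul_eq_one_right hr1
    rw [hri] at hrd
    calc d * r * (d * r) = d * (r * d * r) := by group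
      _ = 1 := by rw [hrd, mul_inv_cancel]
  have h2 : IsConj t (s * (d * r)) := by
    by_contra hc
    have := (hprod s (d * r) hs hdr (by rw [← mul_assoc, hsd, mul_assoc, hsr, ← mul_assoc])).mpr hc
    exact ((hK _ (mul_mem (P.DT hd) (P.DT hr))).mp this).1 (mul_mem hd hr)
  refine h1 ?_
  have e : s' * (r * t) = s * (d * r) := by
    have hdt : d * r * t = t * (d * r) := P.inv.comm (mul_mem (P.DT hd) (P.DT hr))
    calc s' * (r * t) = s * t * (d * r * t) := by rw [he]; group
      _ = s * (t * t) * (d * r) := by rw [hdt]; group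
      _ = s * (d * r) := by rw [P.inv.sq, mul_one]
  rw [e]
  exact h2

/-- No simple group has this centraliser of an involution. -/
theorem false [IsSimpleGroup G] (hG : ¬ IsMulCommutative G) (S : Sylow 2 G) (hTS : T ≤ (S : Subgroup G)) : False := by
  classical
  haveI : Fact (Nat.Prime 2) := ⟨Nat.prime_two⟩
  have I := P.inv
  have hne : t * z ≠ z := fun e => I.ne (mul_eq_right.mp e)
  -- what a normaliser of `T` outside the centraliser does to `t`
  have hmove : ∀ g ∈ (S : Subgroup G), g ∈ Subgroup.normalizer (T : Set G) → g ∉ T → g * t * g⁻¹ = t * z := by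
    intro g hgS hg hgT
    rcases P.center _ (norm_conj hg I.tT) (fun y hy => by
        have hy' : g⁻¹ * y * g ∈ T := by
          have := norm_conj (inv_mem hg) hy
          rwa [inv_inv] at this
        calc g * t * g⁻¹ * y = g * (t * (g⁻¹ * y * g)) * g⁻¹ := by group
          _ = g * (g⁻¹ * y * g * t) * g⁻¹ := by rw [I.comm hy']
          _ = y * (g * t * g⁻¹) := by group) with h | h | h | h
    · exact absurd (conj_eq_one_iff.mp h) I.ne
    · exact absurd (I.mem_of_comm S.2 hTS hgS (mul_inv_eq_iff_eq_mul.mp h)) hgT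
    · exact absurd (mul_left_cancel (mul_right_cancel (h.trans (P.zchar g hg).symm)))
        (fun e => P.tD (e ▸ P.zD))
    · exact h
  -- the central involution of `D` is not a conjugate of `t`
  have hz : ¬ IsConj t z := by
    intro hK
    rcases eq_or_ne T (S : Subgroup G) with hTS' | hTS'
    · obtain ⟨g, hg⟩ := isConj_iff.mp hK
      have hcz : z ∈ Subgroup.centralizer ((S : Subgroup G) : Set G) := by
        rw [← hTS']
        intro y hy
        rcases em (y ∈ D) with h | h
        · exact P.zc y h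
        · have h1 := P.zc _ ((P.mul_mem_iff hy).mpr h)
          have h2 : y = t * (t * y) := by rw [← mul_assoc, I.sq, one_mul]
          rw [h2]
          calc t * (t * y) * z = t * (t * y * z) := by group
            _ = (t * z) * (t * y) := by rw [h1]; group
            _ = z * (t * (t * y)) := by rw [← I.comm (P.DT P.zD)]; group
      have hct : t ∈ Subgroup.centralizer ((S : Subgroup G) : Set G) := by
        rw [← hTS']
        exact fun y hy => I.comm hy
      obtain ⟨n, hn, hn'⟩ := S.conj_eq_normalizer_conj_of_mem_centralizer t g⁻¹ hct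
        (by rw [inv_inv, hg]; exact hcz)
      rw [inv_inv, hg] at hn'
      rw [show (S : Set G) = (T : Set G) by rw [hTS']; rfl] at hn
      have h1 : n * z * n⁻¹ = z := P.zchar n hn
      have h2 : z = t := by
        calc z = n * z * n⁻¹ := h1.symm
          _ = t := by rw [hn']; group
      exact P.tD (h2 ▸ P.zD)
    · obtain ⟨g, hgS, hgT, hg⟩ := exists_norm S.2 hTS hTS'
      set V := (S : Subgroup G) ⊓ Subgroup.centralizer ({z} : Set G) with hV
      have hgV : g ∈ V := ⟨hgS, Subgroup.mem_centralizer_singleton_iff.mpr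
        (mul_inv_eq_iff_eq_mul.mp (P.zchar g hg))⟩
      have hTV : T ≤ V := fun y hy => ⟨hTS hy, Subgroup.mem_centralizer_singleton_iff.mpr
        (mul_inv_eq_iff_eq_mul.mp (P.zchar y (Subgroup.le_normalizer hy)))⟩
      have := I.conj_card_le (S.2.to_le (inf_le_left (b := Subgroup.centralizer ({z} : Set G)))) hK
        (fun x hx => Subgroup.mem_centralizer_singleton_iff.mp hx.2)
      exact hgT ((Subgroup.eq_of_le_of_card_ge hTV this) ▸ hgV)
  have hDK : ∀ u ∈ D, ¬ IsConj t u := by
    intro u hu hK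
    have hu1 : u ≠ 1 := fun e => I.ne (isConj_one_left.mp (e ▸ hK))
    obtain ⟨c, -, rfl⟩ := P.fus u hu hu1 (P.conj_invol hK)
    exact hz (hK.trans (isConj_iff.mpr ⟨c⁻¹, by group⟩))
  have hcardT : Nat.card T = 2 * Nat.card D := by
    rw [← Subgroup.relIndex_bot_left T, ← Subgroup.relIndex_mul_relIndex ⊥ D T bot_le P.DT, P.idx,
      Subgroup.relIndex_bot_left, mul_comm]
  rcases eq_or_ne T (S : Subgroup G) with hTS' | hTS'
  · obtain ⟨o, ho, hi⟩ := index_two_part S (Y := D) (a := 2) (hTS'.symm ▸ P.DT) (by rw [← hTS', hcardT])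
    exact thompson_false hG D hi ho I.sq hDK
  obtain ⟨g₀, hg₀S, hg₀T, hg₀⟩ := exists_norm S.2 hTS hTS'
  have htz : IsConj t (t * z) := isConj_iff.mpr ⟨g₀, hmove g₀ hg₀S hg₀ hg₀T⟩
  have hK : ∀ x ∈ T, IsConj t x ↔ x ∉ D ∧ x * x = 1 := by
    refine fun x hx => ⟨fun h => ⟨fun hd => hDK x hd h, P.conj_invol h⟩, fun ⟨hd, hsq⟩ => ?_⟩
    rcases eq_or_ne (t * x) 1 with h1 | h1
    · rw [show x = t from (eq_inv_of_mul_eq_one_right h1).trans (inv_eq_of_mul_eq_one_right I.sq)]
    obtain ⟨c, hc, hcz⟩ := P.fus _ ((P.mul_mem_iff hx).mpr hd) h1 (by rw [P.sq_mul hx, hsq])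
    refine htz.trans (isConj_iff.mpr ⟨c, ?_⟩)
    calc c * (t * z) * c⁻¹ = c * t * (c⁻¹ * (c * z * c⁻¹)) := by group
      _ = t * c * (c⁻¹ * (t * x)) := by rw [hcz, Subgroup.mem_centralizer_singleton_iff.mp hc]
      _ = (t * t) * x := by group
      _ = x := by rw [I.sq, one_mul]
  obtain ⟨o, ho, hC⟩ := I.card_cent
  have hkT : kcount t T = Nat.card {x : G // x ∈ D ∧ x * x = 1} :=
    Nat.card_congr
      { toFun := fun y => ⟨t * y.1, (P.mul_mem_iff y.2.1).mpr ((hK _ y.2.1).mp y.2.2).1,
          by rw [P.sq_mul y.2.1]; exact P.conj_invol y.2.2⟩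
        invFun := fun u => ⟨t * u.1, mul_mem I.tT (P.DT u.2.1), (hK _ (mul_mem I.tT (P.DT u.2.1))).mpr
          ⟨fun h => P.tD ((Subgroup.mul_mem_cancel_right D u.2.1).mp h), by rw [P.sq_mul (P.DT u.2.1), u.2.2]⟩⟩
        left_inv := fun y => Subtype.ext (by show t * (t * y.1) = _; rw [← mul_assoc, I.sq, one_mul])
        right_inv := fun u => Subtype.ext (by show t * (t * u.1) = _; rw [← mul_assoc, I.sq, one_mul]) }
  obtain ⟨m, hm⟩ := (Nat.dvd_prime_pow Nat.prime_two).mp
    ((S.2.exists_card_eq).choose_spec ▸ Subgroup.relIndex_dvd_card T (S : Subgroup G))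
  have hcardS : T.relIndex (S : Subgroup G) * Nat.card T = Nat.card (S : Subgroup G) := by
    rw [← Subgroup.relIndex_bot_left T, ← Subgroup.relIndex_bot_left (S : Subgroup G), mul_comm,
      Subgroup.relIndex_mul_relIndex ⊥ T _ bot_le hTS]
  obtain ⟨hm1, hm2⟩ := hm
  match m, hm1, hm2 with
  | 0, _, h => exact hTS' (le_antisymm hTS (Subgroup.relIndex_eq_one.mp (by simpa using h)))
  | m + 2, _, h =>
    -- large index
    obtain ⟨o', ho', hidx⟩ := index_two_part S hTS hcardS
    obtain ⟨a, ha⟩ : ∃ a, Nat.card {x : G // x ∈ D ∧ x * x = 1} = 2 * a :=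
      Nat.dvd_of_mod_eq_zero (by have := P.count; omega)
    have hao : Odd a := Nat.odd_iff.mpr (by have := P.count; omega)
    refine parity_false hG T I.sq (j := a * o) ?_ (hao.mul ho) ?_
    · rw [hidx, h]
      exact Dvd.dvd.mul_right ⟨2 ^ m, by ring⟩ _
    · rw [hkT, hC, ha]; ring
  | 1, _, h =>
    have hidx2 : T.relIndex (S : Subgroup G) = 2 := by simpa using h
    have hTn : ∀ g ∈ (S : Subgroup G), g ∈ Subgroup.normalizer (T : Set G) := by
      haveI : (T.subgroupOf (S : Subgroup G)).Normal := Subgroup.normal_of_index_eq_two hidx2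
      intro g hg
      exact mem_norm fun x hx => ‹(T.subgroupOf (S : Subgroup G)).Normal›.conj_mem ⟨x, hTS hx⟩ hx ⟨g, hg⟩
    have hDS : D ≤ (S : Subgroup G) := P.DT.trans hTS
    haveI hDn : (D.subgroupOf (S : Subgroup G)).Normal := by
      refine ⟨fun n hn g => ?_⟩
      have h1 : Subgroup.closure {x | x ∈ D ∧ x * x = 1} ≤ D.comap (MulAut.conj (g : G)).toMonoidHom := by
        rw [Subgroup.closure_le]
        rintro u ⟨hu, hu1⟩
        show (g : G) * u * (g : G)⁻¹ ∈ D
        have hT' := norm_conj (hTn g g.2) (P.DT hu)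
        by_contra hd
        have h2 := (hK _ hT').mpr ⟨hd, by rw [conj_mul, hu1, mul_one, mul_inv_cancel]⟩
        exact hDK u hu (h2.trans (isConj_iff.mpr ⟨(g : G)⁻¹, by group⟩))
      exact h1 (P.gen hn)
    have hQcard : Nat.card ((S : Subgroup G) ⧸ D.subgroupOf (S : Subgroup G)) = 2 ^ 2 := by
      show D.relIndex (S : Subgroup G) = 2 ^ 2
      rw [← Subgroup.relIndex_mul_relIndex D T _ P.DT hTS, P.idx, hidx2]
      norm_num
    letI hQ : CommGroup ((S : Subgroup G) ⧸ D.subgroupOf (S : Subgroup G)) :=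
      { (inferInstance : Group ((S : Subgroup G) ⧸ D.subgroupOf (S : Subgroup G))) with
        mul_comm := IsPGroup.commutative_of_card_eq_prime_sq hQcard }
    let χ : (S : Subgroup G) →* (S : Subgroup G) ⧸ D.subgroupOf (S : Subgroup G) := QuotientGroup.mk' _
    have hχ : ∀ x, χ x = 1 ↔ (x : G) ∈ D := fun x => (QuotientGroup.eq_one_iff x).trans Subgroup.mem_subgroupOf
    have htt : χ ⟨t, hTS I.tT⟩ * χ ⟨t, hTS I.tT⟩ = 1 := by
      rw [← map_mul, hχ]
      exact (show t * t ∈ D from I.sq ▸ one_mem D)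
    have hTQ : ∀ x : (S : Subgroup G), (x : G) ∈ T → χ x = 1 ∨ χ x = χ ⟨t, hTS I.tT⟩ := fun x hx => by
      rcases em ((x : G) ∈ D) with hd | hd
      · exact .inl ((hχ x).mpr hd)
      · refine .inr ?_
        have h1 : χ (⟨t, hTS I.tT⟩ * x) = 1 := (hχ _).mpr ((P.mul_mem_iff hx).mpr hd)
        rw [map_mul] at h1
        rw [← one_mul (χ x), ← htt, mul_assoc, h1, mul_one]
    have hsqout : ∀ x y : (S : Subgroup G), (x : G) ∉ T → (y : G) ∉ T → χ x * χ x = χ y⁻¹ * χ y⁻¹ := by
      intro x y hx hy
      have h1 : (x * y : (S : Subgroup G)).1 ∈ T := by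
        have := mem_iff_not_mul hidx2 x.2 y.2 hy
        exact not_not.mp ((not_congr this).mp hx)
      have h2 : χ (x * y) * χ (x * y) = 1 := by
        rcases hTQ _ h1 with e | e <;> rw [e]
        · exact one_mul 1
        · exact htt
      rw [map_mul, mul_mul_mul_comm] at h2
      rw [map_inv, eq_inv_of_mul_eq_one_left h2, mul_inv]
    rcases em (∀ x : (S : Subgroup G), χ x * χ x = 1) with hfour | hcyc
    swap
    · push Not at hcyc
      obtain ⟨σ, hσ⟩ := hcyc
      have hσT : (σ : G) ∉ T := fun hσT => by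
        rcases hTQ σ hσT with e | e <;> rw [e] at hσ
        · exact hσ (one_mul 1)
        · exact hσ htt
      have h1 := transfer_const hG S χ I.sq (χ ⟨t, hTS I.tT⟩) htt fun y hy => by
        have hyT : (y : G) ∈ T := by
          by_contra hyT
          have h2 := hsqout σ y hσT hyT
          rw [← map_mul χ y⁻¹] at h2
          refine hσ (h2.trans ((hχ _).mpr ?_))
          show (y : G)⁻¹ * (y : G)⁻¹ ∈ D
          rw [← mul_inv_rev, P.conj_invol hy, inv_one]
          exact one_mem D
        exact (hTQ y hyT).resolve_left fun e => hDK _ ((hχ y).mp e) hy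
      exact P.tD ((hχ _).mp h1)
    -- the involution in a product
    have hprod : ∀ a i : G, IsConj t a → i * i = 1 → a * i = i * a → (IsConj t i ↔ ¬ IsConj t (a * i)) := by
      intro a i ha hi hc
      obtain ⟨g, rfl⟩ := isConj_iff.mp ha
      set i' := g⁻¹ * i * g with hi'
      have hc' : i' * t = t * i' := by
        rw [hi']
        calc g⁻¹ * i * g * t = g⁻¹ * (i * (g * t * g⁻¹)) * g := by group
          _ = t * (g⁻¹ * i * g) := by rw [← hc]; group
      have hp : IsPGroup 2 (Subgroup.zpowers i') := by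
        intro x
        refine ⟨1, ?_⟩
        obtain ⟨n, hn⟩ := Subgroup.mem_zpowers_iff.mp x.2
        refine Subtype.ext ?_
        show (x : G) ^ 2 ^ 1 = 1
        rw [← hn, pow_one, ← zpow_natCast, ← zpow_mul, mul_comm, zpow_mul, zpow_natCast, pow_two,
          show i' * i' = 1 by rw [hi']; calc g⁻¹ * i * g * (g⁻¹ * i * g) = g⁻¹ * (i * i) * g := by group
                                             _ = 1 := by rw [hi]; group, one_zpow]
      obtain ⟨c, hc1, hcT⟩ := I.exists_conj hp (Subgroup.zpowers_le.mpr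
        (Subgroup.mem_centralizer_singleton_iff.mpr hc'))
      set x := c * i' * c⁻¹ with hxdef
      have hx : x ∈ T := hcT i' (Subgroup.mem_zpowers i')
      have hx2 : x * x = 1 := by
        rw [hxdef, hi', show c * (g⁻¹ * i * g) * c⁻¹ * (c * (g⁻¹ * i * g) * c⁻¹) = c * (g⁻¹ * (i * i) * g) * c⁻¹ by
          group, hi]
        group
      have e1 : IsConj i x := isConj_iff.mpr ⟨c * g⁻¹, by rw [hxdef, hi']; group⟩
      have e2 : IsConj (g * t * g⁻¹ * i) (t * x) := isConj_iff.mpr ⟨c * g⁻¹, by
        calc c * g⁻¹ * (g * t * g⁻¹ * i) * (c * g⁻¹)⁻¹ = c * t * i' * c⁻¹ := by rw [hi']; group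
          _ = t * x := by rw [hxdef, Subgroup.mem_centralizer_singleton_iff.mp hc1]; group⟩
      have k1 : IsConj t i ↔ x ∉ D := ⟨fun h => ((hK x hx).mp (h.trans e1)).1,
        fun h => ((hK x hx).mpr ⟨h, hx2⟩).trans e1.symm⟩
      have htx : t * x ∈ T := mul_mem I.tT hx
      have k2 : IsConj t (g * t * g⁻¹ * i) ↔ x ∈ D := by
        rw [← not_not (a := x ∈ D), ← P.mul_mem_iff hx]
        exact ⟨fun h => ((hK _ htx).mp (h.trans e2)).1,
          fun h => ((hK _ htx).mpr ⟨h, by rw [P.sq_mul hx, hx2]⟩).trans e2.symm⟩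
      rw [k1, k2]
    -- a conjugate with a centraliser of index two in each outside coset
    have hpick : ∀ σ : (S : Subgroup G), (σ : G) ∉ T → ∃ s : (S : Subgroup G), IsConj t (s : G) ∧ χ s = χ σ ∧
        (Subgroup.centralizer ({(s : G)} : Set G)).relIndex (S : Subgroup G) = 2 := by
      intro σ hσ
      by_contra hcon
      push Not at hcon
      let M := ((Subgroup.zpowers (χ σ)).comap χ).map (S : Subgroup G).subtype
      have hord : orderOf (χ σ) = 2 :=
        orderOf_eq_prime (by rw [pow_two]; exact hfour σ) fun e => hσ (P.DT ((hχ σ).mp e))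
      have hMrel : ((Subgroup.zpowers (χ σ)).comap χ).index = 2 := by
        rw [Subgroup.index_comap_of_surjective _ (QuotientGroup.mk'_surjective _)]
        refine Nat.eq_of_mul_eq_mul_left (Nat.card_pos (α := Subgroup.zpowers (χ σ))) ?_
        rw [Subgroup.card_mul_index, hQcard, Nat.card_zpowers, hord]
        norm_num
      have hMcard : 2 * Nat.card M = Nat.card (S : Subgroup G) := by
        rw [Subgroup.card_map_of_injective (S : Subgroup G).subtype_injective, ← Subgroup.card_mul_index
          ((Subgroup.zpowers (χ σ)).comap χ), hMrel, mul_comm]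
      obtain ⟨o', ho', hidx⟩ := index_two_part S (Subgroup.map_subtype_le _) hMcard
      obtain ⟨j, hj, hjc⟩ := parity_two hG M hidx ho' I.sq
      have hMT : Nat.card M = Nat.card T := by rw [hidx2] at hcardS; omega
      let E := {y : (S : Subgroup G) // IsConj t (y : G) ∧ χ y = χ σ}
      have hkM : kcount t M = Nat.card E := by
        refine (Nat.card_congr (α := E) (β := {y : G // y ∈ M ∧ IsConj t y})
          { toFun := fun y => ⟨y.1.1, ⟨y.1, ?_, rfl⟩, y.2.1⟩
            invFun := fun y => ⟨⟨y.1, Subgroup.map_subtype_le _ y.2.1⟩, y.2.2, ?_⟩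
            left_inv := fun _ => rfl
            right_inv := fun _ => rfl }).symm
        · show χ y.1 ∈ Subgroup.zpowers (χ σ)
          rw [y.2.2]
          exact Subgroup.mem_zpowers _
        · obtain ⟨w, hw, hwy⟩ := y.2.1
          have hw' : χ w ∈ Subgroup.zpowers (χ σ) := hw
          obtain rfl : w = ⟨y.1, Subgroup.map_subtype_le _ y.2.1⟩ := Subtype.ext hwy
          obtain ⟨i, hi⟩ := (mem_powers_iff_mem_zpowers (x := χ σ)).mpr hw'
          simp only at hi
          rw [← pow_mod_orderOf, hord] at hi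
          rcases Nat.mod_two_eq_zero_or_one i with e | e <;> rw [e] at hi
          · exact absurd y.2.2 (hDK _ ((hχ _).mp (by simpa using hi.symm)))
          · simpa using hi.symm
      letI : MulAction (S : Subgroup G) E :=
        { smul := fun g y => ⟨g * y.1 * g⁻¹, y.2.1.trans (isConj_iff.mpr ⟨(g : G), rfl⟩),
            by rw [map_mul, map_mul, map_inv, mul_comm (χ g), mul_assoc, mul_inv_cancel, mul_one]; exact y.2.2⟩
          one_smul := fun y => Subtype.ext (by show (1 : (S : Subgroup G)) * y.1 * 1⁻¹ = _; group)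
          mul_smul := fun a b y => Subtype.ext (by
            show a * b * y.1 * (a * b)⁻¹ = a * (b * y.1 * b⁻¹) * a⁻¹; group) }
      have h4 : 4 ∣ Nat.card E := by
        haveI := Fintype.ofFinite (MulAction.orbitRel.Quotient (S : Subgroup G) E)
        rw [Nat.card_congr (MulAction.selfEquivSigmaOrbitsQuotientStabilizer (S : Subgroup G) E), Nat.card_sigma]
        refine Finset.dvd_sum fun w _ => ?_
        set y := w.out
        have hst : MulAction.stabilizer (S : Subgroup G) y =
            (Subgroup.centralizer ({(y.1 : G)} : Set G)).subgroupOf (S : Subgroup G) := by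
          ext g
          rw [MulAction.mem_stabilizer_iff, Subgroup.mem_subgroupOf, Subgroup.mem_centralizer_singleton_iff]
          constructor
          · intro h
            exact mul_inv_eq_iff_eq_mul.mp (congrArg (fun e : E => (e.1 : G)) h)
          · intro h
            exact Subtype.ext (Subtype.ext (mul_inv_eq_iff_eq_mul.mpr h))
        rw [hst]
        show 4 ∣ (Subgroup.centralizer ({(y.1 : G)} : Set G)).relIndex (S : Subgroup G)
        obtain ⟨k, -, hk⟩ := (Nat.dvd_prime_pow Nat.prime_two).mp ((S.2.exists_card_eq).choose_spec ▸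
          Subgroup.relIndex_dvd_card (Subgroup.centralizer ({(y.1 : G)} : Set G)) (S : Subgroup G))
        match k, hk with
        | 0, hk =>
          have h1 := I.conj_card_le S.2 y.2.1 fun x hx =>
            Subgroup.mem_centralizer_singleton_iff.mp (Subgroup.relIndex_eq_one.mp (by simpa using hk) hx)
          exact absurd (Subgroup.eq_of_le_of_card_ge hTS h1) hTS'
        | 1, hk => exact absurd (by simpa using hk) (hcon y.1 y.2.1 y.2.2)
        | k + 2, hk => exact hk ▸ ⟨2 ^ k, by ring⟩
      rw [hkM, hC, hMT] at hjc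
      obtain ⟨r, hr⟩ := h4
      obtain ⟨l, hl⟩ := hj
      have h5 : Nat.card E * o = 2 * j := Nat.eq_of_mul_eq_mul_right (Nat.card_pos (α := T))
        (by rw [← hjc]; ring)
      rw [hr, hl, mul_assoc] at h5
      omega
    obtain ⟨σ, hσ⟩ : ∃ σ : (S : Subgroup G), (σ : G) ∉ T := ⟨⟨g₀, hg₀S⟩, hg₀T⟩
    obtain ⟨s, hs, hsσ, hsi⟩ := hpick σ hσ
    have hσt : ((σ * ⟨t, hTS I.tT⟩ : (S : Subgroup G)) : G) ∉ T := fun h =>
      hσ ((Subgroup.mul_mem_cancel_right T I.tT).mp h)
    obtain ⟨s', hs', hs'σ, hsi'⟩ := hpick _ hσt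
    have hout : ∀ w : (S : Subgroup G), (∃ w₀ : (S : Subgroup G), (w₀ : G) ∉ T ∧ χ w = χ w₀) → (w : G) ∉ T := by
      rintro w ⟨w₀, hw₀, e⟩ hw
      have h1 : χ (w⁻¹ * w₀) = 1 := by rw [map_mul, map_inv, e, inv_mul_cancel]
      exact hw₀ ((Subgroup.mul_mem_cancel_left T (inv_mem hw)).mp (P.DT ((hχ _).mp h1)))
    have hsT : (s : G) ∉ T := hout s ⟨σ, hσ, hsσ⟩
    have hs'T : (s' : G) ∉ T := hout s' ⟨_, hσt, hs'σ⟩
    have htC : ∀ w : (S : Subgroup G), (w : G) ∉ T → t ∉ Subgroup.centralizer ({(w : G)} : Set G) := fun w hw h =>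
      hw (I.mem_of_comm S.2 hTS w.2 (Subgroup.mem_centralizer_singleton_iff.mp h).symm)
    obtain ⟨d, hddef⟩ : ∃ d : G, d = t * (s : G) * (s' : G) := ⟨_, rfl⟩
    have hd : d ∈ D := by
      have h1 : χ (⟨t, hTS I.tT⟩ * s * s') = 1 := by
        rw [map_mul, map_mul, hsσ, hs'σ, map_mul]
        calc χ ⟨t, hTS I.tT⟩ * χ σ * (χ σ * χ ⟨t, hTS I.tT⟩)
            = (χ σ * χ σ) * (χ ⟨t, hTS I.tT⟩ * χ ⟨t, hTS I.tT⟩) := by
              rw [mul_comm (χ ⟨t, hTS I.tT⟩) (χ σ), mul_mul_mul_comm]
          _ = 1 := by rw [hfour σ, htt, mul_one]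
      rw [hddef]
      exact (hχ _).mp h1
    have hss : (s : G) * s = 1 := P.conj_invol hs
    have he : (s' : G) = s * t * d := by
      rw [hddef, show (s : G) * t * (t * s * s') = s * (t * t) * s * s' by group, I.sq, mul_one, hss, one_mul]
    have hdT := P.DT hd
    have hex : ∀ (w : (S : Subgroup G)), (w : G) ∉ T →
        (Subgroup.centralizer ({(w : G)} : Set G)).relIndex (S : Subgroup G) = 2 → ∀ x ∈ T,
        (w : G) * x = x * w ↔ ¬ ((w : G) * (x * t) = x * t * w) := by
      intro w hw hwi x hx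
      have := mem_iff_not_mul hwi (hTS hx) (hTS I.tT) (htC w hw)
      rw [Subgroup.mem_centralizer_singleton_iff, Subgroup.mem_centralizer_singleton_iff] at this
      exact ⟨fun h h' => this.mp h.symm h'.symm, fun h => (this.mpr fun h' => h h'.symm).symm⟩
    have hsd : (s : G) * d = d * s := by
      refine (hex s hsT hsi d hdT).mpr fun h => ?_
      rw [I.comm hdT] at h
      have htd : t * d ∈ T := mul_mem I.tT hdT
      have hsq : t * d * (t * d) = 1 := by
        calc t * d * (t * d) = (s : G) * s * (t * d) * (t * d) := by rw [hss, one_mul]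
          _ = s * ((s : G) * (t * d)) * (t * d) := by group
          _ = (s * t * d) * (s * t * d) := by rw [h]; group
          _ = 1 := by rw [← he]; exact P.conj_invol hs'
      have h1 := (hprod s (t * d) hs hsq h).mp ((hK _ htd).mpr
        ⟨fun h' => P.tD ((Subgroup.mul_mem_cancel_right D hd).mp h'), hsq⟩)
      exact h1 (by rw [← mul_assoc, ← he]; exact hs')
    have hdz : d * d = z := by
      have h1 : (s : G) * t * s = t * z := by
        have := hmove s s.2 (hTn s s.2) hsT
        rwa [inv_eq_of_mul_eq_one_right hss] at this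
      have h2 : z * (d * d) = 1 := by
        calc z * (d * d) = (t * t) * z * (d * d) := by rw [I.sq, one_mul]
          _ = t * (t * z) * d * d := by group
          _ = t * (s * t * s) * d * d := by rw [h1]
          _ = t * s * t * (s * d) * d := by group
          _ = t * (s * t * d) * (s * t * d) * t := by
              rw [hsd, show t * ((s : G) * t * d) * (s * t * d) * t = t * s * t * (d * s) * t * (d * t) by group,
                I.comm hdT, show t * (s : G) * t * (d * s) * t * (t * d) = t * s * t * (d * s) * (t * t) * d by group,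
                I.sq, mul_one]
          _ = 1 := by rw [← he, mul_assoc t (s' : G), P.conj_invol hs', mul_one, I.sq]
      calc d * d = z * (z * (d * d)) := by rw [← mul_assoc, P.zz, one_mul]
        _ = z := by rw [h2, mul_one]
    obtain ⟨r, hr, hr1, hrd⟩ := P.refl d hd hdz
    have hdinv : d⁻¹ ≠ d := fun e => P.z1 (by rw [← hdz]; nth_rw 1 [← e]; rw [inv_mul_cancel])
    have hrt : r * t = t * r := I.comm (P.DT hr)
    have hnb : ∀ x ∈ T, ∀ y, (s : G) * x = x * s → (s' : G) * x = x * s' → x * t = t * x → x = y → y * d = d * y := by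
      rintro x hx _ h1 h2 h3 rfl
      rw [he] at h2
      refine mul_left_cancel (a := (s : G) * t) ?_
      calc (s : G) * t * (x * d) = s * (t * x) * d := by group
        _ = (s : G) * x * t * d := by rw [← h3]; group
        _ = x * (s * t * d) := by rw [h1]; group
        _ = s * t * d * x := h2.symm
        _ = s * t * (d * x) := by group
    have hcr : r * d = d * r → False := fun e =>
      hdinv (hrd.symm.trans (by rw [e, mul_inv_cancel_right]))
    rcases em ((s : G) * r = r * s) with h1 | h1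
    · rcases em ((s' : G) * r = r * s') with h2 | h2
      · exact hcr (hnb r (P.DT hr) r h1 h2 hrt rfl)
      · exact P.false_of_pair hd hdz hr hr1 hrd he hs hs' hsd h1
          (not_not.mp ((not_congr (hex s' hs'T hsi' r (P.DT hr))).mp h2)) hK hprod
    · have h1' : (s : G) * (r * t) = r * t * s :=
        not_not.mp ((not_congr (hex s hsT hsi r (P.DT hr))).mp h1)
      rcases em ((s' : G) * r = r * s') with h2 | h2
      · have hdi : d⁻¹ * d⁻¹ = z := by
          rw [← mul_inv_rev, hdz]
          exact inv_eq_of_mul_eq_one_right P.zz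
        refine P.false_of_pair (inv_mem hd) hdi hr hr1 ?_ ?_ hs' hs ?_ h2 h1' hK hprod
        · rw [show r * d⁻¹ * r⁻¹ = (r * d * r⁻¹)⁻¹ by group, hrd]
        · calc (s : G) = s * t * d * (d⁻¹ * t⁻¹) := by group
            _ = s' * (t * d)⁻¹ := by rw [he, mul_inv_rev]
            _ = s' * t * d⁻¹ := by
                rw [← I.comm hdT, mul_inv_rev, inv_eq_of_mul_eq_one_right I.sq, mul_assoc]
        · have h3 : d * (s' : G) = s' * d := by
            rw [he]
            calc d * ((s : G) * t * d) = (d * s) * t * d := by group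
              _ = s * (d * t) * d := by rw [← hsd]; group
              _ = s * t * d * d := by rw [I.comm hdT]; group
          exact (Commute.inv_left (show Commute d (s' : G) from h3)).symm.eq
      · have h2' := not_not.mp ((not_congr (hex s' hs'T hsi' r (P.DT hr))).mp h2)
        have h4 := hnb (r * t) (mul_mem (P.DT hr) I.tT) _ h1' h2' (by rw [← mul_assoc, ← hrt]) rfl
        refine hcr ?_
        refine mul_right_cancel (b := t) ?_
        calc r * d * t = r * (d * t) := by group
          _ = r * t * d := by rw [I.comm hdT]; group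
          _ = d * (r * t) := h4
          _ = d * r * t := by group

end Dih

end CfsgLib.JT
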