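import Cfsg.Agent.Lib.JTType.Affine

/-!
A subgroup of order eight of the automorphisms of an elementary abelian group of order eight is generated by two
involutions with product of order four.
-/

set_option autoImplicit false
set_option linter.unusedSectionVars false
set_option linter.style.haveILetI false

namespace CfsgLib.JT

/-- A group of order eight has centralisers of order at least four. -/
theorem cent_four {Q : Type*} [Group Q] [Finite Q] (h8 : Nat.card Q = 8) (x : Q) :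
    4 ≤ Nat.card (Subgroup.centralizer ({x} : Set Q)) := by
  classical
  haveI : Fact (Nat.Prime 2) := ⟨Nat.prime_two⟩
  haveI : Nontrivial Q := Finite.one_lt_card_iff_nontrivial.mp (by omega)
  have hp : IsPGroup 2 Q := IsPGroup.of_card (n := 3) (by rw [h8]; norm_num)
  set C := Subgroup.centralizer ({x} : Set Q)
  have hz : Subgroup.center Q ≤ C := fun z hz =>
    Subgroup.mem_centralizer_singleton_iff.mpr (Subgroup.mem_center_iff.mp hz x).symm
  have hxC : x ∈ C := Subgroup.mem_centralizer_singleton_iff.mpr rfl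
  haveI := hp.center_nontrivial
  have h2 : 2 ≤ Nat.card (Subgroup.center Q) := Finite.one_lt_card_iff_nontrivial.mpr inferInstance
  rcases em (x ∈ Subgroup.center Q) with h | h
  · have : C = ⊤ := (Subgroup.eq_top_iff' C).mpr fun y =>
      Subgroup.mem_centralizer_singleton_iff.mpr (Subgroup.mem_center_iff.mp h y)
    rw [this, Subgroup.card_top, h8]
    norm_num
  · obtain ⟨r, hr⟩ := Subgroup.card_dvd_of_le hz
    rcases r with _ | _ | r
    · rw [mul_zero] at hr; exact absurd hr Nat.card_pos.ne'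
    · exact absurd ((Subgroup.eq_of_le_of_card_ge hz (by rw [hr]; simp)).symm ▸ hxC) h
    · rw [hr]
      calc 4 ≤ 2 * (r + 2) := by omega
        _ ≤ _ := Nat.mul_le_mul_right _ h2

/-- Two involutory generators. -/
theorem exists_pair {U : Type*} [CommGroup U] [Finite U] (hsq : ∀ u : U, u * u = 1) (hU : Nat.card U = 8)
    (Q : Subgroup (MulAut U)) (hQ : Nat.card Q = 8) :
    ∃ a ∈ Q, ∃ b ∈ Q, a * a = 1 ∧ b * b = 1 ∧ (a * b) * (a * b) ≠ 1 ∧ (a * b) * (a * b) * ((a * b) * (a * b)) = 1 ∧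
      Subgroup.closure {a, b} = Q := by
  classical
  haveI : Fact (Nat.Prime 2) := ⟨Nat.prime_two⟩
  haveI := Fintype.ofFinite U
  have hp : IsPGroup 2 Q := IsPGroup.of_card (n := 3) (by rw [hQ]; norm_num)
  have hmul : ∀ (f g : MulAut U) (u : U), (f * g) u = f (g u) := fun _ _ _ => rfl
  -- a fixed point
  obtain ⟨e₁, he₁, he₁Q⟩ : ∃ e : U, e ≠ 1 ∧ ∀ q ∈ Q, q e = e := by
    letI : MulAction Q {u : U // u ≠ 1} := ptAction Q.subtype
    have h1 := hp.card_modEq_card_fixedPoints {u : U // u ≠ 1}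
    have h7 : Nat.card {u : U // u ≠ 1} = 7 := by
      rw [Nat.card_eq_fintype_card, Fintype.card_subtype_compl, Fintype.card_subtype_eq, ← Nat.card_eq_fintype_card,
        hU]
    rw [h7] at h1
    obtain ⟨e⟩ : Nonempty (MulAction.fixedPoints Q {u : U // u ≠ 1}) := by
      refine (Nat.card_ne_zero.mp fun h => ?_).1
      rw [h] at h1
      exact absurd h1 (by decide)
    exact ⟨e.1.1, e.1.2, fun q hq => congrArg Subtype.val (e.2 ⟨q, hq⟩)⟩
  -- a second vector fixed modulo the first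
  set N := Subgroup.zpowers e₁ with hN
  have hNmem : ∀ x ∈ N, x = 1 ∨ x = e₁ := by
    intro x hx
    obtain ⟨i, rfl⟩ := (mem_powers_iff_mem_zpowers (x := e₁)).mpr hx
    rcases Nat.even_or_odd' i with ⟨j, rfl | rfl⟩
    · exact .inl (by simp [pow_mul, pow_two, hsq])
    · exact .inr (by simp [pow_succ, pow_mul, pow_two, hsq])
  have hNfix : ∀ q ∈ Q, ∀ x ∈ N, q x = x := fun q hq x hx => by
    rcases hNmem x hx with rfl | rfl
    · exact map_one q
    · exact he₁Q q hq
  have hNcard : Nat.card N = 2 := by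
    rw [hN, Nat.card_zpowers]
    exact orderOf_eq_prime (by rw [pow_two, hsq]) he₁
  have hq4 : Nat.card (U ⧸ N) = 4 := by
    have := Subgroup.card_mul_index N
    rw [hNcard, hU, Subgroup.index_eq_card] at this
    omega
  obtain ⟨e₂, he₂, he₂Q⟩ : ∃ e : U, e ∉ N ∧ ∀ q ∈ Q, q e = e ∨ q e = e * e₁ := by
    let f : Q → U ⧸ N → U ⧸ N := fun q => Quotient.map' (fun u => (q : MulAut U) u) fun a b hab => by
      rw [QuotientGroup.leftRel_apply] at hab ⊢
      rw [← map_inv, ← map_mul, hNfix q q.2 _ hab]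
      exact hab
    letI : MulAction Q {x : U ⧸ N // x ≠ ((1 : U) : U ⧸ N)} :=
      { smul := fun q x => ⟨f q x.1, fun e => x.2 (by
          obtain ⟨u, hu⟩ := QuotientGroup.mk_surjective x.1
          rw [← hu] at e ⊢
          have h1 : (q : MulAut U) u ∈ N := (QuotientGroup.eq_one_iff _).mp e
          have h2 := hNfix _ (inv_mem q.2) _ h1
          rw [MulAut.inv_apply, MulEquiv.symm_apply_apply] at h2
          exact (QuotientGroup.eq_one_iff _).mpr (h2 ▸ h1))⟩
        one_smul := fun x => Subtype.ext (by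
          obtain ⟨u, hu⟩ := QuotientGroup.mk_surjective x.1
          show f 1 x.1 = x.1
          rw [← hu]; rfl)
        mul_smul := fun a b x => Subtype.ext (by
          obtain ⟨u, hu⟩ := QuotientGroup.mk_surjective x.1
          show f (a * b) x.1 = f a (f b x.1)
          rw [← hu]; rfl) }
    haveI := Fintype.ofFinite (U ⧸ N)
    have h1 := hp.card_modEq_card_fixedPoints {x : U ⧸ N // x ≠ ((1 : U) : U ⧸ N)}
    have h3 : Nat.card {x : U ⧸ N // x ≠ ((1 : U) : U ⧸ N)} = 3 := by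
      rw [Nat.card_eq_fintype_card, Fintype.card_subtype_compl, Fintype.card_subtype_eq, ← Nat.card_eq_fintype_card,
        hq4]
    rw [h3] at h1
    obtain ⟨x⟩ : Nonempty (MulAction.fixedPoints Q {x : U ⧸ N // x ≠ ((1 : U) : U ⧸ N)}) := by
      refine (Nat.card_ne_zero.mp fun h => ?_).1
      rw [h] at h1
      exact absurd h1 (by decide)
    obtain ⟨u, hu⟩ := QuotientGroup.mk_surjective x.1.1
    refine ⟨u, fun h => x.1.2 (hu ▸ (QuotientGroup.eq_one_iff u).mpr h), fun q hq => ?_⟩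
    have h2 : f ⟨q, hq⟩ x.1.1 = x.1.1 := congrArg Subtype.val (x.2 ⟨q, hq⟩)
    rw [← hu] at h2
    rcases hNmem _ (QuotientGroup.eq.mp h2) with e | e
    · exact .inl (inv_mul_eq_one.mp e)
    · refine .inr ?_
      calc q u = u * (q u)⁻¹⁻¹ * u⁻¹ := by rw [inv_inv, mul_comm u, mul_inv_cancel_right]
        _ = u * ((q u)⁻¹ * u)⁻¹ := by rw [mul_inv_rev, mul_assoc, mul_comm (q u)⁻¹⁻¹]
        _ = u * e₁ := by rw [e, inv_eq_of_mul_eq_one_right (hsq e₁)]
  -- the plane
  let V : Subgroup U :=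
    { carrier := {1, e₁, e₂, e₁ * e₂}
      one_mem' := Or.inl rfl
      mul_mem' := by
        have hkey : ∀ x y : U, x * (x * y) = y := fun x y => by rw [← mul_assoc, hsq, one_mul]
        intro a b ha hb
        simp only [Set.mem_insert_iff, Set.mem_singleton_iff] at ha hb ⊢
        rcases ha with ha | ha | ha | ha <;> rcases hb with hb | hb | hb | hb <;> rw [ha, hb] <;>
          simp [hsq, hkey, mul_comm, mul_left_comm]
      inv_mem' := by
        intro a ha
        rwa [inv_eq_of_mul_eq_one_right (hsq a)] }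
  have hVmem : ∀ x, x ∈ V ↔ (x = 1 ∨ x = e₁ ∨ x = e₂ ∨ x = e₁ * e₂) := fun x => Iff.rfl
  have hV4 : Nat.card V ≤ 4 := by
    have h1 : (V : Set U).ncard ≤ 4 := by
      refine (Set.ncard_insert_le _ _).trans ?_
      have h2 := Set.ncard_insert_le e₁ ({e₂, e₁ * e₂} : Set U)
      have h3 := Set.ncard_insert_le e₂ ({e₁ * e₂} : Set U)
      rw [Set.ncard_singleton] at h3
      omega
    rwa [← Nat.card_coe_set_eq, SetLike.coe_sort_coe] at h1
  obtain ⟨e₃, he₃⟩ : ∃ e : U, e ∉ V := by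
    by_contra hcon
    push Not at hcon
    rw [(Subgroup.eq_top_iff' V).mpr hcon, Subgroup.card_top, hU] at hV4
    omega
  have hVfix : ∀ q ∈ Q, ∀ x ∈ V, q x ∈ V := by
    intro q hq x hx
    rcases (hVmem x).mp hx with rfl | rfl | rfl | rfl
    · rw [map_one]; exact one_mem V
    · rw [he₁Q q hq]; exact hx
    · rcases he₂Q q hq with e | e <;> rw [e]
      · exact hx
      · exact mul_mem hx (Or.inr (Or.inl rfl))
    · rw [map_mul, he₁Q q hq]
      refine mul_mem (Or.inr (Or.inl rfl)) ?_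
      rcases he₂Q q hq with e | e <;> rw [e]
      · exact Or.inr (Or.inr (Or.inl rfl))
      · exact mul_mem (Or.inr (Or.inr (Or.inl rfl))) (Or.inr (Or.inl rfl))
  have he12 : e₁ * e₂ ≠ 1 := fun e => he₂ (by
    rw [eq_inv_of_mul_eq_one_right e]
    exact inv_mem (Subgroup.mem_zpowers e₁))
  have he2 : e₂ ≠ 1 := fun e => he₂ (e ▸ one_mem N)
  have he21 : e₂ ≠ e₁ := fun e => he₂ (e ▸ Subgroup.mem_zpowers e₁)
  have hV4' : Nat.card V = 4 := by
    refine le_antisymm hV4 ?_
    rw [← SetLike.coe_sort_coe, Nat.card_coe_set_eq]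
    show 4 ≤ ({1, e₁, e₂, e₁ * e₂} : Set U).ncard
    rw [Set.ncard_insert_of_notMem, Set.ncard_insert_of_notMem, Set.ncard_pair]
    · intro e; exact he₁ (mul_eq_right.mp e.symm)
    · rintro (e | e)
      · exact he21 e.symm
      · exact he2 (mul_eq_left.mp e.symm)
    · rintro (e | e | e)
      · exact he₁ e.symm
      · exact he2 e.symm
      · exact he12 e.symm
  have hVidx : V.index = 2 := by
    have h1 := Subgroup.card_mul_index V
    rw [hV4', hU] at h1
    omega
  have hside : ∀ x y : U, x * y ∈ V ↔ (x ∈ V ↔ y ∈ V) := fun x y => Subgroup.mul_mem_iff_of_index_two hVidx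
  have he3Q : ∀ q ∈ Q, e₃ * q e₃ ∈ V := fun q hq => (hside _ _).mpr (iff_of_false he₃ fun h => by
    have h1 := hVfix _ (inv_mem hq) _ h
    rw [MulAut.inv_apply, MulEquiv.symm_apply_apply] at h1
    exact he₃ h1)
  have hdet : ∀ f g : Q, (f : MulAut U) e₂ = (g : MulAut U) e₂ → (f : MulAut U) e₃ = (g : MulAut U) e₃ → f = g := by
    intro f g h2 h3
    have hV' : ∀ x ∈ V, (f : MulAut U) x = (g : MulAut U) x := by
      intro x hx
      rcases (hVmem x).mp hx with rfl | rfl | rfl | rfl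
      · rw [map_one, map_one]
      · rw [he₁Q f f.2, he₁Q g g.2]
      · exact h2
      · rw [map_mul, map_mul, h2, he₁Q f f.2, he₁Q g g.2]
    refine Subtype.ext (MulEquiv.ext fun x => ?_)
    rcases em (x ∈ V) with hx | hx
    · exact hV' x hx
    · have e : x = e₃ * (e₃ * x) := by rw [← mul_assoc, hsq, one_mul]
      rw [e, map_mul (f : MulAut U) e₃, map_mul (g : MulAut U) e₃, h3, hV' _ ((hside _ _).mpr (iff_of_false he₃ hx))]
  let F : Q → ({e₂, e₂ * e₁} : Set U) × V := fun q =>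
    (⟨(q : MulAut U) e₂, (he₂Q q q.2).imp id id⟩, ⟨e₃ * (q : MulAut U) e₃, he3Q q q.2⟩)
  have hFinj : Function.Injective F := fun f g e => hdet f g (congrArg (fun z => z.1.1) e)
    (mul_left_cancel (congrArg (fun z => (z.2 : U)) e))
  have hFsurj : Function.Surjective F := by
    refine (hFinj.bijective_of_nat_card_le ?_).2
    rw [Nat.card_prod, hQ, hV4', Nat.card_coe_set_eq, Set.ncard_pair fun e => he₁ (mul_eq_left.mp e.symm)]
  obtain ⟨⟨a, ha⟩, haF⟩ := hFsurj (⟨e₂ * e₁, Or.inr rfl⟩, ⟨1, one_mem V⟩)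
  obtain ⟨⟨b, hb⟩, hbF⟩ := hFsurj (⟨e₂, Or.inl rfl⟩, ⟨e₂, Or.inr (Or.inr (Or.inl rfl))⟩)
  have haux : ∀ {x : U}, e₃ * x = 1 → x = e₃ := fun h =>
    (eq_inv_of_mul_eq_one_right h).trans (inv_eq_of_mul_eq_one_right (hsq e₃))
  have ha2 : a e₂ = e₂ * e₁ := congrArg (fun z : ({e₂, e₂ * e₁} : Set U) × V => z.1.1) haF
  have ha3 : a e₃ = e₃ := haux (congrArg (fun z : ({e₂, e₂ * e₁} : Set U) × V => (z.2 : U)) haF)
  have hb2 : b e₂ = e₂ := congrArg (fun z : ({e₂, e₂ * e₁} : Set U) × V => z.1.1) hbF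
  have hb3 : b e₃ = e₃ * e₂ := by
    have h1 : e₃ * b e₃ = e₂ := congrArg (fun z : ({e₂, e₂ * e₁} : Set U) × V => (z.2 : U)) hbF
    calc b e₃ = e₃ * (e₃ * b e₃) := by rw [← mul_assoc, hsq, one_mul]
      _ = e₃ * e₂ := by rw [h1]
  have ha1 : a e₁ = e₁ := he₁Q a ha
  have hb1 : b e₁ = e₁ := he₁Q b hb
  have hid : ∀ f, f ∈ Q → f e₂ = e₂ → f e₃ = e₃ → f = 1 := fun f hf h2 h3 =>
    congrArg Subtype.val (hdet ⟨f, hf⟩ 1 h2 h3)
  have haa : a * a = 1 := hid _ (mul_mem ha ha) (by rw [hmul, ha2, map_mul, ha2, ha1, mul_assoc, hsq, mul_one])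
    (by rw [hmul, ha3, ha3])
  have hbb : b * b = 1 := hid _ (mul_mem hb hb) (by rw [hmul, hb2, hb2])
    (by rw [hmul, hb3, map_mul, hb3, hb2, mul_assoc, hsq, mul_one])
  set r := a * b with hr
  have hrQ : r ∈ Q := mul_mem ha hb
  have hr2 : r e₂ = e₂ * e₁ := by rw [hr, hmul, hb2, ha2]
  have hr3 : r e₃ = e₃ * (e₂ * e₁) := by rw [hr, hmul, hb3, map_mul, ha3, ha2]
  have hr1 : r e₁ = e₁ := he₁Q r hrQ
  have hrr2 : (r * r) e₂ = e₂ := by rw [hmul, hr2, map_mul, hr2, hr1, mul_assoc, hsq, mul_one]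
  have hrr3 : (r * r) e₃ = e₃ * e₁ := by
    rw [hmul, hr3, map_mul, hr3, map_mul, hr2, hr1]
    calc e₃ * (e₂ * e₁) * (e₂ * e₁ * e₁) = e₃ * (e₂ * e₂) * (e₁ * e₁) * e₁ := by
          simp [mul_comm, mul_left_comm]
      _ = e₃ * e₁ := by rw [hsq, hsq, mul_one, mul_one]
  have hrr : r * r ≠ 1 := fun e => by
    rw [e, MulAut.one_apply] at hrr3
    exact he₁ (mul_eq_left.mp hrr3.symm)
  have hr4 : r * r * (r * r) = 1 := hid _ (mul_mem (mul_mem hrQ hrQ) (mul_mem hrQ hrQ))
    (by rw [hmul, hrr2, hrr2])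
    (by rw [hmul, hrr3, map_mul, hrr3, hmul r r, hr1, hr1, mul_assoc, hsq, mul_one])
  refine ⟨a, ha, b, hb, haa, hbb, hrr, hr4, ?_⟩
  have hle : Subgroup.closure {a, b} ≤ Q := (Subgroup.closure_le Q).mpr (by
    rintro x (rfl | rfl)
    · exact ha
    · exact hb)
  refine Subgroup.eq_of_le_of_card_ge hle ?_
  rw [hQ]
  have hrC : r ∈ Subgroup.closure {a, b} :=
    mul_mem (Subgroup.subset_closure (Or.inl rfl)) (Subgroup.subset_closure (Or.inr rfl))
  have hr4' : r ^ 2 ^ (1 + 1) = 1 := by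
    rw [show (2 : ℕ) ^ (1 + 1) = 2 * 2 by rfl, pow_mul, pow_two, pow_two]
    exact hr4
  have hord : orderOf r = 2 ^ 2 := orderOf_eq_prime_pow (by rwa [pow_one, pow_two]) hr4'
  have hzle : Subgroup.zpowers r ≤ Subgroup.closure {a, b} := Subgroup.zpowers_le.mpr hrC
  obtain ⟨m, hm⟩ := Subgroup.card_dvd_of_le hzle
  rw [Nat.card_zpowers, hord] at hm
  rcases m with _ | _ | m
  · rw [mul_zero] at hm; exact absurd hm Nat.card_pos.ne'
  · exfalso
    have e := Subgroup.eq_of_le_of_card_ge hzle (by rw [hm, Nat.card_zpowers, hord]; norm_num)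
    obtain ⟨i, hi⟩ : a ∈ Subgroup.zpowers r := e.symm ▸ Subgroup.subset_closure (Or.inl rfl)
    have hc : Commute a r := by
      rw [← hi]
      exact Commute.zpow_self r i
    refine hrr ?_
    calc r * r = r * (a * b) := rfl
      _ = (r * a) * b := (mul_assoc _ _ _).symm
      _ = a * (a * b) * b := by rw [← hc.eq]
      _ = 1 := by rw [← mul_assoc, haa, one_mul, hbb]
  · rw [hm]; omega

end CfsgLib.JT
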