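import Cfsg.Agent.Lib.JTType.StepCommon
import Cfsg.Agent.Lib.JTType.GLThree

/-!
The step when no element centralising `U` translates: an affine action on eight points, which is impossible.
-/

set_option autoImplicit false
set_option linter.unusedSectionVars false
set_option linter.style.haveILetI false

namespace CfsgLib.JT

universe u

variable {G : Type u} [Group G] [Finite G]

/-- Conjugation as automorphisms of a normalised subgroup. -/
def conjOn (U : Subgroup G) (N : Subgroup G) (h : ∀ g ∈ N, ∀ u ∈ U, g * u * g⁻¹ ∈ U) : N →* MulAut U :=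
  MonoidHom.mk'
    (fun g =>
      { toFun := fun u => ⟨g * u * (g : G)⁻¹, h g g.2 u u.2⟩
        invFun := fun u => ⟨(g : G)⁻¹ * u * (g : G)⁻¹⁻¹, h _ (inv_mem g.2) u u.2⟩
        left_inv := fun u => Subtype.ext (by
          show (g : G)⁻¹ * ((g : G) * u * (g : G)⁻¹) * (g : G)⁻¹⁻¹ = u
          group)
        right_inv := fun u => Subtype.ext (by
          show (g : G) * ((g : G)⁻¹ * u * (g : G)⁻¹⁻¹) * (g : G)⁻¹ = u
          group)
        map_mul' := fun u v => Subtype.ext (by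
          show (g : G) * ((u : G) * v) * (g : G)⁻¹ = g * u * (g : G)⁻¹ * (g * v * (g : G)⁻¹)
          group) })
    fun a b => MulEquiv.ext fun u => Subtype.ext (by
      show (a : G) * b * u * ((a : G) * b)⁻¹ = a * (b * u * (b : G)⁻¹) * (a : G)⁻¹
      group)

theorem conjOn_apply (U : Subgroup G) (N : Subgroup G) (h : ∀ g ∈ N, ∀ u ∈ U, g * u * g⁻¹ ∈ U) (g : N) (u : U) :
    ((conjOn U N h g u : U) : G) = g * u * (g : G)⁻¹ := rfl

theorem conjOn_eq_one {U : Subgroup G} {N : Subgroup G} (h : ∀ g ∈ N, ∀ u ∈ U, g * u * g⁻¹ ∈ U) (g : N) :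
    conjOn U N h g = 1 ↔ ∀ u ∈ U, (g : G) * u = u * g := by
  constructor
  · intro e u hu
    have h1 : ((conjOn U N h g ⟨u, hu⟩ : U) : G) = u := by rw [e]; rfl
    exact mul_inv_eq_iff_eq_mul.mp h1
  · intro e
    exact MulEquiv.ext fun u => Subtype.ext (mul_inv_eq_iff_eq_mul.mpr (e u u.2))

variable {t : G} {T U : Subgroup G} {c₀ : G} {R P : Subgroup G} {k : ℕ}

theorem step_eight [IsSimpleGroup G] (hG : ¬ IsMulCommutative G) (L : Level t T U c₀ R P k) (E : Elem t T U c₀)
    (hns : ∀ S : Sylow 2 G, R ≠ (S : Subgroup G))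
    (hA : ∀ g ∈ Subgroup.normalizer (R : Set G), (∀ u ∈ U, g * u = u * g) → Level.tr t k g = 1) : False := by
  classical
  haveI : Fact (Nat.Prime 2) := ⟨Nat.prime_two⟩
  set N := Subgroup.normalizer (R : Set G) with hN
  letI : CommGroup U :=
    { (inferInstance : Group U) with mul_comm := fun a b => Subtype.ext (E.comm (E.UT a.2) (E.UT b.2)) }
  let ℓ : N →* MulAut U := conjOn U N fun g hg u hu => L.conj_U E hg hu
  have hℓ : ∀ (g : N) (u : U), ((ℓ g u : U) : G) = g * u * (g : G)⁻¹ := fun _ _ => rfl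
  let π : N → U := fun g => ⟨Level.tr t k (g : G), L.tr_mem E g.2⟩
  have hπmul : ∀ g g' : N, π (g * g') = π g * ℓ g (π g') := fun g g' => Subtype.ext (L.tr_mul E g.2 g'.2)
  have hπker : ∀ g g' : N, ℓ g = ℓ g' → π g = π g' := by
    intro g g' e
    have h1 : ℓ (g⁻¹ * g') = 1 := by rw [map_mul, map_inv, e, inv_mul_cancel]
    have h2 : π (g⁻¹ * g') = 1 := Subtype.ext (hA _ (g⁻¹ * g').2 ((conjOn_eq_one _ _).mp h1))
    have h3 := hπmul g (g⁻¹ * g')
    rw [mul_inv_cancel_left, h2, map_one, mul_one] at h3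
    exact h3.symm
  have hπone : π 1 = 1 := Subtype.ext (L.tr_cent E (one_mem _))
  choose pre hpre using fun w : ℓ.range => w.2
  letI : MulAction ℓ.range U :=
    { smul := fun w x => π (pre w) * (w : MulAut U) x
      one_smul := fun x => by
        show π (pre 1) * ((1 : ℓ.range) : MulAut U) x = x
        rw [hπker (pre 1) 1 (by rw [hpre, map_one]; rfl), hπone, one_mul]
        rfl
      mul_smul := fun v w x => by
        show π (pre (v * w)) * ((v * w : ℓ.range) : MulAut U) x =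
          π (pre v) * (v : MulAut U) (π (pre w) * (w : MulAut U) x)
        rw [hπker (pre (v * w)) (pre v * pre w) (by rw [map_mul, hpre, hpre, hpre]; rfl), hπmul, hpre, map_mul,
          Subgroup.coe_mul, mul_assoc]
        rfl }
  have hsmul : ∀ (g : N) (x : U), (⟨ℓ g, g, rfl⟩ : ℓ.range) • x = π g * ℓ g x := fun g x => by
    show π (pre ⟨ℓ g, g, rfl⟩) * ℓ g x = _
    rw [hπker (pre ⟨ℓ g, g, rfl⟩) g (hpre _)]
  have hsmul1 : ∀ (g : N), (⟨ℓ g, g, rfl⟩ : ℓ.range) • (1 : U) = π g := fun g => by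
    rw [hsmul, map_one, mul_one]
  -- the centraliser inside
  set C := Subgroup.centralizer ({t} : Set G) with hC
  have hTN : T ≤ N := L.TR.trans Subgroup.le_normalizer
  have hℓR : ∀ g : N, (g : G) ∈ R → ℓ g = 1 := fun g hg =>
    (conjOn_eq_one _ _).mpr fun u hu => L.R_cent E hg hu
  let Cn : Subgroup N := C.subgroupOf N
  have hstab : ∀ w : ℓ.range, w • (1 : U) = 1 → ∃ c ∈ Cn, ℓ c = (w : MulAut U) := by
    intro w hw
    obtain ⟨g, hg⟩ := w.2
    obtain rfl : w = ⟨ℓ g, g, rfl⟩ := Subtype.ext hg.symm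
    rw [hsmul1] at hw
    obtain ⟨y, hy, hyc⟩ := L.tr_eq_one E g.2 (congrArg Subtype.val hw)
    refine ⟨⟨y, Subgroup.le_normalizer hy⟩ * g, hyc, ?_⟩
    rw [map_mul, hℓR ⟨y, Subgroup.le_normalizer hy⟩ hy, one_mul]
  have hodd : Odd (Nat.card (MulAction.stabilizer ℓ.range (1 : U))) := by
    let φ : Cn →* MulAut U := ℓ.comp Cn.subtype
    have h1 : Nat.card (MulAction.stabilizer ℓ.range (1 : U)) ≤ Nat.card φ.range := by
      refine Nat.card_le_card_of_injective (fun w => ⟨((w : ℓ.range) : MulAut U), ?_⟩) fun a b e =>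
        Subtype.ext (Subtype.ext (congrArg (fun x : φ.range => (x : MulAut U)) e))
      obtain ⟨c, hc, e⟩ := hstab w.1 w.2
      exact ⟨⟨c, hc⟩, e⟩
    have h2 : Nat.card φ.range ≤ Nat.card (MulAction.stabilizer ℓ.range (1 : U)) := by
      refine Nat.card_le_card_of_injective (fun x => ⟨⟨(x : MulAut U), ?_⟩, ?_⟩) fun a b e =>
        Subtype.ext (congrArg (fun w : MulAction.stabilizer ℓ.range (1 : U) => ((w : ℓ.range) : MulAut U)) e)
      · obtain ⟨c, hc⟩ := x.2
        exact ⟨c, hc⟩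
      · obtain ⟨c, hc⟩ := x.2
        rw [MulAction.mem_stabilizer_iff,
          show (⟨(x : MulAut U), ⟨(c : N), hc⟩⟩ : ℓ.range) = ⟨ℓ c, c, rfl⟩ from Subtype.ext hc.symm, hsmul1]
        exact Subtype.ext (L.tr_cent E c.2)
    rw [le_antisymm h1 h2, ← Subgroup.index_ker]
    have h3 : (T.subgroupOf N).subgroupOf Cn ≤ φ.ker := fun x hx =>
      MonoidHom.mem_ker.mpr (hℓR _ (L.TR hx))
    refine Odd.of_dvd_nat ?_ (Subgroup.index_dvd_of_le h3)
    show Odd ((T.subgroupOf N).relIndex (C.subgroupOf N))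
    have hle : T ≤ C ⊓ N := le_inf E.inv.TC hTN
    rw [← Subgroup.inf_subgroupOf_right C N, Subgroup.relIndex_subgroupOf inf_le_right]
    exact E.inv.sylow.of_dvd_nat ⟨(C ⊓ N).relIndex C, (Subgroup.relIndex_mul_relIndex _ _ _ hle inf_le_left).symm⟩
  obtain ⟨ca, hca, hcaN, hcaA⟩ := L.act
  -- all translations occur
  have honto : ∀ u : U, ∃ g : N, π g = u := by
    obtain ⟨S, hS⟩ := L.p.exists_le_sylow
    obtain ⟨g, hgS, hgR, hgN⟩ := exists_norm S.2 hS (hns S)
    intro u
    obtain ⟨g', hg', e⟩ := L.tr_surj E N le_rfl (fun c _ hc g hg => mul_mem (mul_mem hc hg) (inv_mem hc)) hgN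
      (fun h => hgR (L.mem_R E S.2 hS hgS hgN h)) u.2
    exact ⟨⟨g', hg'⟩, Subtype.ext e⟩
  have hpow : ∀ (i : ℕ) (u : U), ((ℓ (⟨ca, hcaN⟩ ^ i) u : U) : G) = c₀ ^ i * u * (c₀ ^ i)⁻¹ := fun i u => by
    rw [hℓ, SubmonoidClass.coe_pow]
    exact Level.act_pow E hcaA i u u.2
  let A : Affine U ℓ.range :=
    { ℓ := ℓ.range.subtype
      inj := ℓ.range.subtype_injective
      aff := fun w x y => by
        show π (pre w) * (w : MulAut U) (x * y) = π (pre w) * (w : MulAut U) x * (w : MulAut U) y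
        rw [map_mul, mul_assoc]
      trans := fun x => by
        obtain ⟨g, hg⟩ := honto x
        exact ⟨⟨ℓ g, g, rfl⟩, by rw [hsmul1, hg]⟩
      odd := hodd
      h := ⟨ℓ ⟨ca, hcaN⟩, _, rfl⟩
      h1 := by rw [hsmul1]; exact Subtype.ext (L.tr_cent E hca)
      singer := fun u v hu hv => by
        obtain ⟨i, hi⟩ := E.singer u u.2 v v.2 (fun e => hu (Subtype.ext e)) (fun e => hv (Subtype.ext e))
        refine ⟨i, Subtype.ext ?_⟩
        rw [map_pow]
        show (((ℓ ⟨ca, hcaN⟩) ^ i) u : G) = v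
        rw [← map_pow, hpow, hi]
      norm := fun x hx => by
        obtain ⟨c, hc, hcx⟩ := hstab x hx
        obtain ⟨i, hi⟩ := E.norm (c : G) hc (L.act_conj E hc c.2)
        refine Subgroup.mem_zpowers_iff.mpr ⟨(i : ℤ), ?_⟩
        rw [zpow_natCast]
        refine Subtype.ext (MulEquiv.ext fun u => Subtype.ext ?_)
        rw [SubmonoidClass.coe_pow, Subgroup.coe_mul, Subgroup.coe_mul, Subgroup.coe_inv]
        show (((ℓ ⟨ca, hcaN⟩) ^ i) u : G) = _
        rw [← map_pow, hpow, ← hi u u.2, ← hcx, ← map_inv, ← map_mul, ← map_mul, hℓ]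
        have h2 : (c : G)⁻¹ * u * c ∈ U := by
          have := L.conj_U E (inv_mem c.2) u.2
          rwa [inv_inv] at this
        show (c : G) * c₀ * (c : G)⁻¹ * u * ((c : G) * c₀ * (c : G)⁻¹)⁻¹ =
          (c : G) * ca * (c : G)⁻¹ * u * ((c : G) * ca * (c : G)⁻¹)⁻¹
        calc (c : G) * c₀ * (c : G)⁻¹ * u * ((c : G) * c₀ * (c : G)⁻¹)⁻¹
            = c * (c₀ * ((c : G)⁻¹ * u * c) * c₀⁻¹) * (c : G)⁻¹ := by group
          _ = c * (ca * ((c : G)⁻¹ * u * c) * ca⁻¹) * (c : G)⁻¹ := by rw [hcaA _ h2]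
          _ = _ := by group
      sq := fun x => Subtype.ext (E.exp _ (E.UT x.2))
      four := E.four }
  have h8 : Nat.card U = 8 := A.eight
  -- the Sylow subgroup of the normaliser
  obtain ⟨Q, hQ⟩ := (L.p.comap_of_injective N.subtype N.subtype_injective).exists_le_sylow
  set R' := (Q : Subgroup N).map N.subtype with hR'
  have hR'N : R' ≤ N := Subgroup.map_subtype_le _
  have hRR : R ≤ R' := fun r hr => ⟨⟨r, Subgroup.le_normalizer hr⟩,
    hQ (show (⟨r, Subgroup.le_normalizer hr⟩ : N).1 ∈ R from hr), rfl⟩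
  have hp' : IsPGroup 2 R' := Q.2.map _
  let ψ : R' →* ℓ.range := ℓ.rangeRestrict.comp (Subgroup.inclusion hR'N)
  have hψ : ∀ v : R', ψ v • (1 : U) = π (Subgroup.inclusion hR'N v) := fun v =>
    hsmul1 (Subgroup.inclusion hR'N v)
  have hker : ∀ v : R', ψ v = 1 ↔ (v : G) ∈ R := fun v => by
    refine ⟨fun h => L.mem_R E hp' hRR v.2 (hR'N v.2) ?_, fun h => Subtype.ext (hℓR _ h)⟩
    have h1 := hψ v
    rw [h, one_smul] at h1
    exact (congrArg Subtype.val h1).symm
  have hW8 : Nat.card ℓ.range = 8 * Nat.card (MulAction.stabilizer ℓ.range (1 : U)) := by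
    rw [← Subgroup.card_mul_index (MulAction.stabilizer ℓ.range (1 : U)), MulAction.index_stabilizer,
      Set.eq_univ_of_forall (s := MulAction.orbit ℓ.range (1 : U)) (fun v => A.trans v), Set.ncard_univ, h8,
      mul_comm]
  set Qw := (Q : Subgroup N).map ℓ.rangeRestrict with hQw
  have hψrange : ψ.range = Qw := by
    ext w
    constructor
    · rintro ⟨⟨x, q, hq, e⟩, rfl⟩
      exact ⟨q, hq, congrArg ℓ.rangeRestrict (Subtype.ext e)⟩
    · rintro ⟨q, hq, rfl⟩
      exact ⟨⟨q, q, hq, rfl⟩, congrArg ℓ.rangeRestrict (Subtype.ext rfl)⟩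
  have hQw8 : Nat.card Qw = 8 := by
    obtain ⟨a, ha⟩ := (Q.2.map ℓ.rangeRestrict).exists_card_eq
    have hidx : Odd Qw.index := by
      rw [← Nat.not_even_iff_odd, even_iff_two_dvd]
      exact fun h => Q.not_dvd_index (h.trans ((Q : Subgroup N).index_map_dvd ℓ.rangeRestrict_surjective))
    have h1 := Subgroup.card_mul_index Qw
    rw [hW8, ha] at h1
    rw [ha]
    exact Nat.dvd_antisymm
      ((Nat.Coprime.pow_left a (Nat.coprime_two_left.mpr hodd)).dvd_of_dvd_mul_right ⟨_, h1.symm⟩)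
      ((Nat.Coprime.pow_left 3 (Nat.coprime_two_left.mpr hidx)).dvd_of_dvd_mul_right ⟨_, h1⟩)
  have hψinj : ∀ v w : R', ψ v • (1 : U) = ψ w • (1 : U) → ψ v = ψ w := by
    intro v w h
    have h1 : (ψ w)⁻¹ * ψ v ∈ MulAction.stabilizer ℓ.range (1 : U) := by
      rw [MulAction.mem_stabilizer_iff, mul_smul, h, inv_smul_smul]
    have h2 : (ψ w)⁻¹ * ψ v ∈ Qw := hψrange ▸ mul_mem (inv_mem ⟨w, rfl⟩) ⟨v, rfl⟩
    refine (inv_mul_eq_one.mp (orderOf_eq_one_iff.mp (Nat.eq_one_of_dvd_coprimes (a := 8)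
      (b := Nat.card (MulAction.stabilizer ℓ.range (1 : U))) ?_ ?_ ?_))).symm
    · exact Nat.Coprime.pow_left 3 (Nat.coprime_two_left.mpr hodd)
    · rw [← hQw8, ← Subgroup.orderOf_mk _ h2]
      exact orderOf_dvd_natCard _
    · rw [← Subgroup.orderOf_mk _ h1]
      exact orderOf_dvd_natCard _
  have hcard : Nat.card R' = Nat.card U * Nat.card R := by
    rw [← Subgroup.card_mul_index ψ.ker, Subgroup.index_ker, hψrange, hQw8, h8, mul_comm]
    congr 1
    rw [show ψ.ker = R.subgroupOf R' from Subgroup.ext fun v =>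
      MonoidHom.mem_ker.trans ((hker v).trans Subgroup.mem_subgroupOf.symm)]
    exact Nat.card_congr (Subgroup.subgroupOfEquivOfLe hRR).toEquiv
  have hbij : Function.Bijective fun w : ψ.range => (w : ℓ.range) • (1 : U) := by
    refine Function.Injective.bijective_of_nat_card_le ?_ (by rw [h8, hψrange, hQw8])
    rintro ⟨_, v, rfl⟩ ⟨_, w, rfl⟩ e
    exact Subtype.ext (hψinj v w e)
  have hontoR : ∀ u ∈ U, ∃ r ∈ R', Level.tr t k r = u := by
    intro u hu
    obtain ⟨⟨_, v, rfl⟩, e⟩ := hbij.2 ⟨u, hu⟩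
    exact ⟨v, v.2, congrArg Subtype.val ((hψ v).symm.trans e)⟩
  have V : Cover t U R P k R' := ⟨hp', hRR, hR'N, hontoR, hcard⟩
  obtain ⟨S', hS'⟩ := hp'.exists_le_sylow
  have hcardR : Nat.card R = 2 * Nat.card P := by
    rw [← Subgroup.relIndex_bot_left R, ← Subgroup.relIndex_mul_relIndex ⊥ P R bot_le L.PR, L.idx,
      Subgroup.relIndex_bot_left, mul_comm]
  have hT16 : Nat.card T = 16 := by rw [E.cardT, h8]
  have hKsq : ∀ {x : G}, IsConj t x → x * x = 1 := fun {x} h => by
    obtain ⟨g, rfl⟩ := isConj_iff.mp h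
    rw [conj_mul, E.inv.sq, mul_one, mul_inv_cancel]
  -- the conjugates in `R'` are in `R`
  have hout : ∀ x ∈ R', IsConj t x → x ∈ R := by
    intro s hs hsK
    by_contra hsR
    set s' : R' := ⟨s, hs⟩ with hs'
    set H := (Subgroup.centralizer ({ψ s'} : Set ℓ.range)).comap ψ with hH
    have hHcard : 4 * Nat.card R ≤ Nat.card H := by
      have h4 : 4 ≤ Nat.card (Subgroup.centralizer ({(⟨ψ s', s', rfl⟩ : ψ.range)} : Set ψ.range)) :=
        cent_four (by rw [hψrange, hQw8]) _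
      let φ := ψ.rangeRestrict
      have e : H = (Subgroup.centralizer ({(⟨ψ s', s', rfl⟩ : ψ.range)} : Set ψ.range)).comap φ := by
        ext v
        rw [hH, Subgroup.mem_comap, Subgroup.mem_comap, Subgroup.mem_centralizer_singleton_iff,
          Subgroup.mem_centralizer_singleton_iff]
        exact ⟨fun h => Subtype.ext h, fun h => congrArg Subtype.val h⟩
      have h1 := Subgroup.card_mul_index H
      rw [e, Subgroup.index_comap_of_surjective _ ψ.rangeRestrict_surjective, ← e] at h1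
      have h2 := Subgroup.card_mul_index (Subgroup.centralizer ({(⟨ψ s', s', rfl⟩ : ψ.range)} : Set ψ.range))
      have hcardr : Nat.card ψ.range = 8 := by rw [hψrange, hQw8]
      rw [hcardr] at h2
      rw [hcard, h8] at h1
      refine Nat.le_of_mul_le_mul_right ?_
        (Nat.pos_of_ne_zero (fun h0 => by rw [h0, mul_zero] at h2; omega) : 0 <
          (Subgroup.centralizer ({(⟨ψ s', s', rfl⟩ : ψ.range)} : Set ψ.range)).index)
      rw [h1, mul_right_comm]
      exact Nat.mul_le_mul_right _ ((Nat.mul_le_mul_right _ h4).trans_eq h2)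
    set I : Set G := {p | p ∈ P ∧ IsConj t (s * p)} with hI
    -- the inverted elements
    have hInv : 2 * I.ncard ≤ Nat.card P := by
      let J : Subgroup G :=
        { carrier := {p | p ∈ P ∧ s * p * s = p⁻¹}
          one_mem' := ⟨one_mem P, by rw [mul_one, hKsq hsK, inv_one]⟩
          mul_mem' := by
            rintro a b ⟨ha, ha'⟩ ⟨hb, hb'⟩
            refine ⟨mul_mem ha hb, ?_⟩
            calc s * (a * b) * s = s * a * (s * s) * b * s := by rw [hKsq hsK]; group
              _ = (s * a * s) * (s * b * s) := by group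
              _ = (b * a)⁻¹ := by rw [ha', hb', mul_inv_rev]
              _ = (a * b)⁻¹ := by rw [L.comm E hb ha]
          inv_mem' := by
            rintro a ⟨ha, ha'⟩
            refine ⟨inv_mem ha, ?_⟩
            calc s * a⁻¹ * s = (s⁻¹ * a * s⁻¹)⁻¹ := by group
              _ = a⁻¹⁻¹ := by rw [inv_eq_of_mul_eq_one_right (hKsq hsK), ha'] }
      have hJP : J ≤ P := fun p hp => hp.1
      have hIJ : I ⊆ (J : Set G) := fun p hp =>
        ⟨hp.1, eq_inv_of_mul_eq_one_left (by rw [← hKsq hp.2]; group)⟩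
      obtain ⟨r, hr⟩ := Subgroup.card_dvd_of_le hJP
      have h1 := Set.ncard_le_ncard hIJ (Set.toFinite _)
      rw [← Nat.card_coe_set_eq (J : Set G), SetLike.coe_sort_coe] at h1
      rcases r with _ | _ | r
      · rw [mul_zero] at hr; exact absurd hr Nat.card_pos.ne'
      · exfalso
        have hJ : J = P := Subgroup.eq_of_le_of_card_ge hJP (by rw [hr]; simp)
        refine hsR (L.mem_R E hp' hRR hs (hR'N hs) (hA s (hR'N hs) fun u hu => ?_))
        have h2 : s * u * s = u⁻¹ := (show u ∈ J from hJ.symm ▸ L.UP hu).2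
        rw [inv_eq_of_mul_eq_one_right (E.exp u (E.UT hu))] at h2
        calc s * u = s * u * (s * s) := by rw [hKsq hsK, mul_one]
          _ = (s * u * s) * s := by group
          _ = u * s := by rw [h2]
      · rw [hr, Nat.mul_comm (Nat.card J)]
        exact Nat.mul_le_mul (by omega) h1
    have hsub : ({z | ∃ g ∈ H.map R'.subtype, g * s * g⁻¹ = z} : Set G) ⊆ (fun p => s * p) '' I := by
      rintro z ⟨_, ⟨v, hv, rfl⟩, rfl⟩
      have hv' : ψ v * ψ s' = ψ s' * ψ v := Subgroup.mem_centralizer_singleton_iff.mp hv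
      refine ⟨s⁻¹ * ((v : G) * s * (v : G)⁻¹), ⟨?_, ?_⟩, mul_inv_cancel_left _ _⟩
      · refine V.one_coset L E hs hsR ((hker (s'⁻¹ * (v * s' * v⁻¹))).mp ?_) hsK ?_
        · rw [map_mul, map_mul, map_mul, map_inv, map_inv, hv', mul_inv_cancel_right, inv_mul_cancel]
        · rw [mul_inv_cancel_left]
          exact hsK.trans (isConj_iff.mpr ⟨(v : G), rfl⟩)
      · rw [mul_inv_cancel_left]
        exact hsK.trans (isConj_iff.mpr ⟨(v : G), rfl⟩)
    have h1 := V.class_large L E (Subgroup.map_subtype_le H) hsK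
    rw [Subgroup.card_map_of_injective R'.subtype_injective, hT16] at h1
    have h2 := Set.ncard_le_ncard hsub (Set.toFinite _)
    rw [Set.ncard_image_of_injective _ (mul_right_injective s)] at h2
    have hI2 : 2 * I.ncard = Nat.card P := by
      rw [hcardR] at hHcard
      omega
    -- parity
    let Y := ((Subgroup.zpowers (ψ s')).comap ψ).map R'.subtype
    have hYmem : ∀ y, y ∈ Y ↔ y ∈ R ∨ ∃ r ∈ R, s * r = y := by
      intro y
      constructor
      · rintro ⟨v, hv, rfl⟩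
        obtain ⟨i, hi⟩ := (mem_powers_iff_mem_zpowers (x := ψ s')).mpr hv
        have hss : ψ s' * ψ s' = 1 := by
          rw [← map_mul, hker]
          show s * s ∈ R
          rw [hKsq hsK]
          exact one_mem R
        rcases Nat.even_or_odd' i with ⟨j, rfl | rfl⟩
        · refine .inl ((hker v).mp ?_)
          rw [← hi]
          simp [pow_mul, pow_two, hss]
        · refine .inr ⟨s⁻¹ * v, (hker (s'⁻¹ * v)).mp ?_, mul_inv_cancel_left _ _⟩
          rw [map_mul, map_inv, ← hi]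
          simp [pow_succ, pow_mul, pow_two, hss]
      · rintro (hy | ⟨r, hr, rfl⟩)
        · refine ⟨⟨y, hRR hy⟩, ?_, rfl⟩
          show ψ ⟨y, hRR hy⟩ ∈ Subgroup.zpowers (ψ s')
          rw [(hker ⟨y, hRR hy⟩).mpr hy]
          exact one_mem _
        · refine ⟨s' * ⟨r, hRR hr⟩, ?_, rfl⟩
          show ψ (s' * ⟨r, hRR hr⟩) ∈ Subgroup.zpowers (ψ s')
          rw [map_mul, (hker ⟨r, hRR hr⟩).mpr hr, mul_one]
          exact Subgroup.mem_zpowers _
    have hYset : {y : G | y ∈ Y ∧ IsConj t y} = (fun p => t * p) '' (P : Set G) ∪ (fun p => s * p) '' I := by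
      ext y
      constructor
      · rintro ⟨hy, hyK⟩
        rcases (hYmem y).mp hy with h | ⟨r, hr, rfl⟩
        · exact .inl ⟨t * y, (L.t_mul_iff E h).mpr ((L.K y h).mp hyK),
            by show t * (t * y) = y; rw [← mul_assoc, E.inv.sq, one_mul]⟩
        · exact .inr ⟨r, ⟨V.one_coset L E hs hsR hr hsK hyK, hyK⟩, rfl⟩
      · rintro (⟨p, hp, rfl⟩ | ⟨p, ⟨hp, hpK⟩, rfl⟩)
        · have hm : t * p ∈ R := mul_mem (L.tR E) (L.PR hp)
          exact ⟨(hYmem _).mpr (.inl hm),
            (L.K _ hm).mpr fun h => L.tP E ((Subgroup.mul_mem_cancel_right P hp).mp h)⟩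
        · exact ⟨(hYmem _).mpr (.inr ⟨p, L.PR hp, rfl⟩), hpK⟩
    have hk : kcount t Y = Nat.card P + I.ncard := by
      rw [kcount, ← Set.coe_setOf, Nat.card_coe_set_eq, hYset, Set.ncard_union_eq ?_ (Set.toFinite _) (Set.toFinite _),
        Set.ncard_image_of_injective _ (mul_right_injective t), Set.ncard_image_of_injective _ (mul_right_injective s),
        ← Nat.card_coe_set_eq, SetLike.coe_sort_coe]
      refine Set.disjoint_left.mpr ?_
      rintro y ⟨p, hp, rfl⟩ ⟨p', ⟨hp', -⟩, e⟩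
      refine hsR ((Subgroup.mul_mem_cancel_right R (L.PR hp')).mp ?_)
      rw [show s * p' = t * p from e]
      exact mul_mem (L.tR E) (L.PR hp)
    have hYR' : Y ≤ R' := Subgroup.map_subtype_le _
    have hs2 : orderOf (ψ s') = 2 := orderOf_eq_prime (by
      rw [pow_two, ← map_mul, hker]
      show s * s ∈ R
      rw [hKsq hsK]
      exact one_mem R) fun e => hsR ((hker s').mp e)
    have hYcard : Nat.card Y = 2 * Nat.card R := by
      rw [Subgroup.card_map_of_injective R'.subtype_injective]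
      let χ : ((Subgroup.zpowers (ψ s')).comap ψ) →* Subgroup.zpowers (ψ s') :=
        (ψ.comp ((Subgroup.zpowers (ψ s')).comap ψ).subtype).codRestrict _ fun x => x.2
      have hsurj : Function.Surjective χ := by
        rintro ⟨w, hw⟩
        obtain ⟨i, rfl⟩ := Subgroup.mem_zpowers_iff.mp hw
        refine ⟨⟨s' ^ i, ?_⟩, Subtype.ext (map_zpow ψ s' i)⟩
        show ψ (s' ^ i) ∈ Subgroup.zpowers (ψ s')
        rw [map_zpow]
        exact hw
      rw [← Subgroup.card_mul_index χ.ker, Subgroup.index_ker, MonoidHom.range_eq_top.mpr hsurj, Subgroup.card_top,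
        Nat.card_zpowers, hs2, mul_comm]
      congr 1
      refine Nat.card_congr (α := χ.ker) (β := R)
        { toFun := fun v => ⟨((v.1.1 : R') : G), (hker v.1.1).mp (congrArg Subtype.val (MonoidHom.mem_ker.mp v.2))⟩
          invFun := fun r => ⟨⟨⟨r.1, hRR r.2⟩, ?_⟩, ?_⟩
          left_inv := fun _ => rfl
          right_inv := fun _ => rfl }
      · show ψ _ ∈ Subgroup.zpowers (ψ s')
        rw [(hker ⟨r.1, hRR r.2⟩).mpr r.2]
        exact one_mem _
      · exact MonoidHom.mem_ker.mpr (Subtype.ext ((hker ⟨r.1, hRR r.2⟩).mpr r.2))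
    obtain ⟨q, hq⟩ := Subgroup.card_dvd_of_le hS'
    obtain ⟨o', -, hidx⟩ := index_two_part S' (a := 4 * q) (hYR'.trans hS') (by
      rw [hq, hcard, h8, hYcard]; ring)
    obtain ⟨o, ho, hC'⟩ := E.inv.card_cent
    refine parity_false hG Y E.inv.sq (j := 3 * o) (hidx ▸ ⟨q * o', by ring⟩)
      ((show Odd 3 by decide).mul ho) ?_
    rw [hk, hC', hT16, hYcard, hcardR, ← hI2]
    ring
  -- the complement
  haveI hPn : (P.subgroupOf R').Normal :=
    ⟨fun n hn g => L.conj_P E (hR'N g.2) (Subgroup.mem_subgroupOf.mp hn)⟩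
  let χ : R' →* R' ⧸ P.subgroupOf R' := QuotientGroup.mk' _
  have hχ : ∀ v : R', χ v = 1 ↔ (v : G) ∈ P := fun v => (QuotientGroup.eq_one_iff v).trans Subgroup.mem_subgroupOf
  obtain ⟨a, ha, b, hb, haa, hbb, hrr, hr4, hgen⟩ :=
    exists_pair (U := U) (fun u => Subtype.ext (E.exp _ (E.UT u.2))) h8 (ψ.range.map ℓ.range.subtype)
      (by rw [Subgroup.card_map_of_injective ℓ.range.subtype_injective, hψrange, hQw8])
  let ψ' : R' →* MulAut U := ℓ.range.subtype.comp ψ
  have hψ' : ∀ v, ψ' v = 1 ↔ (v : G) ∈ R := fun v => by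
    rw [← hker]
    exact ⟨fun h => Subtype.ext h, fun h => congrArg Subtype.val h⟩
  obtain ⟨_, ⟨va, rfl⟩, hva⟩ := ha
  obtain ⟨_, ⟨vb, rfl⟩, hvb⟩ := hb
  have hψa : ψ' va = a := hva
  have hψb : ψ' vb = b := hvb
  have hlift : ∀ v : R', ψ' v * ψ' v = 1 → χ v * χ v = 1 := fun v h => by
    rw [← map_mul, hχ]
    exact V.sq_mem L E v.2 ((hψ' (v * v)).mp (by rw [map_mul]; exact h))
  have hA2 : χ va * χ va = 1 := hlift va (by rw [hψa]; exact haa)
  have hB2 : χ vb * χ vb = 1 := hlift vb (by rw [hψb]; exact hbb)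
  set r := χ va * χ vb with hr
  have hr4' : r ^ 4 = 1 := by
    have h1 := hlift (va * vb * (va * vb)) (by rw [map_mul, map_mul, hψa, hψb]; exact hr4)
    rw [map_mul, map_mul] at h1
    rw [show (4 : ℕ) = 2 * 2 by rfl, pow_mul, pow_two, pow_two]
    exact h1
  set K₀ := Subgroup.closure {χ va, χ vb} with hK₀
  have hform : ∀ x ∈ K₀, ∃ i : ℤ, x = r ^ i ∨ x = r ^ i * χ va := by
    have hai : (χ va)⁻¹ = χ va := inv_eq_of_mul_eq_one_right hA2
    have hbi : (χ vb)⁻¹ = χ vb := inv_eq_of_mul_eq_one_right hB2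
    have hflip : ∀ i : ℤ, χ va * r ^ i = r ^ (-i) * χ va := fun i => by
      have h1 : χ va * r * (χ va)⁻¹ = r⁻¹ := by
        rw [hr, mul_inv_rev, hai, hbi]
        calc χ va * (χ va * χ vb) * χ va = (χ va * χ va) * χ vb * χ va := by group
          _ = χ vb * χ va := by rw [hA2, one_mul]
      have h2 : χ va * r ^ i * (χ va)⁻¹ = r ^ (-i) := by rw [← conj_zpow, h1, inv_zpow, ← zpow_neg]
      rw [← h2, inv_mul_cancel_right]
    intro x hx
    induction hx using Subgroup.closure_induction with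
    | mem y hy =>
      rcases hy with rfl | rfl
      · exact ⟨0, .inr (by rw [zpow_zero, one_mul])⟩
      · refine ⟨-1, .inr ?_⟩
        rw [zpow_neg_one, hr, mul_inv_rev, hai, hbi, mul_assoc, hA2, mul_one]
    | one => exact ⟨0, .inl (zpow_zero r).symm⟩
    | mul y z _ _ hy hz =>
      obtain ⟨i, rfl | rfl⟩ := hy <;> obtain ⟨j, rfl | rfl⟩ := hz
      · exact ⟨i + j, .inl (zpow_add r i j).symm⟩
      · exact ⟨i + j, .inr (by rw [← mul_assoc, zpow_add])⟩
      · exact ⟨i - j, .inr (by rw [mul_assoc, hflip, ← mul_assoc, ← zpow_add, sub_eq_add_neg])⟩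
      · exact ⟨i - j, .inl (by
          rw [mul_assoc, ← mul_assoc (χ va), hflip, mul_assoc, hA2, mul_one, ← zpow_add, sub_eq_add_neg])⟩
    | inv y _ hy =>
      obtain ⟨i, rfl | rfl⟩ := hy
      · exact ⟨-i, .inl (zpow_neg r i).symm⟩
      · exact ⟨i, .inr (by rw [mul_inv_rev, hai, ← zpow_neg, hflip, neg_neg])⟩
  -- `t` is not in the complement
  set τ : R' := ⟨t, hRR (L.tR E)⟩ with hτ
  have htK : χ τ ∉ K₀ := by
    intro hmem
    let χ' : R' ⧸ P.subgroupOf R' →* MulAut U := QuotientGroup.lift _ ψ' fun v hv =>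
      MonoidHom.mem_ker.mpr ((hψ' v).mpr (L.PR (Subgroup.mem_subgroupOf.mp hv)))
    have hχ' : ∀ v, χ' (χ v) = ψ' v := fun v => rfl
    have hτ1 : χ' (χ τ) = 1 := by rw [hχ', hψ']; exact L.tR E
    have hra : χ' r = a * b := by rw [hr, map_mul, hχ', hχ', hψa, hψb]
    obtain ⟨i, hi | hi⟩ := hform _ hmem
    · rw [hi, map_zpow, hra, ← orderOf_dvd_iff_zpow_eq_one] at hτ1
      have hab : (a * b) ^ 2 ^ (1 + 1) = 1 := by
        rw [show (2 : ℕ) ^ (1 + 1) = 2 * 2 by rfl, pow_mul, pow_two, pow_two]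
        exact hr4
      have hord : orderOf (a * b) = 2 ^ 2 := orderOf_eq_prime_pow (by rwa [pow_one, pow_two]) hab
      obtain ⟨m, hm⟩ := hτ1
      refine L.tP E ((hχ τ).mp ?_)
      rw [hi, hm, hord, show ((2 ^ 2 : ℕ) : ℤ) = ((4 : ℕ) : ℤ) by norm_num, zpow_mul, zpow_natCast, hr4', one_zpow]
    · rw [hi, map_mul, map_zpow, hra, hχ', hψa] at hτ1
      refine hrr ?_
      have hac : Commute a (a * b) := by
        have hz := ((Commute.refl (a * b)).zpow_left i).inv_left
        rwa [← eq_inv_of_mul_eq_one_right hτ1] at hz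
      calc a * b * (a * b) = a * b * a * b := (mul_assoc _ _ _).symm
        _ = a * (a * b) * b := by rw [← hac.eq]
        _ = 1 := by rw [← mul_assoc, haa, one_mul, hbb]
  set M := (K₀.comap χ).map R'.subtype with hM
  have hidx : M.relIndex R' = 2 := by
    show (((K₀.comap χ).map R'.subtype).subgroupOf R').index = 2
    rw [Subgroup.subgroupOf, Subgroup.comap_map_eq_self_of_injective R'.subtype_injective, Subgroup.index_eq_two_iff]
    refine ⟨τ, fun v => ?_⟩
    have hor : χ v ∈ K₀ ∨ χ (v * τ) ∈ K₀ := by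
      have hsub : Subgroup.closure {a, b} ≤ K₀.map (QuotientGroup.lift _ ψ' fun w hw =>
          MonoidHom.mem_ker.mpr ((hψ' w).mpr (L.PR (Subgroup.mem_subgroupOf.mp hw)))) :=
        (Subgroup.closure_le _).mpr (by
          rintro x (rfl | rfl)
          · exact ⟨χ va, Subgroup.subset_closure (Or.inl rfl), hψa⟩
          · exact ⟨χ vb, Subgroup.subset_closure (Or.inr rfl), hψb⟩)
      have hv : ψ' v ∈ Subgroup.closure {a, b} := by
        rw [hgen]
        exact ⟨ψ v, ⟨v, rfl⟩, rfl⟩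
      obtain ⟨x, hx, hxv⟩ := hsub hv
      obtain ⟨w, rfl⟩ := QuotientGroup.mk'_surjective _ x
      have hwR : ((w⁻¹ * v : R') : G) ∈ R := (hψ' _).mp (by
        rw [map_mul, map_inv, inv_mul_eq_one]
        exact hxv)
      rcases em (((w⁻¹ * v : R') : G) ∈ P) with hP | hP
      · refine .inl ?_
        have h1 := (hχ _).mpr hP
        rw [map_mul, map_inv, inv_mul_eq_one] at h1
        exact h1 ▸ hx
      · refine .inr ?_
        have h1 : χ (w⁻¹ * v * τ) = 1 := (hχ _).mpr (by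
          have h2 := mem_iff_not_mul L.idx hwR (L.tR E) (L.tP E)
          exact not_not.mp ((not_congr h2).mp hP))
        rw [mul_assoc, map_mul, map_inv, inv_mul_eq_one] at h1
        exact h1 ▸ hx
    rw [Subgroup.mem_comap, Subgroup.mem_comap, xor_iff_iff_not]
    constructor
    · intro h h'
      refine htK ?_
      have := mul_mem (inv_mem h') h
      rwa [← map_inv, ← map_mul, inv_mul_cancel_left] at this
    · intro h
      exact hor.resolve_left h
  refine V.no_out L E hG (Subgroup.map_subtype_le _) hidx (fun p hp => ?_) (fun h => ?_) hout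
  · refine ⟨⟨p, L.PR.trans hRR hp⟩, ?_, rfl⟩
    show χ _ ∈ K₀
    rw [(hχ ⟨p, L.PR.trans hRR hp⟩).mpr hp]
    exact one_mem _
  · obtain ⟨v, hv, e⟩ := h
    obtain rfl : v = τ := Subtype.ext e
    exact htK hv

end CfsgLib.JT
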