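import Cfsg.Agent.Lib.JTType.StepTrans
import Cfsg.Agent.Lib.JTType.StepEight

/-!
The elementary case: the Sylow 2-subgroups have order eight and exponent two.
-/

set_option autoImplicit false
set_option linter.unusedSectionVars false
set_option linter.style.haveILetI false

namespace CfsgLib.JT

variable {G : Type*} [Group G] [Finite G] [IsSimpleGroup G]
variable {t : G} {T U : Subgroup G} {c₀ : G}

/-- There is no level. -/
theorem Level.false (hG : ¬ IsMulCommutative G) (E : Elem t T U c₀) {R P : Subgroup G} {k : ℕ}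
    (L : Level t T U c₀ R P k) : False := by
  suffices h : ∀ m : ℕ, ∀ (R P : Subgroup G) (k : ℕ), Level t T U c₀ R P k → Nat.card G - Nat.card R ≤ m → False from
    h _ R P k L le_rfl
  intro m
  induction m using Nat.strong_induction_on with
  | _ m ih =>
    intro R P k L hm
    by_cases hS : ∃ S : Sylow 2 G, R = (S : Subgroup G)
    · obtain ⟨S, hS⟩ := hS
      obtain ⟨o, ho, hi⟩ := index_two_part S (Y := P) (a := 2) (hS ▸ L.PR) (by
        rw [← hS, ← Subgroup.relIndex_bot_left R, ← Subgroup.relIndex_mul_relIndex ⊥ P R bot_le L.PR, L.idx,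
          Subgroup.relIndex_bot_left, mul_comm])
      exact thompson_false hG P hi ho E.inv.sq fun y hy hc => (L.K y (L.PR hy)).mp hc hy
    push Not at hS
    by_cases hA : ∀ g ∈ Subgroup.normalizer (R : Set G), (∀ u ∈ U, g * u = u * g) → Level.tr t k g = 1
    · exact step_eight hG L E hS hA
    push Not at hA
    obtain ⟨g, hg, hgU, hgt⟩ := hA
    obtain ⟨R₂, P₂, L₂, hlt⟩ := step_trans hG L E hg hgU hgt
    have := Subgroup.card_le_card_group R₂
    exact ih _ (by omega) R₂ P₂ (k + 1) L₂ le_rfl

/-- The elementary case. -/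
theorem Elem.concl (hG : ¬ IsMulCommutative G) (E : Elem t T U c₀) (S : Sylow 2 G) (hTS : T ≤ (S : Subgroup G)) :
    Nat.card (S : Subgroup G) = 8 ∧ ∀ x ∈ (S : Subgroup G), x * x = 1 := by
  rcases eq_or_ne T (S : Subgroup G) with h | h
  · exact ⟨h ▸ E.eight hG S h, fun x hx => E.exp x (h.symm ▸ hx)⟩
  · refine (Level.false hG E (R := T) (P := U) (k := 0) ⟨E.inv.p, E.UT, E.idx, le_rfl, le_rfl,
      fun x hx => E.conj_iff S hTS h hx, fun x hx => by simpa using hx, fun u hu => ⟨u, hu, by simp⟩,
      c₀, E.c₀C, E.c₀N, fun u _ => rfl⟩).elim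

end CfsgLib.JT
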