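import Cfsg.Agent.Lib.JTType.Setup

/-!
The elementary case: a Sylow 2-subgroup `⟨t⟩ × U` of the centraliser, `U` elementary abelian with a cyclic group
transitive on its involutions.

* `Elem`: the data;
* `Elem.conj_iff`: if `T` is not a Sylow 2-subgroup of `G` then `t` has exactly the conjugates `T ∖ U` in `T`;
* `Elem.eight_or_level`: otherwise `|T| = 8`.
-/

set_option autoImplicit false
set_option linter.unusedSectionVars false
set_option linter.style.haveILetI false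

namespace CfsgLib.JT

variable {G : Type*} [Group G] [Finite G]

/-- The data of the elementary case. -/
structure Elem (t : G) (T U : Subgroup G) (c₀ : G) : Prop where
  inv : Inv t T
  UT : U ≤ T
  idx : U.relIndex T = 2
  tU : t ∉ U
  exp : ∀ x ∈ T, x * x = 1
  four : 4 ≤ Nat.card U
  normU : ∀ c ∈ Subgroup.centralizer ({t} : Set G), c ∈ Subgroup.normalizer (T : Set G) → ∀ u ∈ U, c * u * c⁻¹ ∈ U
  c₀C : c₀ ∈ Subgroup.centralizer ({t} : Set G)
  c₀N : c₀ ∈ Subgroup.normalizer (T : Set G)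
  singer : ∀ u ∈ U, ∀ v ∈ U, u ≠ 1 → v ≠ 1 → ∃ i : ℕ, c₀ ^ i * u * (c₀ ^ i)⁻¹ = v
  norm : ∀ c ∈ Subgroup.centralizer ({t} : Set G), c ∈ Subgroup.normalizer (T : Set G) →
    ∃ i : ℕ, ∀ u ∈ U, c * c₀ * c⁻¹ * u * (c * c₀ * c⁻¹)⁻¹ = c₀ ^ i * u * (c₀ ^ i)⁻¹

/-- A generating set of logarithmic size. -/
theorem exists_gens (H : Subgroup G) : ∃ s : Finset G, Subgroup.closure (s : Set G) = H ∧ 2 ^ s.card ≤ Nat.card H := by
  classical
  suffices h : ∀ m : ℕ, ∀ s : Finset G, Subgroup.closure (s : Set G) ≤ H →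
      2 ^ s.card ≤ Nat.card (Subgroup.closure (s : Set G)) →
      Nat.card H - Nat.card (Subgroup.closure (s : Set G)) ≤ m →
      ∃ s : Finset G, Subgroup.closure (s : Set G) = H ∧ 2 ^ s.card ≤ Nat.card H from
    h _ ∅ (by simp) (by simp [Nat.card_pos, Nat.one_le_iff_ne_zero]) le_rfl
  intro m
  induction m with
  | zero =>
    intro s hs h2 hm
    have e := Subgroup.eq_of_le_of_card_ge hs (by omega)
    exact ⟨s, e, e ▸ h2⟩
  | succ m ih =>
    intro s hs h2 hm
    rcases eq_or_ne (Subgroup.closure (s : Set G)) H with e | e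
    · exact ⟨s, e, e ▸ h2⟩
    obtain ⟨x, hx, hx'⟩ := SetLike.exists_of_lt (lt_of_le_of_ne hs e)
    have hle : Subgroup.closure (s : Set G) ≤ Subgroup.closure ((insert x s : Finset G) : Set G) :=
      Subgroup.closure_mono (by simp)
    have hxs : x ∈ Subgroup.closure ((insert x s : Finset G) : Set G) := Subgroup.subset_closure (by simp)
    have h3 : 2 * Nat.card (Subgroup.closure (s : Set G)) ≤
        Nat.card (Subgroup.closure ((insert x s : Finset G) : Set G)) := by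
      obtain ⟨r, hr⟩ := Subgroup.card_dvd_of_le hle
      rcases r with _ | _ | r
      · rw [mul_zero] at hr; exact absurd hr Nat.card_pos.ne'
      · exact absurd ((Subgroup.eq_of_le_of_card_ge hle (by rw [hr]; simp)).symm ▸ hxs) hx'
      · rw [hr, mul_comm]; exact Nat.mul_le_mul_left _ (by omega)
    refine ih (insert x s) ?_ ?_ ?_
    · rw [Subgroup.closure_le, Finset.coe_insert, Set.insert_subset_iff]
      exact ⟨hx, fun y hy => hs (Subgroup.subset_closure hy)⟩
    · rw [Finset.card_insert_of_notMem (fun h => hx' (Subgroup.subset_closure h)), pow_succ]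
      omega
    · have : 0 < Nat.card (Subgroup.closure (s : Set G)) := Nat.card_pos
      omega

namespace Elem

variable {t : G} {T U : Subgroup G} {c₀ : G} (P : Elem t T U c₀)
include P

theorem comm {x y : G} (hx : x ∈ T) (hy : y ∈ T) : x * y = y * x := by
  have hxi : x⁻¹ = x := inv_eq_of_mul_eq_one_right (P.exp x hx)
  have hyi : y⁻¹ = y := inv_eq_of_mul_eq_one_right (P.exp y hy)
  calc x * y = (x * y)⁻¹ := (inv_eq_of_mul_eq_one_right (P.exp _ (mul_mem hx hy))).symm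
    _ = y * x := by rw [mul_inv_rev, hxi, hyi]

theorem cardT : Nat.card T = 2 * Nat.card U := by
  rw [← Subgroup.relIndex_bot_left T, ← Subgroup.relIndex_mul_relIndex ⊥ U T bot_le P.UT, P.idx,
    Subgroup.relIndex_bot_left, mul_comm]

theorem mul_mem_iff {x : G} (hx : x ∈ T) : t * x ∈ U ↔ x ∉ U := by
  have h := mem_iff_not_mul P.idx hx P.inv.tT P.tU
  rw [← P.inv.comm hx]
  tauto

/-- A power of two at least four. -/
theorem card_pow : ∃ n, 2 ≤ n ∧ Nat.card U = 2 ^ n := by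
  haveI : Fact (Nat.Prime 2) := ⟨Nat.prime_two⟩
  obtain ⟨n, hn⟩ := (P.inv.p.to_le P.UT).exists_card_eq
  refine ⟨n, ?_, hn⟩
  by_contra h
  have := Nat.pow_le_pow_right two_pos (show n ≤ 1 by omega)
  have := P.four
  omega

theorem c₀pow (i : ℕ) : c₀ ^ i ∈ Subgroup.centralizer ({t} : Set G) ∧ c₀ ^ i ∈ Subgroup.normalizer (T : Set G) :=
  ⟨pow_mem P.c₀C i, pow_mem P.c₀N i⟩

/-- Fusion of `t` inside `T` happens in the normaliser of `T`. -/
theorem fus {x : G} (hx : x ∈ T) (h : IsConj t x) : ∃ n ∈ Subgroup.normalizer (T : Set G), n * t * n⁻¹ = x := by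
  obtain ⟨g, rfl⟩ := isConj_iff.mp h
  obtain ⟨c, hc, hcT⟩ := P.inv.exists_conj (isPGroup_cj g⁻¹ P.inv.p) (by
    rintro _ ⟨y, hy, rfl⟩
    rw [Subgroup.mem_centralizer_singleton_iff]
    show g⁻¹ * y * g⁻¹⁻¹ * t = t * (g⁻¹ * y * g⁻¹⁻¹)
    calc g⁻¹ * y * g⁻¹⁻¹ * t = g⁻¹ * (y * (g * t * g⁻¹)) * g := by group
      _ = g⁻¹ * ((g * t * g⁻¹) * y) * g := by rw [P.comm hy hx]
      _ = t * (g⁻¹ * y * g⁻¹⁻¹) := by group)
  refine ⟨(c * g⁻¹)⁻¹, inv_mem (mem_norm fun y hy => ?_), ?_⟩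
  · have e : c * g⁻¹ * y * (c * g⁻¹)⁻¹ = c * (g⁻¹ * y * g⁻¹⁻¹) * c⁻¹ := by group
    rw [e]
    exact hcT _ (mem_cj hy)
  · calc (c * g⁻¹)⁻¹ * t * (c * g⁻¹)⁻¹⁻¹ = g * (c⁻¹ * (t * c)) * g⁻¹ := by group
      _ = g * t * g⁻¹ := by rw [← Subgroup.mem_centralizer_singleton_iff.mp hc]; group

/-- The centraliser part of the normaliser is transitive on the involutions of `U` and of `tU`. -/
theorem trans_side {a b : G} (ha : a ∈ T) (hb : b ∈ T) (ha1 : a ≠ 1) (hat : a ≠ t) (hb1 : b ≠ 1) (hbt : b ≠ t)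
    (h : a ∈ U ↔ b ∈ U) : ∃ i : ℕ, c₀ ^ i * a * (c₀ ^ i)⁻¹ = b := by
  rcases em (a ∈ U) with haU | haU
  · exact P.singer a haU b (h.mp haU) ha1 hb1
  · have hne : ∀ x, x ≠ t → t * x ≠ 1 := fun x hx e =>
      hx ((eq_inv_of_mul_eq_one_right e).trans (inv_eq_of_mul_eq_one_right P.inv.sq))
    obtain ⟨i, hi⟩ := P.singer _ ((P.mul_mem_iff ha).mpr haU) _ ((P.mul_mem_iff hb).mpr fun e => haU (h.mpr e))
      (hne a hat) (hne b hbt)
    refine ⟨i, mul_left_cancel (a := t) (Eq.trans ?_ hi)⟩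
    calc t * (c₀ ^ i * a * (c₀ ^ i)⁻¹) = (t * c₀ ^ i) * a * (c₀ ^ i)⁻¹ := by group
      _ = (c₀ ^ i * t) * a * (c₀ ^ i)⁻¹ := by rw [Subgroup.mem_centralizer_singleton_iff.mp (P.c₀pow i).1]
      _ = c₀ ^ i * (t * a) * (c₀ ^ i)⁻¹ := by group

/-- The orbit is a union of the three pieces. -/
theorem orbit_step {a b n : G} (ha : a ∈ T) (hb : b ∈ T) (ha1 : a ≠ 1) (hat : a ≠ t) (hb1 : b ≠ 1) (hbt : b ≠ t)
    (h : a ∈ U ↔ b ∈ U) (hn : n ∈ Subgroup.normalizer (T : Set G)) (hna : n * t * n⁻¹ = a) :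
    ∃ m ∈ Subgroup.normalizer (T : Set G), m * t * m⁻¹ = b := by
  obtain ⟨i, hi⟩ := P.trans_side ha hb ha1 hat hb1 hbt h
  refine ⟨c₀ ^ i * n, mul_mem (P.c₀pow i).2 hn, ?_⟩
  rw [← hi, ← hna]
  group

/-- The orbit of `t` under the normaliser. -/
theorem orbit_card : Nat.card {x : G // ∃ n ∈ Subgroup.normalizer (T : Set G), n * t * n⁻¹ = x} =
    (Subgroup.centralizer ({t} : Set G)).relIndex (Subgroup.normalizer (T : Set G)) := by
  refine (Nat.card_congr (Equiv.ofBijective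
    (Quotient.lift (fun n : Subgroup.normalizer (T : Set G) =>
      (⟨(n : G) * t * (n : G)⁻¹, n, n.2, rfl⟩ :
        {x : G // ∃ n ∈ Subgroup.normalizer (T : Set G), n * t * n⁻¹ = x})) ?_) ⟨?_, ?_⟩)).symm
  · intro a b hab
    have h := Subgroup.mem_centralizer_singleton_iff.mp (Subgroup.mem_subgroupOf.mp (QuotientGroup.leftRel_apply.mp hab))
    refine Subtype.ext ?_
    simp only [Subgroup.coe_mul, Subgroup.coe_inv] at h
    calc (a : G) * t * (a : G)⁻¹ = a * (t * ((a : G)⁻¹ * b)) * (b : G)⁻¹ := by group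
      _ = (b : G) * t * (b : G)⁻¹ := by rw [← h]; group
  · intro p q h
    induction p using Quotient.inductionOn with
    | h a =>
      induction q using Quotient.inductionOn with
      | h b =>
        refine Quotient.sound (QuotientGroup.leftRel_apply.mpr (Subgroup.mem_subgroupOf.mpr
          (Subgroup.mem_centralizer_singleton_iff.mpr ?_)))
        have h' : (a : G) * t * (a : G)⁻¹ = (b : G) * t * (b : G)⁻¹ := congrArg Subtype.val h
        show (a : G)⁻¹ * b * t = t * ((a : G)⁻¹ * b)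
        calc (a : G)⁻¹ * b * t = (a : G)⁻¹ * ((b : G) * t * (b : G)⁻¹) * b := by group
          _ = t * ((a : G)⁻¹ * b) := by rw [← h']; group
  · rintro ⟨x, n, hn, rfl⟩
    exact ⟨Quotient.mk'' ⟨n, hn⟩, rfl⟩

/-- A 2-group of the normaliser is inside `T` as soon as the orbit is odd. -/
theorem relIndex_norm : ∃ o, Odd o ∧ Nat.card (Subgroup.normalizer (T : Set G)) =
    Nat.card T * (o * (Subgroup.centralizer ({t} : Set G)).relIndex (Subgroup.normalizer (T : Set G))) := by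
  set N := Subgroup.normalizer (T : Set G)
  set C := Subgroup.centralizer ({t} : Set G)
  have hle : T ≤ C ⊓ N := le_inf P.inv.TC Subgroup.le_normalizer
  refine ⟨T.relIndex (C ⊓ N), P.inv.sylow.of_dvd_nat ⟨(C ⊓ N).relIndex C, ?_⟩, ?_⟩
  · rw [Subgroup.relIndex_mul_relIndex _ _ _ hle inf_le_left]
  · rw [← Subgroup.inf_relIndex_right C N, Subgroup.relIndex_mul_relIndex _ _ _ hle inf_le_right,
      ← Subgroup.relIndex_bot_left T, Subgroup.relIndex_mul_relIndex _ _ _ bot_le Subgroup.le_normalizer,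
      Subgroup.relIndex_bot_left]

/-- If `T` is not a Sylow subgroup, the conjugates of `t` in `T` are `T ∖ U`. -/
theorem conj_iff (S : Sylow 2 G) (hTS : T ≤ (S : Subgroup G)) (hne : T ≠ (S : Subgroup G)) {x : G} (hx : x ∈ T) :
    IsConj t x ↔ x ∉ U := by
  classical
  haveI : Fact (Nat.Prime 2) := ⟨Nat.prime_two⟩
  set N := Subgroup.normalizer (T : Set G) with hN
  let O : G → Prop := fun x => ∃ n ∈ N, n * t * n⁻¹ = x
  have hOT : ∀ x, O x → x ∈ T ∧ x ≠ 1 := fun x ⟨n, hn, e⟩ =>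
    ⟨e ▸ norm_conj hn P.inv.tT, fun h => P.inv.ne (conj_eq_one_iff.mp (e.trans h))⟩
  have hO : ∀ x ∈ T, IsConj t x ↔ O x :=
    fun x hx => ⟨P.fus hx, fun ⟨n, _, e⟩ => isConj_iff.mpr ⟨n, e⟩⟩
  obtain ⟨g, hgS, hgT, hg⟩ := exists_norm S.2 hTS hne
  have hgt : g * t * g⁻¹ ≠ t := fun e => hgT (P.inv.mem_of_comm S.2 hTS hgS (mul_inv_eq_iff_eq_mul.mp e))
  have hOt : O t := ⟨1, one_mem N, by group⟩
  -- `U` and `tU` not both in the orbit: the orbit is even
  have heven : ¬ ∀ x ∈ T, x ≠ 1 → O x := by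
    intro hall
    obtain ⟨o, ho, hN'⟩ := P.relIndex_norm
    have hc : (Subgroup.centralizer ({t} : Set G)).relIndex N = Nat.card T - 1 := by
      rw [← P.orbit_card, Nat.card_congr (Equiv.subtypeEquivRight (p := O) (q := fun x => x ∈ T ∧ x ≠ 1)
        fun x => ⟨hOT x, fun h => hall x h.1 h.2⟩)]
      haveI := Fintype.ofFinite T
      rw [Nat.card_congr (Equiv.subtypeSubtypeEquivSubtypeInter (fun x => x ∈ T) (fun x => x ≠ 1)).symm,
        Nat.card_eq_fintype_card (α := T), Nat.card_eq_fintype_card]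
      rw [show Fintype.card T = (Finset.univ : Finset T).card from rfl, Fintype.card_subtype]
      rw [show (Finset.univ.filter fun a : T => (a : G) ≠ 1) = Finset.univ.erase 1 by
        ext a; rw [Finset.mem_filter, Finset.mem_erase, ne_eq, ne_eq, OneMemClass.coe_eq_one]; tauto]
      rw [Finset.card_erase_of_mem (Finset.mem_univ _)]
    have hV : Nat.card (((S : Subgroup G) ⊓ N : Subgroup G)) ∣ Nat.card N := Subgroup.card_dvd_of_le inf_le_right
    obtain ⟨a, ha⟩ := (S.2.to_le (inf_le_left (b := N))).exists_card_eq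
    obtain ⟨b, hb⟩ := P.inv.p.exists_card_eq
    have hlt : Nat.card T < Nat.card (((S : Subgroup G) ⊓ N : Subgroup G)) := by
      refine lt_of_le_of_ne (Subgroup.card_le_of_le (le_inf hTS Subgroup.le_normalizer)) fun e => hgT ?_
      rw [Subgroup.eq_of_le_of_card_ge (le_inf hTS Subgroup.le_normalizer) e.ge]
      exact ⟨hgS, hg⟩
    rw [ha, hb] at hlt
    have hba := (Nat.pow_lt_pow_iff_right Nat.one_lt_two).mp hlt
    rw [ha, hN', hb, hc, P.cardT] at hV
    have h2 : 2 ^ b * 2 ∣ 2 ^ b * (o * (2 * Nat.card U - 1)) :=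
      (show 2 ^ b * 2 ∣ 2 ^ a by rw [← pow_succ]; exact pow_dvd_pow 2 hba).trans hV
    have h3 := Nat.dvd_of_mul_dvd_mul_left (Nat.two_pow_pos b) h2
    have hodd : Odd (o * (2 * Nat.card U - 1)) :=
      ho.mul (Nat.odd_iff.mpr (by have := P.four; omega))
    exact absurd h3 (Nat.two_dvd_ne_zero.mpr (Nat.odd_iff.mp hodd))
  -- the orbit reaches `tU`
  obtain ⟨a, haT, ha1, hat, hOa⟩ : ∃ a ∈ T, a ≠ 1 ∧ a ≠ t ∧ O a :=
    ⟨_, norm_conj hg P.inv.tT, fun e => P.inv.ne (conj_eq_one_iff.mp e), hgt, g, hg, rfl⟩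
  have hstep : ∀ b ∈ T, b ≠ 1 → b ≠ t → (a ∈ U ↔ b ∈ U) → O b := fun b hb hb1 hbt h => by
    obtain ⟨n, hn, e⟩ := hOa
    exact P.orbit_step haT hb ha1 hat hb1 hbt h hn e
  have haU : a ∉ U := by
    intro haU
    have honly : ∀ b, O b → b ≠ t → b ∈ U := by
      intro b hOb hbt
      by_contra hbU
      refine heven fun y hy hy1 => ?_
      rcases eq_or_ne y t with rfl | hyt
      · exact hOt
      rcases em (y ∈ U) with hyU | hyU
      · exact hstep y hy hy1 hyt (iff_of_true haU hyU)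
      · obtain ⟨n, hn, e⟩ := hOb
        exact P.orbit_step (hOT b ⟨n, hn, e⟩).1 hy (hOT b ⟨n, hn, e⟩).2 hbt hy1 hyt (iff_of_false hbU hyU) hn e
    -- a product of two elements of the orbit is never in the orbit when one of them is `t`
    obtain ⟨v, hvU, hv⟩ : ∃ v ∈ U, v ≠ 1 ∧ v ≠ a := by
      by_contra hcon
      push Not at hcon
      have hsub : (U : Set G) ⊆ {1, a} := fun v hv => by
        by_cases h1 : v = 1
        · exact .inl h1
        · exact .inr (hcon v hv h1)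
      have h1 := Set.ncard_le_ncard hsub (Set.toFinite _)
      rw [← Nat.card_coe_set_eq, SetLike.coe_sort_coe] at h1
      have h2 := (Set.ncard_insert_le 1 {a}).trans_eq (by rw [Set.ncard_singleton])
      have := P.four
      omega
    obtain ⟨n, hn, hna⟩ := hOa
    have hb1 : n⁻¹ * v * n ≠ 1 := fun e => hv.1 (by
      calc v = n * (n⁻¹ * v * n) * n⁻¹ := by group
        _ = 1 := by rw [e]; group)
    have hbt : n⁻¹ * v * n ≠ t := fun e => hv.2 (by rw [← hna, ← e]; group)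
    have hOv : O v := hstep v (P.UT hvU) hv.1 (fun e => P.tU (e ▸ hvU)) (iff_of_true haU hvU)
    have hOb : O (n⁻¹ * v * n) := by
      obtain ⟨m, hm, e⟩ := hOv
      exact ⟨n⁻¹ * m, mul_mem (inv_mem hn) hm, by rw [← e]; group⟩
    have hbU : n⁻¹ * v * n ∈ U := honly _ hOb hbt
    have hOav : O (a * v) := hstep _ (mul_mem haT (P.UT hvU)) (fun e => hv.2 (by
        rw [(eq_inv_of_mul_eq_one_right e), inv_eq_of_mul_eq_one_right (P.exp a haT)]))
      (fun e => P.tU (e ▸ mul_mem haU hvU)) (iff_of_true haU (mul_mem haU hvU))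
    have hOtb : O (t * (n⁻¹ * v * n)) := by
      obtain ⟨m, hm, e⟩ := hOav
      exact ⟨n⁻¹ * m, mul_mem (inv_mem hn) hm, by
        calc n⁻¹ * m * t * (n⁻¹ * m)⁻¹ = n⁻¹ * (m * t * m⁻¹) * n := by group
          _ = n⁻¹ * (n * t * n⁻¹ * v) * n := by rw [e, hna]
          _ = t * (n⁻¹ * v * n) := by group⟩
    exact ((P.mul_mem_iff (P.UT hbU)).mp (honly _ hOtb (fun e => hb1 (mul_eq_left.mp e)))) hbU
  rw [hO x hx]
  refine ⟨fun hOx hxU => heven fun y hy hy1 => ?_, fun hxU => ?_⟩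
  · rcases eq_or_ne y t with rfl | hyt
    · exact hOt
    rcases em (y ∈ U) with hyU | hyU
    · obtain ⟨n, hn, e⟩ := hOx
      exact P.orbit_step hx hy (hOT x ⟨n, hn, e⟩).2 (fun h => P.tU (h ▸ hxU)) hy1 hyt (iff_of_true hxU hyU) hn e
    · exact hstep y hy hy1 hyt (iff_of_false haU hyU)
  · rcases eq_or_ne x t with rfl | hxt
    · exact hOt
    exact hstep x hx (fun e => hxU (e ▸ one_mem U)) hxt (iff_of_false haU hxU)

/-- If `T` is a Sylow subgroup then it has order eight. -/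
theorem eight [IsSimpleGroup G] (hG : ¬ IsMulCommutative G) (S : Sylow 2 G) (hS : T = (S : Subgroup G)) :
    Nat.card T = 8 := by
  classical
  haveI : Fact (Nat.Prime 2) := ⟨Nat.prime_two⟩
  obtain ⟨n, hn2, hn⟩ := P.card_pow
  rcases (show n = 2 ∨ 3 ≤ n by omega) with rfl | hn3
  · rw [P.cardT, hn]; norm_num
  exfalso
  set N := Subgroup.normalizer (T : Set G) with hN
  have hodd : Odd (T.relIndex N) := by
    rw [← Nat.not_even_iff_odd, even_iff_two_dvd]
    exact fun h => S.not_dvd_index ((hS ▸ h : 2 ∣ (S : Subgroup G).relIndex N).trans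
      (Subgroup.relIndex_dvd_index_of_le (hS ▸ Subgroup.le_normalizer)))
  have hswapfalse : ∀ g ∈ N, ∀ b : G, g * t * g⁻¹ = b → g * b * g⁻¹ = t → b = t := by
    intro g hg b h1 h2
    haveI : (T.subgroupOf N).Normal := Subgroup.normal_in_normalizer
    have hm : g ^ T.relIndex N ∈ T :=
      Subgroup.mem_subgroupOf.mp (Subgroup.pow_index_mem (T.subgroupOf N) (⟨g, hg⟩ : N))
    obtain ⟨l, hl⟩ := hodd
    have hp : ∀ i : ℕ, g ^ (2 * i + 1) * t * (g ^ (2 * i + 1))⁻¹ = b := by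
      intro i
      induction i with
      | zero => simpa using h1
      | succ i ih =>
        rw [show 2 * (i + 1) + 1 = (2 * i + 1) + 1 + 1 by ring, pow_succ', pow_succ' g (2 * i + 1)]
        calc g * (g * g ^ (2 * i + 1)) * t * (g * (g * g ^ (2 * i + 1)))⁻¹
            = g * (g * (g ^ (2 * i + 1) * t * (g ^ (2 * i + 1))⁻¹) * g⁻¹) * g⁻¹ := by group
          _ = b := by rw [ih, h2, h1]
    rw [← hp l, ← hl, P.comm hm P.inv.tT, mul_inv_cancel_right]
  have hO : ∀ x ∈ T, IsConj t x → ∃ n ∈ N, n * t * n⁻¹ = x := fun x hx => P.fus hx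
  by_cases hall : ∀ x ∈ T, x ≠ 1 → ∃ n ∈ N, n * t * n⁻¹ = x
  swap
  · -- only `t`: Thompson's lemma
    obtain ⟨o, ho, hi⟩ := index_two_part S (Y := U) (a := 2) (hS ▸ P.UT) (by rw [← hS, P.cardT])
    refine thompson_false hG U hi ho P.inv.sq fun y hy hc => hall ?_
    obtain ⟨n₁, hn₁, e⟩ := hO y (P.UT hy) hc
    have hy1 : y ≠ 1 := fun h => P.inv.ne (conj_eq_one_iff.mp (e.trans h))
    have hyt : y ≠ t := fun h => P.tU (h ▸ hy)
    intro x hx hx1
    rcases eq_or_ne x t with rfl | hxt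
    · exact ⟨1, one_mem _, by group⟩
    rcases em (x ∈ U) with hxU | hxU
    · exact P.orbit_step (P.UT hy) hx hy1 hyt hx1 hxt (iff_of_true hy hxU) hn₁ e
    -- reach `tU` from the pair `(y, t)`
    set b := n₁⁻¹ * t * n₁ with hb
    have hbT : b ∈ T := by
      have := norm_conj (inv_mem hn₁) P.inv.tT
      rwa [inv_inv] at this
    have hb1 : b ≠ 1 := fun h => P.inv.ne (by
      calc t = n₁ * b * n₁⁻¹ := by rw [hb]; group
        _ = 1 := by rw [h]; group)
    have hbt : b ≠ t := fun h => hyt (by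
      calc y = n₁ * t * n₁⁻¹ := e.symm
        _ = n₁ * b * n₁⁻¹ := by rw [h]
        _ = t := by rw [hb]; group)
    have hbU : b ∉ U := fun hbU => by
      obtain ⟨i, hi⟩ := P.trans_side (P.UT hy) hbT hy1 hyt hb1 hbt (iff_of_true hy hbU)
      refine hyt (hswapfalse (n₁ * c₀ ^ i) (mul_mem hn₁ (P.c₀pow i).2) y ?_ ?_)
      · calc n₁ * c₀ ^ i * t * (n₁ * c₀ ^ i)⁻¹ = n₁ * (c₀ ^ i * t) * (c₀ ^ i)⁻¹ * n₁⁻¹ := by group
          _ = n₁ * t * n₁⁻¹ := by rw [Subgroup.mem_centralizer_singleton_iff.mp (P.c₀pow i).1]; group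
          _ = y := e
      · calc n₁ * c₀ ^ i * y * (n₁ * c₀ ^ i)⁻¹ = n₁ * (c₀ ^ i * y * (c₀ ^ i)⁻¹) * n₁⁻¹ := by group
          _ = t := by rw [hi, hb]; group
    exact P.orbit_step hbT hx hb1 hbt hx1 hxt (iff_of_false hbU hxU) (inv_mem hn₁) (by rw [inv_inv])
  -- all involutions conjugate: count
  let A := {a : T // (a : G) ≠ 1}
  choose ν hν hνe using fun a : A => hall a.1 a.1.2 a.2
  let Rel : A → G → Prop := fun a y => (ν a)⁻¹ * y * ν a ∈ U
  let φ : A → G → ZMod 2 := fun a y => if Rel a y then 0 else 1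
  have hTc : ∀ (a : A) (y : G), y ∈ T → (ν a)⁻¹ * y * ν a ∈ T := fun a y hy => by
    have := norm_conj (inv_mem (hν a)) hy
    rwa [inv_inv] at this
  have hφmul : ∀ a : A, ∀ x ∈ T, ∀ y ∈ T, φ a (x * y) = φ a x + φ a y := by
    intro a x hx y hy
    have e : (ν a)⁻¹ * (x * y) * ν a = ((ν a)⁻¹ * x * ν a) * ((ν a)⁻¹ * y * ν a) := by group
    have hiff : ((ν a)⁻¹ * (x * y) * ν a ∈ U) ↔ (((ν a)⁻¹ * x * ν a ∈ U) ↔ ((ν a)⁻¹ * y * ν a ∈ U)) := by
      rw [e]
      have := Subgroup.mul_mem_iff_of_index_two (show (U.subgroupOf T).index = 2 from P.idx)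
        (a := ⟨_, hTc a x hx⟩) (b := ⟨_, hTc a y hy⟩)
      simpa [Subgroup.mem_subgroupOf] using this
    by_cases h1 : Rel a x <;> by_cases h2 : Rel a y <;>
      simp only [φ, Rel] at * <;> simp [hiff, h1, h2] <;> exact (CharTwo.add_self_eq_zero (1 : ZMod 2)).symm
  have hφdiag : ∀ a : A, φ a a.1 = 1 := fun a => by
    have e : (ν a)⁻¹ * (a.1 : G) * ν a = t := by rw [← hνe a]; group
    simp only [φ, Rel, e, P.tU, if_false]
  have hφswap : ∀ a b : A, a ≠ b → φ a b.1 + φ b a.1 = 1 := by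
    intro a b hab
    set x := (ν a)⁻¹ * (b.1 : G) * ν a with hx
    set y := (ν b)⁻¹ * (a.1 : G) * ν b with hy
    have hxt : x ≠ t := fun h => hab (Subtype.ext (Subtype.ext (by
      rw [← hνe a, ← h, hx]; group)))
    have hyt : y ≠ t := fun h => hab (Subtype.ext (Subtype.ext (by
      have e2 : (b.1 : G) = ν b * t * (ν b)⁻¹ := (hνe b).symm
      rw [e2, ← h, hy]; group)))
    have hx1 : x ≠ 1 := fun h => b.2 (by
      calc (b.1 : G) = ν a * x * (ν a)⁻¹ := by rw [hx]; group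
        _ = 1 := by rw [h]; group)
    have hy1 : y ≠ 1 := fun h => a.2 (by
      calc (a.1 : G) = ν b * y * (ν b)⁻¹ := by rw [hy]; group
        _ = 1 := by rw [h]; group)
    have hne : ¬ (Rel a b.1 ↔ Rel b a.1) := by
      intro h
      -- `n` carries `t` to `b'` and `c₀ ^ i` fixes `t`; their product swaps
      obtain ⟨i, hi⟩ := P.trans_side (hTc a _ b.1.2) (hTc b _ a.1.2) hx1 hxt hy1 hyt h
      refine hxt (hswapfalse ((ν a)⁻¹ * ν b * c₀ ^ i)
        (mul_mem (mul_mem (inv_mem (hν a)) (hν b)) (P.c₀pow i).2) x ?_ ?_)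
      · calc (ν a)⁻¹ * ν b * c₀ ^ i * t * ((ν a)⁻¹ * ν b * c₀ ^ i)⁻¹
            = (ν a)⁻¹ * ν b * (c₀ ^ i * t) * (c₀ ^ i)⁻¹ * (ν b)⁻¹ * ν a := by group
          _ = (ν a)⁻¹ * (ν b * t * (ν b)⁻¹) * ν a := by
              rw [Subgroup.mem_centralizer_singleton_iff.mp (P.c₀pow i).1]; group
          _ = x := by rw [hνe b, hx]
      · calc (ν a)⁻¹ * ν b * c₀ ^ i * x * ((ν a)⁻¹ * ν b * c₀ ^ i)⁻¹
            = (ν a)⁻¹ * (ν b * (c₀ ^ i * x * (c₀ ^ i)⁻¹) * (ν b)⁻¹) * ν a := by group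
          _ = (ν a)⁻¹ * (a.1 : G) * ν a := by rw [hi]; group
          _ = t := by rw [← hνe a]; group
    by_cases h1 : Rel a b.1 <;> by_cases h2 : Rel b a.1 <;> simp [φ, h1, h2] at hne ⊢
  obtain ⟨s, hs, hscard⟩ := exists_gens T
  have hcoef : ∀ y ∈ Subgroup.closure (s : Set G), y ∈ T ∧
      ∃ c : s → ZMod 2, ∀ a : A, φ a y = ∑ i : s, c i * φ a i := by
    intro y hy
    induction hy using Subgroup.closure_induction with
    | mem x hx => exact ⟨hs ▸ Subgroup.subset_closure hx, Pi.single ⟨x, hx⟩ 1, fun a => by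
        simp [Pi.single_apply]⟩
    | one => exact ⟨one_mem T, 0, fun a => by simp [φ, Rel]⟩
    | mul x z _ _ hx hz =>
      obtain ⟨hxT, cx, hcx⟩ := hx
      obtain ⟨hzT, cz, hcz⟩ := hz
      exact ⟨mul_mem hxT hzT, cx + cz, fun a => by
        simp [hφmul a x hxT z hzT, hcx a, hcz a, add_mul, Finset.sum_add_distrib]⟩
    | inv x _ hx =>
      rw [inv_eq_of_mul_eq_one_right (P.exp x hx.1)]
      exact hx
  choose γ hγ using fun b : A => (hcoef b.1 (by rw [hs]; exact b.1.2)).2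
  haveI := Fintype.ofFinite A
  obtain ⟨a₀⟩ : Nonempty A := ⟨⟨⟨t, P.inv.tT⟩, P.inv.ne⟩⟩
  let Φ : (A → ZMod 2) → (s → ZMod 2) × (s → ZMod 2) × ZMod 2 := fun x =>
    (fun i => ∑ a, x a * γ a i, fun i => ∑ a, x a * φ a i, x a₀)
  have hinj : Function.Injective Φ := by
    intro x x' h
    set z : A → ZMod 2 := x - x'
    have h1 : ∀ i, ∑ a, z a * γ a i = 0 := fun i => by
      simp only [z, Pi.sub_apply, sub_mul, Finset.sum_sub_distrib]
      rw [sub_eq_zero]
      exact congrFun (congrArg Prod.fst h) i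
    have h2 : ∀ i : s, ∑ a, z a * φ a i = 0 := fun i => by
      simp only [z, Pi.sub_apply, sub_mul, Finset.sum_sub_distrib]
      rw [sub_eq_zero]
      exact congrFun (congrArg (fun w => w.2.1) h) i
    have h3 : ∀ b : A, z b = ∑ a, z a := by
      intro b
      have e1 : ∑ a, z a * φ a b.1 = 0 := by
        simp only [hγ b, Finset.mul_sum]
        rw [Finset.sum_comm]
        refine Finset.sum_eq_zero fun i _ => ?_
        simp only [mul_left_comm (z _) (γ b i), ← Finset.mul_sum, h2 i, mul_zero]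
      have e2 : ∑ a, z a * φ b a.1 = 0 := by
        simp only [fun a : A => hγ a b, Finset.mul_sum]
        rw [Finset.sum_comm]
        refine Finset.sum_eq_zero fun i _ => ?_
        simp only [← mul_assoc, ← Finset.sum_mul, h1 i, zero_mul]
      have e3 : ∑ a, z a * (φ a b.1 + φ b a.1) = 0 := by
        simp only [mul_add, Finset.sum_add_distrib, e1, e2, add_zero]
      rw [← Finset.add_sum_erase _ _ (Finset.mem_univ b)] at e3
      rw [show φ b b.1 + φ b b.1 = 0 from CharTwo.add_self_eq_zero _, mul_zero, zero_add,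
        Finset.sum_congr rfl fun a ha => by rw [hφswap a b (Finset.ne_of_mem_erase ha), mul_one]] at e3
      rw [← Finset.add_sum_erase _ _ (Finset.mem_univ b), e3, add_zero]
    have h4 : z a₀ = 0 := sub_eq_zero.mpr (congrArg (fun w => w.2.2) h)
    funext a
    exact sub_eq_zero.mp (show z a = 0 by rw [h3 a, ← h3 a₀, h4])
  have hcardA : Fintype.card A + 1 = 2 * 2 ^ n := by
    haveI := Fintype.ofFinite T
    rw [← hn, ← P.cardT, Nat.card_eq_fintype_card]
    rw [show Fintype.card T = (Finset.univ : Finset T).card from rfl, Fintype.card_subtype]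
    rw [show (Finset.univ.filter fun a : T => (a : G) ≠ 1) = Finset.univ.erase 1 by
        ext a; rw [Finset.mem_filter, Finset.mem_erase, ne_eq, ne_eq, OneMemClass.coe_eq_one]; tauto]
    rw [Finset.card_erase_add_one (Finset.mem_univ _)]
  have h5 := Fintype.card_le_of_injective Φ hinj
  simp only [Fintype.card_prod, Fintype.card_fun, ZMod.card, Fintype.card_coe, ← pow_add] at h5
  rw [show (2 : ℕ) ^ s.card * (2 ^ s.card * 2) = 2 ^ (2 * s.card + 1) by ring] at *
  have h6 := (Nat.pow_le_pow_iff_right Nat.one_lt_two).mp h5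
  have h7 : s.card ≤ n + 1 := by
    rw [P.cardT, hn, ← pow_succ'] at hscard
    exact (Nat.pow_le_pow_iff_right Nat.one_lt_two).mp hscard
  have h8 : ∀ m, 3 ≤ m → 2 * m + 4 < 2 * 2 ^ m := by
    intro m hm
    induction m, hm using Nat.le_induction with
    | base => norm_num
    | succ m hm ih => rw [pow_succ]; omega
  have := h8 n hn3
  omega

end Elem

end CfsgLib.JT
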