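import Cfsg.Agent.Lib.JTType.Elementary

/-!
A generalised dihedral 2-group `R` over a homocyclic `P` in which the conjugates of `t` are `R ∖ P`.

* `Level`: the data;
* `Level.tr`: the translation part of an element of the normaliser, with `tr_mul`, `tr_eq_one`;
* `single_class`: when all conjugates in a 2-group are one class, it is a Sylow subgroup.
-/

set_option autoImplicit false
set_option linter.unusedSectionVars false
set_option linter.style.haveILetI false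

namespace CfsgLib.JT

variable {G : Type*} [Group G] [Finite G]

/-- The data at a level. -/
structure Level (t : G) (T U : Subgroup G) (c₀ : G) (R P : Subgroup G) (k : ℕ) : Prop where
  p : IsPGroup 2 R
  PR : P ≤ R
  idx : P.relIndex R = 2
  TR : T ≤ R
  UP : U ≤ P
  K : ∀ x ∈ R, IsConj t x ↔ x ∉ P
  pow : ∀ x ∈ P, x ^ 2 ^ k ∈ U
  onto : ∀ u ∈ U, ∃ x ∈ P, x ^ 2 ^ k = u
  act : ∃ c ∈ Subgroup.centralizer ({t} : Set G), c ∈ Subgroup.normalizer (R : Set G) ∧
    ∀ u ∈ U, c * u * c⁻¹ = c₀ * u * c₀⁻¹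

/-- A 2-group containing `T` in which the conjugates of `t` are one class is a Sylow subgroup. -/
theorem single_class {t : G} {T : Subgroup G} (I : Inv t T) {R : Subgroup G} (hR : IsPGroup 2 R) (hT : T ≤ R)
    (h : ∀ x ∈ R, IsConj t x → ∃ r ∈ R, r * t * r⁻¹ = x) : ∃ S : Sylow 2 G, R = (S : Subgroup G) := by
  obtain ⟨S, hS⟩ := hR.exists_le_sylow
  refine ⟨S, by_contra fun hne => ?_⟩
  obtain ⟨g, hgS, hgR, hg⟩ := exists_norm S.2 hS hne
  obtain ⟨r, hr, e⟩ := h _ (norm_conj hg (hT I.tT)) (isConj_iff.mpr ⟨g, rfl⟩)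
  have hc : r⁻¹ * g * t = t * (r⁻¹ * g) := by
    calc r⁻¹ * g * t = r⁻¹ * (g * t * g⁻¹) * g := by group
      _ = t * (r⁻¹ * g) := by rw [← e]; group
  have h1 := hT (I.mem_of_comm S.2 (hT.trans hS) (mul_mem (inv_mem (hS hr)) hgS) hc)
  exact hgR ((Subgroup.mul_mem_cancel_left R (inv_mem hr)).mp h1)

namespace Elem

variable {t : G} {T U : Subgroup G} {c₀ : G} (E : Elem t T U c₀)
include E

/-- An element of `T` commuting with `t` whose conjugacy is prescribed. -/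
theorem mem_U_iff {R P : Subgroup G} {k : ℕ} (L : Level t T U c₀ R P k) {x : G} (hx : x ∈ T) : x ∈ U ↔ x ∈ P := by
  refine ⟨fun h => L.UP h, fun h => by_contra fun hxU => ?_⟩
  have htP : t ∉ P := (L.K t (L.TR E.inv.tT)).mp (IsConj.refl t)
  have := L.UP ((E.mul_mem_iff hx).mpr hxU)
  exact htP ((Subgroup.mul_mem_cancel_right P h).mp this)

end Elem

namespace Level

variable {t : G} {T U : Subgroup G} {c₀ : G} {R P : Subgroup G} {k : ℕ}
variable (L : Level t T U c₀ R P k) (E : Elem t T U c₀)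

include L E

theorem tP : t ∉ P := (L.K t (L.TR E.inv.tT)).mp (IsConj.refl t)

theorem tR : t ∈ R := L.TR E.inv.tT

theorem t_mul_iff {x : G} (hx : x ∈ R) : t * x ∈ P ↔ x ∉ P := by
  have h1 := Subgroup.mul_mem_iff_of_index_two (show (P.subgroupOf R).index = 2 from L.idx)
    (a := ⟨t, L.tR E⟩) (b := ⟨x, hx⟩)
  simp only [Subgroup.mem_subgroupOf, Subgroup.coe_mul, L.tP E, false_iff] at h1
  exact h1

theorem sq_out {x : G} (hx : x ∈ R) (hP : x ∉ P) : x * x = 1 := by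
  obtain ⟨g, rfl⟩ := isConj_iff.mp ((L.K x hx).mpr hP)
  rw [conj_mul, E.inv.sq, mul_one, mul_inv_cancel]

/-- `t` inverts `P`. -/
theorem inv_t {p : G} (hp : p ∈ P) : t * p * t = p⁻¹ := by
  have h1 := L.sq_out E (mul_mem (L.tR E) (L.PR hp))
    (fun h => (L.tP E) ((Subgroup.mul_mem_cancel_right P hp).mp h))
  exact eq_inv_of_mul_eq_one_left (by rw [← h1]; group)

theorem comm {a b : G} (ha : a ∈ P) (hb : b ∈ P) : a * b = b * a := by
  have h : (a * b)⁻¹ = a⁻¹ * b⁻¹ := by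
    rw [← L.inv_t E (mul_mem ha hb), ← L.inv_t E ha, ← L.inv_t E hb]
    calc t * (a * b) * t = t * a * (t * t) * b * t := by rw [E.inv.sq]; group
      _ = t * a * t * (t * b * t) := by group
  rw [mul_inv_rev] at h
  exact inv_injective (by rw [mul_inv_rev, mul_inv_rev, h])

theorem U_iff {x : G} (hx : x ∈ P) : x ∈ U ↔ x * x = 1 := by
  refine ⟨fun h => E.exp x (E.UT h), fun h => ?_⟩
  have hc : x * t = t * x := by
    calc x * t = x⁻¹ * t := by rw [inv_eq_of_mul_eq_one_right h]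
      _ = t * x * (t * t) := by rw [← L.inv_t E hx]; group
      _ = t * x := by rw [E.inv.sq, mul_one]
  exact (E.mem_U_iff L (E.inv.mem_of_comm L.p L.TR (L.PR hx) hc)).mpr hx

theorem pow_mul_of_mem {a b : G} (ha : a ∈ P) (hb : b ∈ P) : (a * b) ^ 2 ^ k = a ^ 2 ^ k * b ^ 2 ^ k :=
  Commute.mul_pow (L.comm E ha hb) _

/-- The squaring map on `P` has kernel `U`, so its image has order `|P| / |U|`. -/
theorem card_sq : ∃ Q : Subgroup G, (∀ x, x ∈ Q ↔ ∃ y ∈ P, y * y = x) ∧ Nat.card Q * Nat.card U = Nat.card P := by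
  letI : CommGroup P := { (inferInstance : Group P) with mul_comm := fun a b => Subtype.ext (L.comm E a.2 b.2) }
  let f : P →* P := powMonoidHom 2
  refine ⟨f.range.map P.subtype, fun x => ⟨?_, ?_⟩, ?_⟩
  · rintro ⟨_, ⟨y, rfl⟩, rfl⟩
    exact ⟨y, y.2, (pow_two (y : G)).symm⟩
  · rintro ⟨y, hy, rfl⟩
    exact ⟨_, ⟨⟨y, hy⟩, rfl⟩, pow_two y⟩
  · rw [Subgroup.card_map_of_injective P.subtype_injective, ← Subgroup.index_ker f,
      ← Subgroup.card_mul_index f.ker, mul_comm]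
    congr 1
    refine (Nat.card_congr (α := f.ker) (β := U)
      { toFun := fun x => ⟨x.1.1, (L.U_iff E x.1.2).mpr ?_⟩
        invFun := fun u => ⟨⟨u.1, L.UP u.2⟩, ?_⟩
        left_inv := fun _ => rfl
        right_inv := fun _ => rfl }).symm
    · rw [← pow_two]
      exact congrArg Subtype.val (MonoidHom.mem_ker.mp x.2)
    · exact MonoidHom.mem_ker.mpr (Subtype.ext ((pow_two u.1).trans (E.exp _ (E.UT u.2))))

/-- The kernel of the power map is the squares. -/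
theorem ker_pow {x : G} (hx : x ∈ P) : x ^ 2 ^ k = 1 ↔ ∃ y ∈ P, y * y = x := by
  have hsub : ∀ y ∈ P, (y * y) ^ 2 ^ k = 1 := fun y hy => by
    rw [L.pow_mul_of_mem E hy hy]
    exact E.exp _ (E.UT (L.pow y hy))
  refine ⟨fun h => ?_, by rintro ⟨y, hy, rfl⟩; exact hsub y hy⟩
  obtain ⟨Q, hQ, hQc⟩ := L.card_sq E
  letI : CommGroup P := { (inferInstance : Group P) with mul_comm := fun a b => Subtype.ext (L.comm E a.2 b.2) }
  let f : P →* P := powMonoidHom (2 ^ k)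
  have hle : Q ≤ f.ker.map P.subtype := by
    intro z hz
    obtain ⟨y, hy, rfl⟩ := (hQ z).mp hz
    exact ⟨⟨y * y, mul_mem hy hy⟩, MonoidHom.mem_ker.mpr (Subtype.ext (hsub y hy)), rfl⟩
  have heq : Q = f.ker.map P.subtype := by
    refine Subgroup.eq_of_le_of_card_ge hle (Nat.le_of_mul_le_mul_right ?_ (Nat.card_pos (α := U)))
    rw [hQc, Subgroup.card_map_of_injective P.subtype_injective, ← Subgroup.card_mul_index f.ker,
      Subgroup.index_ker]
    refine Nat.mul_le_mul_left _ (le_of_eq (Nat.card_congr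
      { toFun := fun u => ⟨⟨u.1, L.UP u.2⟩, ?_⟩
        invFun := fun y => ⟨y.1.1, ?_⟩
        left_inv := fun _ => rfl
        right_inv := fun _ => rfl }))
    · obtain ⟨z, hz, e⟩ := L.onto u.1 u.2
      exact ⟨⟨z, hz⟩, Subtype.ext e⟩
    · obtain ⟨z, hz⟩ := y.2
      rw [← hz]
      exact L.pow _ z.2
  exact (hQ x).mp (heq ▸ ⟨⟨x, hx⟩, MonoidHom.mem_ker.mpr (Subtype.ext h), rfl⟩)

/-- Normalisers of `R` normalise `P`. -/
theorem conj_P {g : G} (hg : g ∈ Subgroup.normalizer (R : Set G)) {x : G} (hx : x ∈ P) : g * x * g⁻¹ ∈ P := by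
  by_contra h
  have h1 := (L.K _ (norm_conj hg (L.PR hx))).mpr h
  exact (L.K x (L.PR hx)).mp (h1.trans (isConj_iff.mpr ⟨g⁻¹, by group⟩)) hx

theorem conj_U {g : G} (hg : g ∈ Subgroup.normalizer (R : Set G)) {u : G} (hu : u ∈ U) : g * u * g⁻¹ ∈ U := by
  rw [L.U_iff E (L.conj_P E hg (L.UP hu)), conj_mul, E.exp u (E.UT hu), mul_one, mul_inv_cancel]

/-- `R` centralises `U`. -/
theorem R_cent {r : G} (hr : r ∈ R) {u : G} (hu : u ∈ U) : r * u = u * r := by
  rcases em (r ∈ P) with h | h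
  · exact L.comm E h (L.UP hu)
  · have h2 := L.comm E ((L.t_mul_iff E hr).mpr h) (L.UP hu)
    have h3 := E.inv.comm (E.UT hu)
    refine mul_left_cancel (a := t) ?_
    rw [← mul_assoc, h2, ← mul_assoc, ← mul_assoc, h3]

omit L E in
/-- The translation part. -/
def tr (t : G) (k : ℕ) (g : G) : G := (t * (g * t * g⁻¹)) ^ 2 ^ k

theorem base_mem {g : G} (hg : g ∈ Subgroup.normalizer (R : Set G)) : t * (g * t * g⁻¹) ∈ P :=
  (L.t_mul_iff E (norm_conj hg (L.tR E))).mpr fun h =>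
    (L.K _ (norm_conj hg (L.tR E))).mp (isConj_iff.mpr ⟨g, rfl⟩) h

theorem tr_mem {g : G} (hg : g ∈ Subgroup.normalizer (R : Set G)) : tr t k g ∈ U := L.pow _ (L.base_mem E hg)

theorem tr_mul {g h : G} (hg : g ∈ Subgroup.normalizer (R : Set G)) (hh : h ∈ Subgroup.normalizer (R : Set G)) :
    tr t k (g * h) = tr t k g * (g * tr t k h * g⁻¹) := by
  unfold tr
  rw [← conj_pow, ← L.pow_mul_of_mem E (L.base_mem E hg) (L.conj_P E hg (L.base_mem E hh))]
  congr 1
  calc t * (g * h * t * (g * h)⁻¹) = t * (g * (h * t * h⁻¹) * g⁻¹) := by group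
    _ = t * (g * (t * t * (h * t * h⁻¹)) * g⁻¹) := by rw [E.inv.sq, one_mul]
    _ = t * (g * t * g⁻¹) * (g * (t * (h * t * h⁻¹)) * g⁻¹) := by group

theorem tr_cent {c : G} (hc : c ∈ Subgroup.centralizer ({t} : Set G)) : tr t k c = 1 := by
  unfold tr
  rw [Subgroup.mem_centralizer_singleton_iff.mp hc, mul_inv_cancel_right, E.inv.sq, one_pow]

/-- The class of `t` in `R` is the coset of the squares. -/
theorem class_sq {x : G} (hx : x ∈ R) (hP : x ∉ P) (h : (t * x) ^ 2 ^ k = 1) : ∃ y ∈ R, y * t * y⁻¹ = x := by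
  obtain ⟨y, hy, e⟩ := (L.ker_pow E ((L.t_mul_iff E hx).mpr hP)).mp h
  refine ⟨y⁻¹, inv_mem (L.PR hy), ?_⟩
  rw [inv_inv]
  calc y⁻¹ * t * y = t * t * (y⁻¹ * t * y) := by rw [E.inv.sq, one_mul]
    _ = t * ((t * y⁻¹ * t) * y) := by group
    _ = t * (y * y) := by rw [L.inv_t E (inv_mem hy), inv_inv]
    _ = x := by rw [e, ← mul_assoc, E.inv.sq, one_mul]

theorem tr_R {r : G} (hr : r ∈ R) : tr t k r = 1 := by
  have htP : ∀ p ∈ P, tr t k p = 1 := fun p hp => by
    refine (L.ker_pow E (L.base_mem E (Subgroup.le_normalizer (L.PR hp)))).mpr ⟨p⁻¹, inv_mem hp, ?_⟩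
    calc p⁻¹ * p⁻¹ = t * p * t * p⁻¹ := by rw [L.inv_t E hp]
      _ = t * (p * t * p⁻¹) := by group
  rcases em (r ∈ P) with h | h
  · exact htP r h
  · have e : r = t * (t * r) := by rw [← mul_assoc, E.inv.sq, one_mul]
    rw [e, L.tr_mul E (Subgroup.le_normalizer (L.tR E)) (Subgroup.le_normalizer (mul_mem (L.tR E) hr)),
      htP _ ((L.t_mul_iff E hr).mpr h), mul_one, mul_inv_cancel, mul_one,
      L.tr_cent E (Subgroup.mem_centralizer_singleton_iff.mpr rfl)]

/-- Trivial translation part means: in `R` times the centraliser. -/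
theorem tr_eq_one {g : G} (hg : g ∈ Subgroup.normalizer (R : Set G)) (h : tr t k g = 1) :
    ∃ y ∈ R, y * g ∈ Subgroup.centralizer ({t} : Set G) := by
  have hx := norm_conj hg (L.tR E)
  obtain ⟨y, hy, e⟩ := L.class_sq E hx ((L.K _ hx).mp (isConj_iff.mpr ⟨g, rfl⟩)) h
  refine ⟨y⁻¹, inv_mem hy, Subgroup.mem_centralizer_singleton_iff.mpr ?_⟩
  calc y⁻¹ * g * t = y⁻¹ * (g * t * g⁻¹) * g := by group
    _ = t * (y⁻¹ * g) := by rw [← e]; group

/-- In a 2-group normalising `R`, trivial translation part means membership in `R`. -/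
theorem mem_R {V : Subgroup G} (hV : IsPGroup 2 V) (hRV : R ≤ V) {g : G} (hgV : g ∈ V)
    (hg : g ∈ Subgroup.normalizer (R : Set G)) (h : tr t k g = 1) : g ∈ R := by
  obtain ⟨y, hy, hc⟩ := L.tr_eq_one E hg h
  have := L.TR (E.inv.mem_of_comm hV (L.TR.trans hRV) (mul_mem (hRV hy) hgV)
    (Subgroup.mem_centralizer_singleton_iff.mp hc))
  exact (Subgroup.mul_mem_cancel_left R hy).mp this

theorem act_conj {c : G} (hc : c ∈ Subgroup.centralizer ({t} : Set G)) (hN : c ∈ Subgroup.normalizer (R : Set G)) :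
    c ∈ Subgroup.normalizer (T : Set G) := by
  refine mem_norm fun x hx => E.inv.mem_of_comm L.p L.TR (norm_conj hN (L.TR hx)) ?_
  have h := Subgroup.mem_centralizer_singleton_iff.mp (mul_mem (mul_mem hc (E.inv.TC hx)) (inv_mem hc))
  exact h

omit L in
/-- Powers of an element acting like `c₀` act like powers of `c₀`. -/
theorem act_pow {c : G} (hc : ∀ u ∈ U, c * u * c⁻¹ = c₀ * u * c₀⁻¹) (i : ℕ) :
    ∀ u ∈ U, c ^ i * u * (c ^ i)⁻¹ = c₀ ^ i * u * (c₀ ^ i)⁻¹ := by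
  induction i with
  | zero => simp
  | succ i ih =>
    intro u hu
    have h2 := E.normU _ E.c₀C E.c₀N u hu
    calc c ^ (i + 1) * u * (c ^ (i + 1))⁻¹ = c ^ i * (c * u * c⁻¹) * (c ^ i)⁻¹ := by rw [pow_succ]; group
      _ = c₀ ^ i * (c₀ * u * c₀⁻¹) * (c₀ ^ i)⁻¹ := by rw [hc u hu, ih _ h2]
      _ = c₀ ^ (i + 1) * u * (c₀ ^ (i + 1))⁻¹ := by rw [pow_succ]; group

/-- Any translation at all gives all of them. -/
theorem tr_surj (V : Subgroup G) (hVR : V ≤ Subgroup.normalizer (R : Set G))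
    (hinv : ∀ c ∈ Subgroup.centralizer ({t} : Set G), c ∈ Subgroup.normalizer (R : Set G) →
      ∀ g ∈ V, c * g * c⁻¹ ∈ V)
    {g : G} (hg : g ∈ V) (hne : tr t k g ≠ 1) {u : G} (hu : u ∈ U) : ∃ g' ∈ V, tr t k g' = u := by
  rcases eq_or_ne u 1 with rfl | hu1
  · exact ⟨1, one_mem V, L.tr_cent E (one_mem _)⟩
  obtain ⟨c, hc, hcN, hca⟩ := L.act
  obtain ⟨i, hi⟩ := E.singer _ (L.tr_mem E (hVR hg)) u hu hne hu1
  have hciC := pow_mem hc i
  have hciN := pow_mem hcN i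
  refine ⟨_, hinv _ hciC hciN g hg, ?_⟩
  rw [L.tr_mul E (mul_mem hciN (hVR hg)) (inv_mem hciN), L.tr_mul E hciN (hVR hg),
    L.tr_cent E (inv_mem hciC), L.tr_cent E hciC, one_mul, mul_one, mul_inv_cancel, mul_one,
    act_pow E hca i _ (L.tr_mem E (hVR hg)), hi]

end Level

end CfsgLib.JT
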