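import Cfsg.Agent.Lib.JTType.Census
import Cfsg.Agent.Lib.JTType.PSLTwo
import Cfsg.Agent.Lib.JTType.Dihedral
import Cfsg.Agent.Lib.JTType.ElemMain

/-!
A simple group with an involution whose centraliser has the type `Z₂ × PSL₂(q)` modulo the core: the Sylow
2-subgroups are elementary of order eight.
-/

set_option autoImplicit false
set_option linter.unusedSectionVars false
set_option linter.style.haveILetI false

namespace CfsgLib.JT

open DihedralGroup

universe u

theorem two_mul_eq_zero {m : ℕ} [NeZero (2 * m)] {i : ZMod (2 * m)} (h : i + i = 0) :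
    i = 0 ∨ i = (m : ZMod (2 * m)) := by
  have hlt := i.val_lt
  have h1 : ((i.val + i.val : ℕ) : ZMod (2 * m)) = 0 := by
    rw [Nat.cast_add, ZMod.natCast_zmod_val, h]
  rw [ZMod.natCast_eq_zero_iff] at h1
  obtain ⟨c, hc⟩ := h1
  rcases (show c = 0 ∨ c = 1 by
    by_contra hne
    have : 2 * m * 2 ≤ 2 * m * c := Nat.mul_le_mul_left _ (by omega)
    omega) with rfl | rfl
  · refine .inl ?_
    rw [← ZMod.natCast_zmod_val i, show i.val = 0 by omega, Nat.cast_zero]
  · refine .inr ?_
    rw [← ZMod.natCast_zmod_val i, show i.val = m by omega]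

/-- Facts on the dihedral group of order `2 ^ (k + 3)`. -/
theorem dihedral_facts (k : ℕ) :
    let z : DihedralGroup (2 ^ (k + 2)) := r ((2 ^ (k + 1) : ℕ) : ZMod (2 ^ (k + 2)))
    z ≠ 1 ∧ z * z = 1 ∧ (∀ x, x * z = z * x) ∧ (∃ y, y * y = z) ∧
    (∀ y : DihedralGroup (2 ^ (k + 2)), (∀ x, y * x = x * y) → y = 1 ∨ y = z) ∧
    (Subgroup.closure {x : DihedralGroup (2 ^ (k + 2)) | x * x = 1} = ⊤) ∧
    Nat.card {x : DihedralGroup (2 ^ (k + 2)) // x * x = 1} % 4 = 2 ∧
    (∀ d : DihedralGroup (2 ^ (k + 2)), d * d = z → ∃ w, w * w = 1 ∧ w * d * w⁻¹ = d⁻¹) := by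
  classical
  intro z
  have hn : 2 ^ (k + 2) = 2 * 2 ^ (k + 1) := by rw [← pow_succ']
  haveI : NeZero (2 ^ (k + 2)) := ⟨pow_ne_zero _ two_ne_zero⟩
  set h : ZMod (2 ^ (k + 2)) := ((2 ^ (k + 1) : ℕ) : ZMod (2 ^ (k + 2))) with hh
  have hhh : h + h = 0 := by
    rw [hh, ← Nat.cast_add, ← two_mul, ← hn, ZMod.natCast_self]
  have hneg : -h = h := neg_eq_of_add_eq_zero_left hhh
  have hh0 : h ≠ 0 := fun e => by
    rw [hh, ZMod.natCast_eq_zero_iff] at e
    have := Nat.le_of_dvd (Nat.two_pow_pos _) e
    rw [hn] at this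
    have := Nat.two_pow_pos (k + 1)
    omega
  have hsol : ∀ i : ZMod (2 ^ (k + 2)), i + i = 0 → i = 0 ∨ i = h := by
    have key : ∀ n : ℕ, n = 2 * 2 ^ (k + 1) → ∀ i : ZMod n, i + i = 0 → i = 0 ∨ i = ((2 ^ (k + 1) : ℕ) : ZMod n) := by
      intro n e
      subst e
      haveI : NeZero (2 * 2 ^ (k + 1)) := ⟨(by positivity : 0 < 2 * 2 ^ (k + 1)).ne'⟩
      exact fun i hi => two_mul_eq_zero hi
    exact key _ hn
  have htwo : (1 : ZMod (2 ^ (k + 2))) + 1 ≠ 0 := fun e => by
    have h2 : ((2 : ℕ) : ZMod (2 ^ (k + 2))) = 0 := by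
      rw [Nat.cast_ofNat]
      exact one_add_one_eq_two.symm.trans e
    rw [ZMod.natCast_eq_zero_iff] at h2
    have := Nat.le_of_dvd two_pos h2
    have := Nat.pow_le_pow_right two_pos (show 2 ≤ k + 2 by omega)
    omega
  refine ⟨fun e => hh0 (r.inj (e.trans (one_def ..))), ?_, ?_, ⟨r ((2 ^ k : ℕ) : ZMod (2 ^ (k + 2))), ?_⟩, ?_, ?_, ?_, ?_⟩
  · show r h * r h = 1
    rw [r_mul_r, hhh]
    rfl
  · rintro (i | i)
    · show r i * r h = r h * r i
      rw [r_mul_r, r_mul_r]
      exact congrArg r (add_comm i h)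
    · show sr i * r h = r h * sr i
      rw [sr_mul_r, r_mul_sr, sub_eq_add_neg, hneg]
  · show r _ * r _ = r h
    rw [r_mul_r, hh, ← Nat.cast_add, ← two_mul, ← pow_succ']
  · rintro (i | i) hy
    · have h1 := hy (sr 0)
      rw [r_mul_sr, sr_mul_r, sr.injEq, zero_sub, zero_add] at h1
      rcases hsol i (by rw [← sub_neg_eq_add, h1, sub_self]) with rfl | rfl
      · exact .inl rfl
      · exact .inr rfl
    · exfalso
      have h1 := hy (r 1)
      rw [sr_mul_r, r_mul_sr, sr.injEq, sub_eq_add_neg, add_right_inj] at h1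
      exact htwo (by nth_rewrite 1 [h1]; rw [neg_add_cancel])
  · refine (Subgroup.eq_top_iff' _).mpr fun x => ?_
    have hsr : ∀ i, sr i ∈ Subgroup.closure {x : DihedralGroup (2 ^ (k + 2)) | x * x = 1} := fun i =>
      Subgroup.subset_closure (sr_mul_self i)
    rcases x with i | i
    · rw [show r i = sr 0 * sr i by rw [sr_mul_sr, sub_zero]]
      exact mul_mem (hsr 0) (hsr i)
    · exact hsr i
  · let f : ZMod (2 ^ (k + 2)) ⊕ Bool → {x : DihedralGroup (2 ^ (k + 2)) // x * x = 1} := fun a =>
      match a with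
      | .inl i => ⟨sr i, sr_mul_self i⟩
      | .inr false => ⟨1, one_mul 1⟩
      | .inr true => ⟨r h, by rw [r_mul_r, hhh]; rfl⟩
    have hf : Function.Bijective f := by
      constructor
      · rintro (i | _ | _) (j | _ | _) e <;> have e' := congrArg Subtype.val e
        · exact congrArg Sum.inl (sr.inj (show sr i = sr j from e'))
        · exact absurd (show sr i = r 0 from e') (fun h => by cases h)
        · exact absurd (show sr i = r h from e') (by simp)
        · exact absurd (show r 0 = sr j from e') (fun h => by cases h)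
        · rfl
        · exact absurd (r.inj (show r 0 = r h from e')).symm hh0
        · exact absurd (show r h = sr j from e') (by simp)
        · exact absurd (r.inj (show r h = r 0 from e')) hh0
        · rfl
      · rintro ⟨i | i, hx⟩
        · rw [r_mul_r, one_def, r.injEq] at hx
          rcases hsol i hx with rfl | rfl
          · exact ⟨.inr false, rfl⟩
          · exact ⟨.inr true, rfl⟩
        · exact ⟨.inl i, rfl⟩
    rw [← Nat.card_eq_of_bijective f hf, Nat.card_sum, Nat.card_zmod, Nat.card_eq_fintype_card, Fintype.card_bool,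
      pow_add]
    omega
  · rintro (i | i) hd
    · refine ⟨sr 0, sr_mul_self 0, ?_⟩
      rw [inv_sr, sr_mul_r, sr_mul_sr, inv_r, zero_add, zero_sub]
    · rw [sr_mul_self] at hd
      exact absurd (r.inj ((one_def ..).symm.trans hd)).symm hh0

variable {G : Type u} [Group G] [Finite G]

/-- Conjugation by `N(T) ∩ C(t)` on the census subgroup. -/
theorem census_inv {t : G} {T D : Subgroup G} {X : Type*} [Group X] [Finite X] (K : Census t T D X) :
    ∀ g ∈ Subgroup.normalizer (T : Set G) ⊓ Subgroup.centralizer ({t} : Set G), ∀ x ∈ D, g * x * g⁻¹ ∈ D :=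
  fun g hg x hx => K.normD g hg.2 x hx (norm_conj hg.1 (K.DT hx))

/-- The theorem. -/
theorem sylow_eight [IsSimpleGroup G] (hG : ¬ IsMulCommutative G) {F : Type*} [Field F] [Fintype F]
    (hF : 3 < Fintype.card F) (t : G) (ht : orderOf t = 2)
    (e : ↥(Subgroup.closure {x : (↥(Subgroup.centralizer ({t} : Set G)) ⧸
        Cfsg.oddCore ↥(Subgroup.centralizer ({t} : Set G))) | ∃ k : ℕ, orderOf x = 2 ^ k}) ≃*
      (Multiplicative (ZMod 2) × Matrix.ProjectiveSpecialLinearGroup (Fin 2) F))
    (S : Sylow 2 G) : Nat.card (S : Subgroup G) = 8 ∧ ∀ x ∈ (S : Subgroup G), x * x = 1 := by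
  classical
  haveI : Fact (Nat.Prime 2) := ⟨Nat.prime_two⟩
  haveI : IsSimpleGroup (Matrix.ProjectiveSpecialLinearGroup (Fin 2) F) :=
    Matrix.ProjectiveSpecialLinearGroup.rank_two_simple (by rw [Nat.card_eq_fintype_card]; omega)
  have hX : ¬ IsMulCommutative (Matrix.ProjectiveSpecialLinearGroup (Fin 2) F) := fun h => by
    obtain ⟨P⟩ : Nonempty (Sylow 2 (Matrix.ProjectiveSpecialLinearGroup (Fin 2) F)) := inferInstance
    haveI := h
    letI : CommGroup (Matrix.ProjectiveSpecialLinearGroup (Fin 2) F) :=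
      { (inferInstance : Group (Matrix.ProjectiveSpecialLinearGroup (Fin 2) F)) with
        mul_comm := fun a b => (IsMulCommutative.is_comm).comm a b }
    have hp : (Nat.card (Matrix.ProjectiveSpecialLinearGroup (Fin 2) F)).Prime := IsSimpleGroup.prime_card
    have h4 : 4 ≤ Nat.card (P : Subgroup (Matrix.ProjectiveSpecialLinearGroup (Fin 2) F)) := by
      rcases sylow_shape hF P with ⟨k, ⟨e'⟩⟩ | ⟨-, h, -⟩
      · rw [Nat.card_congr e'.toEquiv, DihedralGroup.nat_card]
        have := Nat.pow_le_pow_right two_pos (show 2 ≤ k + 2 by omega)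
        omega
      · exact h
    obtain ⟨n, hn⟩ := P.2.exists_card_eq
    have hd := (P : Subgroup (Matrix.ProjectiveSpecialLinearGroup (Fin 2) F)).card_subgroup_dvd_card
    rcases hp.eq_one_or_self_of_dvd _ hd with h1 | h1
    · omega
    · rw [← h1, hn] at hp
      rw [hn] at h4
      have hn2 : 2 ≤ n := by
        by_contra h
        have := Nat.pow_le_pow_right two_pos (show n ≤ 1 by omega)
        omega
      have := Nat.Prime.eq_one_of_pow hp
      omega
  obtain ⟨T, D, ⟨K⟩⟩ := exists_census hX t ht e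
  obtain ⟨S₀, hS₀⟩ := K.inv.p.exists_le_sylow
  suffices h : Nat.card (S₀ : Subgroup G) = 8 ∧ ∀ x ∈ (S₀ : Subgroup G), x * x = 1 by
    refine ⟨(Nat.card_congr (Sylow.equiv S S₀).toEquiv).trans h.1, fun x hx => ?_⟩
    obtain ⟨g, hg⟩ := MulAction.exists_smul_eq G S₀ S
    rw [← hg] at hx
    obtain ⟨y, hy, rfl⟩ := hx
    exact (map_mul _ y y).symm.trans ((congrArg _ (h.2 y hy)).trans (map_one _))
  obtain ⟨P, hP⟩ := K.sylow
  let σD : D →* (P : Subgroup (Matrix.ProjectiveSpecialLinearGroup (Fin 2) F)) :=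
    (K.σ.comp (Subgroup.inclusion (K.DT.trans K.TC₂))).codRestrict _ fun x => (hP _).mpr ⟨_, x.2, rfl⟩
  have hσD : Function.Bijective σD := by
    refine ⟨(injective_iff_map_eq_one σD).mpr fun x hx => Subtype.ext (K.σinj _ x.2 (congrArg Subtype.val hx)),
      fun p => ?_⟩
    obtain ⟨x, hx, hxp⟩ := (hP p.1).mp p.2
    exact ⟨⟨x, hx⟩, Subtype.ext hxp⟩
  let eP : D ≃* (P : Subgroup (Matrix.ProjectiveSpecialLinearGroup (Fin 2) F)) := MulEquiv.ofBijective σD hσD
  have hfusD : ∀ u ∈ D, ∀ v ∈ D, u ≠ 1 → v ≠ 1 → u * u = 1 → v * v = 1 →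
      ∃ c : K.C₂, (c : G) * u * (c : G)⁻¹ = v := by
    intro u hu v hv hu1 hv1 hu2 hv2
    refine K.fus ⟨u, K.TC₂ (K.DT hu)⟩ ⟨v, K.TC₂ (K.DT hv)⟩ hu hv hu2 hv2
      (invol_conj ?_ (fun h => hu1 (K.σinj _ hu h)) ?_ (fun h => hv1 (K.σinj _ hv h)))
    · rw [← map_mul]; exact (congrArg K.σ (Subtype.ext hu2)).trans (map_one _)
    · rw [← map_mul]; exact (congrArg K.σ (Subtype.ext hv2)).trans (map_one _)
  rcases sylow_shape hF P with ⟨k, ⟨eD⟩⟩ | ⟨hsq, h4, hor⟩
  · -- dihedral
    exfalso
    let f : D ≃* DihedralGroup (2 ^ (k + 2)) := eP.trans eD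
    obtain ⟨hz1, hzz, hzc, ⟨y₀, hy₀⟩, hcen, hgen, hcount, hrefl⟩ := dihedral_facts k
    set zd : DihedralGroup (2 ^ (k + 2)) := r ((2 ^ (k + 1) : ℕ) : ZMod (2 ^ (k + 2))) with hzd
    set z : D := f.symm zd with hz
    have hfz : f z = zd := f.apply_symm_apply zd
    have hTcases : ∀ y ∈ T, y ∈ D ∨ t * y ∈ D := fun y hy => by
      by_contra hc
      push Not at hc
      have h := mem_iff_not_mul K.idx hy K.inv.tT K.tD
      rw [K.inv.comm hy] at h
      exact hc.1 (h.mpr hc.2)
    have hcenter : ∀ x ∈ T, (∀ y ∈ T, x * y = y * x) → x = 1 ∨ x = t ∨ x = (z : G) ∨ x = t * (z : G) := by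
      intro x hx hc
      rcases hTcases x hx with hd | hd
      · rcases hcen (f ⟨x, hd⟩) (fun w => by
          obtain ⟨v, rfl⟩ := f.surjective w
          rw [← map_mul, ← map_mul, show (⟨x, hd⟩ : D) * v = v * ⟨x, hd⟩ from Subtype.ext (hc v (K.DT v.2))]) with e | e
        · exact .inl (congrArg Subtype.val (f.map_eq_one_iff.mp e))
        · exact .inr (.inr (.inl (congrArg Subtype.val (f.injective (e.trans hfz.symm)))))
      · have hx' : x = t * (t * x) := by rw [← mul_assoc, K.inv.sq, one_mul]
        rcases hcen (f ⟨t * x, hd⟩) (fun w => by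
          obtain ⟨v, rfl⟩ := f.surjective w
          rw [← map_mul, ← map_mul, show (⟨t * x, hd⟩ : D) * v = v * ⟨t * x, hd⟩ from Subtype.ext (by
            show t * x * (v : G) = v * (t * x)
            calc t * x * (v : G) = t * (x * v) := mul_assoc _ _ _
              _ = t * (v * x) := by rw [hc v (K.DT v.2)]
              _ = v * (t * x) := by rw [← mul_assoc, ← K.inv.comm (K.DT v.2), mul_assoc])]) with e | e
        · refine .inr (.inl ?_)
          exact hx'.trans (by rw [show t * x = 1 from congrArg Subtype.val (f.map_eq_one_iff.mp e), mul_one])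
        · refine .inr (.inr (.inr ?_))
          exact hx'.trans (congrArg (t * ·) (congrArg Subtype.val (f.injective (e.trans hfz.symm))))
    have hzG : (z : G) ≠ 1 := fun e => hz1 (by rw [← hfz, Subtype.ext (e.trans (Subgroup.coe_one D).symm), map_one])
    have hzc' : ∀ x ∈ D, x * (z : G) = (z : G) * x := fun x hx => by
      have h1 : f (⟨x, hx⟩ * z) = f (z * ⟨x, hx⟩) := by rw [map_mul, map_mul, hfz, hzc]
      exact congrArg Subtype.val (f.injective h1)
    have hzchar : ∀ g ∈ Subgroup.normalizer (T : Set G), g * (z : G) * g⁻¹ = z := by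
      intro g hg
      set w := f.symm y₀ with hw
      have hwz : (w : G) * w = z := congrArg Subtype.val (f.injective
        (show f (w * w) = f z by rw [map_mul, f.apply_symm_apply, hy₀, hfz]))
      set y := g * (w : G) * g⁻¹ with hy
      have hyT : y ∈ T := norm_conj hg (K.DT w.2)
      have e1 : g * (z : G) * g⁻¹ = y * y := by rw [← hwz, hy]; group
      have hd2 : y * y ∈ D := by
        rcases hTcases y hyT with h | h
        · exact mul_mem h h
        · have h2 := mul_mem h h
          rwa [show t * y * (t * y) = y * y from by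
            calc t * y * (t * y) = t * (y * t) * y := by group
              _ = t * t * (y * y) := by rw [K.inv.comm hyT]; group
              _ = y * y := by rw [K.inv.sq, one_mul]] at h2
      rcases hcenter _ (e1 ▸ K.DT hd2) (fun v hv => by
        have hv' : g⁻¹ * v * g ∈ T := by
          have := norm_conj (inv_mem hg) hv
          rwa [inv_inv] at this
        have hzv : (z : G) * (g⁻¹ * v * g) = g⁻¹ * v * g * z := by
          rcases hTcases _ hv' with h | h
          · exact (hzc' _ h).symm
          · have h' := hzc' _ h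
            refine mul_left_cancel (a := t) ?_
            rw [← mul_assoc, ← mul_assoc t (g⁻¹ * v * g), h', ← K.inv.comm (K.DT z.2), mul_assoc]
        calc g * (z : G) * g⁻¹ * v = g * ((z : G) * (g⁻¹ * v * g)) * g⁻¹ := by group
          _ = v * (g * (z : G) * g⁻¹) := by rw [hzv]; group) with h | h | h | h
      · exact absurd (conj_eq_one_iff.mp h) hzG
      · exact absurd (h ▸ e1 ▸ hd2) K.tD
      · exact h
      · exfalso
        refine K.tD ((Subgroup.mul_mem_cancel_right D z.2).mp ?_)
        rw [← h, e1]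
        exact hd2
    have P' : Dih t T D (z : G) :=
      { inv := K.inv
        DT := K.DT
        idx := K.idx
        tD := K.tD
        zD := z.2
        z1 := hzG
        zz := congrArg Subtype.val (f.injective (show f (z * z) = f 1 by rw [map_mul, hfz, hzz, map_one]))
        zc := hzc'
        zchar := hzchar
        center := hcenter
        fus := fun u hu hu1 hu2 => by
          obtain ⟨c, hc⟩ := hfusD _ z.2 u hu hzG hu1
            (congrArg Subtype.val (f.injective (show f (z * z) = f 1 by rw [map_mul, hfz, hzz, map_one]))) hu2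
          exact ⟨c, K.C₂C c.2, hc⟩
        gen := fun x hx => by
          have h1 : (⟨x, hx⟩ : D) ∈ (Subgroup.closure {w : DihedralGroup (2 ^ (k + 2)) | w * w = 1}).map
              f.symm.toMonoidHom := by
            rw [hgen]
            exact ⟨f ⟨x, hx⟩, Subgroup.mem_top _, f.symm_apply_apply _⟩
          have h2 := Subgroup.mem_map_of_mem D.subtype h1
          rw [MonoidHom.map_closure, MonoidHom.map_closure] at h2
          refine Subgroup.closure_mono ?_ h2
          rintro _ ⟨_, ⟨w, hw, rfl⟩, rfl⟩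
          refine ⟨(f.symm w).2, ?_⟩
          have : f.symm w * f.symm w = 1 := by
            rw [← map_mul, show w * w = 1 from hw, map_one]
          exact congrArg Subtype.val this
        count := by
          refine (congrArg (· % 4) ?_).trans hcount
          exact Nat.card_congr
            { toFun := fun x => ⟨f ⟨x.1, x.2.1⟩, by
                rw [← map_mul, show (⟨x.1, x.2.1⟩ : D) * ⟨x.1, x.2.1⟩ = 1 from Subtype.ext x.2.2, map_one]⟩
              invFun := fun w => ⟨(f.symm w.1 : G), (f.symm w.1).2, by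
                rw [← Subgroup.coe_mul, ← map_mul, w.2, map_one]; rfl⟩
              left_inv := fun x => Subtype.ext (show (f.symm (f ⟨x.1, x.2.1⟩) : G) = x.1 by rw [f.symm_apply_apply])
              right_inv := fun w => Subtype.ext (f.apply_symm_apply w.1) }
        refl := fun d hd hdz => by
          obtain ⟨w, hw1, hw2⟩ := hrefl (f ⟨d, hd⟩) (by
            rw [← map_mul, show (⟨d, hd⟩ : D) * ⟨d, hd⟩ = z from Subtype.ext hdz, hfz])
          refine ⟨f.symm w, (f.symm w).2, ?_, ?_⟩
          · rw [← Subgroup.coe_mul, ← map_mul, hw1, map_one]; rfl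
          · have h1 : f (f.symm w * ⟨d, hd⟩ * (f.symm w)⁻¹) = f ⟨d, hd⟩⁻¹ := by
              rw [map_mul, map_mul, map_inv, map_inv, f.apply_symm_apply, hw2]
            exact congrArg Subtype.val (f.injective h1) }
    exact P'.false hG S₀ hS₀
  · -- elementary
    have hTexp : ∀ x ∈ T, x * x = 1 := by
      have hD : ∀ x ∈ D, x * x = 1 := fun x hx => congrArg Subtype.val (eP.injective
        (show eP (⟨x, hx⟩ * ⟨x, hx⟩) = eP 1 by
          rw [map_mul, map_one]
          exact Subtype.ext (hsq _ (eP ⟨x, hx⟩).2)))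
      intro x hx
      rcases em (x ∈ D) with h | h
      · exact hD x h
      · have h' := mem_iff_not_mul K.idx hx K.inv.tT K.tD
        rw [K.inv.comm hx] at h'
        have h2 := hD _ (not_not.mp ((not_congr h').mp h))
        rwa [show t * x * (t * x) = x * x from by
          calc t * x * (t * x) = t * (x * t) * x := by group
            _ = t * t * (x * x) := by rw [K.inv.comm hx]; group
            _ = x * x := by rw [K.inv.sq, one_mul]] at h2
    have hD4 : Nat.card D = Nat.card (P : Subgroup (Matrix.ProjectiveSpecialLinearGroup (Fin 2) F)) :=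
      Nat.card_congr eP.toEquiv
    set N := Subgroup.normalizer (T : Set G) ⊓ Subgroup.centralizer ({t} : Set G) with hN
    let φ : N →* MulAut D := conjOn D N (census_inv K)
    set H := (K.C₂.subgroupOf N).map φ with hH
    have hcommT : ∀ x ∈ T, ∀ y ∈ T, x * y = y * x := fun x hx y hy => by
      calc x * y = (x * y)⁻¹ := (inv_eq_of_mul_eq_one_right (hTexp _ (mul_mem hx hy))).symm
        _ = y * x := by
          rw [mul_inv_rev, inv_eq_of_mul_eq_one_right (hTexp x hx), inv_eq_of_mul_eq_one_right (hTexp y hy)]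
    haveI hHc : IsCyclic H := by
      rcases hor with h4' | hchar
      · have hodd : Odd (Nat.card H) := by
          have hle : T ≤ K.C₂ ⊓ N := le_inf K.TC₂ (le_inf Subgroup.le_normalizer K.inv.TC)
          let φ' : (K.C₂.subgroupOf N) →* MulAut D := φ.comp (K.C₂.subgroupOf N).subtype
          have hker : (T.subgroupOf N).subgroupOf (K.C₂.subgroupOf N) ≤ φ'.ker := fun x hx =>
            MonoidHom.mem_ker.mpr ((conjOn_eq_one (census_inv K) _).mpr fun d hd => hcommT _ hx d (K.DT hd))
          have hrange : φ'.range = H := by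
            rw [MonoidHom.range_comp, Subgroup.range_subtype]
          rw [← hrange, ← Subgroup.index_ker]
          refine Odd.of_dvd_nat ?_ (Subgroup.index_dvd_of_le hker)
          show Odd ((T.subgroupOf N).relIndex (K.C₂.subgroupOf N))
          rw [← Subgroup.inf_subgroupOf_right K.C₂ N, Subgroup.relIndex_subgroupOf inf_le_right]
          exact K.inv.sylow.of_dvd_nat ⟨(K.C₂ ⊓ N).relIndex (Subgroup.centralizer ({t} : Set G)),
            (Subgroup.relIndex_mul_relIndex _ _ _ hle (inf_le_left.trans K.C₂C)).symm⟩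
        haveI : IsKleinFour D := by
          haveI : Nontrivial D := Finite.one_lt_card_iff_nontrivial.mp (by omega)
          refine ⟨by omega, ?_⟩
          exact (Monoid.exponent_eq_prime_iff Nat.prime_two).mpr fun g hg =>
            orderOf_eq_prime (by rw [pow_two]; exact Subtype.ext (hTexp g (K.DT g.2))) hg
        have h6 : Nat.card (MulAut D) ≤ 6 := DihedralFusion.card_mulAut_klein_le
        have hle := (Subgroup.card_le_card_group H).trans h6
        obtain ⟨l, hl⟩ := hodd
        rcases (show Nat.card H = 1 ∨ Nat.card H = 3 ∨ Nat.card H = 5 by omega) with h | h | h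
        · haveI : Subsingleton H := (Nat.card_eq_one_iff_unique.mp h).1
          infer_instance
        · exact isCyclic_of_prime_card (hp := ⟨Nat.prime_three⟩) h
        · exact isCyclic_of_prime_card (hp := ⟨by norm_num⟩) h
      · obtain ⟨coord, hinj, h0, hscal⟩ := even_scalar P
        let cd : D → F := fun x => coord (eP x)
        have hcd : Function.Injective cd := hinj.comp eP.injective
        obtain ⟨u₁, hu₁⟩ : ∃ u : D, u ≠ 1 := by
          haveI : Nontrivial D := Finite.one_lt_card_iff_nontrivial.mp (by omega)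
          exact exists_ne 1
        have hu₁0 : cd u₁ ≠ 0 := fun e => hu₁ (hcd (e.trans (by simp only [cd, map_one, h0])))
        have hlin : ∀ x : H, ∃ l : F, ∀ u : D, cd ((x : MulAut D) u) = l * cd u := by
          rintro ⟨_, n, hn, rfl⟩
          obtain ⟨l, hl⟩ := hscal (K.σ ⟨(n : G), hn⟩) fun p hp => by
            obtain ⟨w, hw, rfl⟩ := (hP p).mp hp
            rw [← map_inv, ← map_mul, ← map_mul]
            exact (hP _).mpr ⟨_, census_inv K n n.2 w hw, rfl⟩
          exact ⟨l, fun u => hl (eP u) (eP (φ n u)) (by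
            show K.σ ⟨(n : G), hn⟩ * K.σ _ * (K.σ ⟨(n : G), hn⟩)⁻¹ = K.σ _
            rw [← map_inv, ← map_mul, ← map_mul]
            rfl)⟩
        choose l hl using hlin
        have huniq : ∀ (x : H) (c : F), cd ((x : MulAut D) u₁) = c * cd u₁ → l x = c := fun x c h =>
          mul_right_cancel₀ hu₁0 ((hl x u₁).symm.trans h)
        let ρ : H →* F :=
          { toFun := l
            map_one' := huniq 1 1 (by rw [one_mul]; rfl)
            map_mul' := fun x y => huniq _ _ (by
              show cd ((x : MulAut D) ((y : MulAut D) u₁)) = _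
              rw [hl, hl, mul_assoc]) }
        exact isCyclic_of_subgroup_isDomain ρ fun x y h => Subtype.ext (MulEquiv.ext fun u => hcd (by
          rw [hl, hl, show l x = l y from h]))
    obtain ⟨h₀, hgenH⟩ := IsCyclic.exists_generator (α := H)
    obtain ⟨n₀, hn₀, hn₀h⟩ : (h₀ : MulAut D) ∈ H := h₀.2
    have hHpow : ∀ n : N, (n : G) ∈ K.C₂ → ∃ i : ℕ, φ (n₀ ^ i) = φ n := by
      intro n hn
      obtain ⟨i, hi⟩ := (mem_powers_iff_mem_zpowers (x := h₀)).mpr (hgenH ⟨φ n, n, hn, rfl⟩)
      refine ⟨i, ?_⟩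
      rw [map_pow, hn₀h]
      exact congrArg Subtype.val hi
    have hφ : ∀ (n n' : N), φ n = φ n' → ∀ u ∈ D, (n : G) * u * (n : G)⁻¹ = (n' : G) * u * (n' : G)⁻¹ :=
      fun n n' h u hu => congrArg (fun f : MulAut D => ((f ⟨u, hu⟩ : D) : G)) h
    have E : Elem t T D (n₀ : G) :=
      { inv := K.inv
        UT := K.DT
        idx := K.idx
        tU := K.tD
        exp := hTexp
        four := hD4 ▸ h4
        normU := fun c hc hcT u hu => census_inv K c ⟨hcT, hc⟩ u hu
        c₀C := n₀.2.2
        c₀N := n₀.2.1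
        singer := fun u hu v hv hu1 hv1 => by
          obtain ⟨c, hc⟩ := hfusD u hu v hv hu1 hv1 (hTexp u (K.DT hu)) (hTexp v (K.DT hv))
          -- Burnside in `C₂`
          have hpT : IsPGroup 2 (T.subgroupOf K.C₂) :=
            K.inv.p.comap_of_injective K.C₂.subtype K.C₂.subtype_injective
          have hndvd : ¬ 2 ∣ (T.subgroupOf K.C₂).index := by
            have : Odd (T.relIndex K.C₂) := K.inv.sylow.of_dvd_nat ⟨_, (Subgroup.relIndex_mul_relIndex _ _ _ K.TC₂
              K.C₂C).symm⟩
            exact Nat.two_dvd_ne_zero.mpr (Nat.odd_iff.mp this)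
          haveI : IsMulCommutative (hpT.toSylow hndvd : Subgroup K.C₂) :=
            ⟨⟨fun a b => Subtype.ext (Subtype.ext (hcommT _ a.2 _ b.2))⟩⟩
          obtain ⟨n, hn, hnc⟩ := (hpT.toSylow hndvd).conj_eq_normalizer_conj_of_mem
            (⟨u, K.TC₂ (K.DT hu)⟩ : K.C₂) c⁻¹ (K.DT hu) (by
              show (((c : G)⁻¹)⁻¹ * u * (c : G)⁻¹) ∈ T
              rw [inv_inv, hc]
              exact K.DT hv)
          have hnN : ((n : K.C₂) : G)⁻¹ ∈ N := by
            refine ⟨Subgroup.inv_mem _ (mem_norm fun x hx => ?_), K.C₂C (Subgroup.inv_mem _ (n : K.C₂).2)⟩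
            exact Subgroup.mem_subgroupOf.mp ((Subgroup.mem_normalizer_iff.mp hn ⟨x, K.TC₂ hx⟩).mp hx)
          obtain ⟨i, hi⟩ := hHpow ⟨_, hnN⟩ (inv_mem n.2)
          refine ⟨i, ?_⟩
          have h1 := hφ _ _ hi u hu
          rw [SubmonoidClass.coe_pow] at h1
          rw [h1]
          have h2 : ((c : G)⁻¹)⁻¹ * u * (c : G)⁻¹ = ((n : K.C₂) : G)⁻¹ * u * (n : K.C₂) :=
            congrArg (fun w : K.C₂ => (w : G)) hnc
          rw [inv_inv, hc] at h2
          rw [h2, inv_inv]
        norm := fun c hc hcT => by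
          obtain ⟨i, hi⟩ := hHpow (⟨c, hcT, hc⟩ * n₀ * ⟨c, hcT, hc⟩⁻¹) (K.C₂n c hc _ hn₀)
          refine ⟨i, fun u hu => ?_⟩
          have h1 := hφ _ _ hi u hu
          rw [SubmonoidClass.coe_pow] at h1
          exact h1.symm }
    exact E.concl hG S₀ hS₀

end CfsgLib.JT
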