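import Cfsg.Agent.Lib.JTType.Sign

/-!
An involution `t` with a Sylow 2-subgroup `T` of its centraliser.

* `Inv`: the data;
* `Inv.le_eq`: a 2-group of the centraliser containing `T` is `T`;
* `Inv.exists_conj`, `Inv.conj_card_le`: 2-subgroups centralising a conjugate of `t`;
* `exists_norm`: normalisers grow in 2-groups.
-/

set_option autoImplicit false
set_option linter.unusedSectionVars false

namespace CfsgLib.JT

variable {G : Type*} [Group G]

/-- Membership in the normaliser of a finite subgroup needs one inclusion. -/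
theorem mem_norm [Finite G] {T : Subgroup G} {g : G} (h : ∀ x ∈ T, g * x * g⁻¹ ∈ T) :
    g ∈ Subgroup.normalizer (T : Set G) := by
  rw [Subgroup.mem_normalizer_iff]
  refine fun x => ⟨h x, fun hx => ?_⟩
  have hb : Function.Bijective fun y : T => (⟨g * y * g⁻¹, h y y.2⟩ : T) :=
    Finite.injective_iff_bijective.mp fun a b e => by
      have h1 : g * (a : G) * g⁻¹ = g * (b : G) * g⁻¹ := congrArg Subtype.val e
      exact Subtype.ext (mul_left_cancel (mul_right_cancel h1))
  obtain ⟨y, hy⟩ := hb.2 ⟨_, hx⟩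
  have h1 : g * (y : G) * g⁻¹ = g * x * g⁻¹ := congrArg Subtype.val hy
  rw [← mul_left_cancel (mul_right_cancel h1)]
  exact y.2

theorem norm_conj {T : Subgroup G} {g : G} (hg : g ∈ Subgroup.normalizer (T : Set G)) {x : G} (hx : x ∈ T) :
    g * x * g⁻¹ ∈ T := (Subgroup.mem_normalizer_iff.mp hg x).mp hx

/-- The conjugate of a subgroup. -/
def cj (g : G) (V : Subgroup G) : Subgroup G := V.map (MulAut.conj g).toMonoidHom

theorem mem_cj {g : G} {V : Subgroup G} {x : G} (hx : x ∈ V) : g * x * g⁻¹ ∈ cj g V := ⟨x, hx, rfl⟩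

theorem card_cj (g : G) (V : Subgroup G) : Nat.card (cj g V) = Nat.card V :=
  Subgroup.card_map_of_injective (MulEquiv.injective _)

theorem isPGroup_cj {p : ℕ} (g : G) {V : Subgroup G} (h : IsPGroup p V) : IsPGroup p (cj g V) := h.map _

/-- Normalisers grow in 2-groups. -/
theorem exists_norm [Finite G] {T S : Subgroup G} (hS : IsPGroup 2 S) (hTS : T ≤ S) (hne : T ≠ S) :
    ∃ g ∈ S, g ∉ T ∧ g ∈ Subgroup.normalizer (T : Set G) := by
  haveI : Fact (Nat.Prime 2) := ⟨Nat.prime_two⟩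
  haveI := hS.isNilpotent
  have hlt : T.subgroupOf S < ⊤ :=
    lt_top_iff_ne_top.mpr fun e => hne (le_antisymm hTS (Subgroup.subgroupOf_eq_top.mp e))
  obtain ⟨g, hg, hg'⟩ := SetLike.exists_of_lt (Group.normalizerCondition_of_isNilpotent _ hlt)
  exact ⟨g, g.2, hg', mem_norm fun x hx =>
    (Subgroup.mem_normalizer_iff.mp hg ⟨x, hTS hx⟩).mp hx⟩

/-- A subgroup of index two contains exactly one of two elements differing by an outside element. -/
theorem mem_iff_not_mul {H S : Subgroup G} (hidx : H.relIndex S = 2) {x y : G} (hx : x ∈ S) (hy : y ∈ S)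
    (hyH : y ∉ H) : x ∈ H ↔ x * y ∉ H := by
  obtain ⟨a, ha⟩ := Subgroup.index_eq_two_iff.mp (show (H.subgroupOf S).index = 2 from hidx)
  have h1 := fun b : S => Subgroup.mul_mem_iff_of_index_two (show (H.subgroupOf S).index = 2 from hidx) (a := ⟨x, hx⟩)
    (b := b)
  have h2 := h1 ⟨y, hy⟩
  simp only [Subgroup.mem_subgroupOf, Subgroup.coe_mul] at h2
  tauto

/-- An involution with a Sylow 2-subgroup of its centraliser. -/
structure Inv (t : G) (T : Subgroup G) : Prop where
  ne : t ≠ 1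
  sq : t * t = 1
  tT : t ∈ T
  TC : T ≤ Subgroup.centralizer ({t} : Set G)
  p : IsPGroup 2 T
  sylow : Odd (T.relIndex (Subgroup.centralizer ({t} : Set G)))

namespace Inv

variable [Finite G] {t : G} {T : Subgroup G} (I : Inv t T)
include I

theorem comm {x : G} (hx : x ∈ T) : x * t = t * x := Subgroup.mem_centralizer_singleton_iff.mp (I.TC hx)

/-- A 2-subgroup of the centraliser of `t` goes into `T`. -/
theorem exists_conj {V : Subgroup G} (hV : IsPGroup 2 V) (hVC : V ≤ Subgroup.centralizer ({t} : Set G)) :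
    ∃ c ∈ Subgroup.centralizer ({t} : Set G), ∀ x ∈ V, c * x * c⁻¹ ∈ T := by
  haveI : Fact (Nat.Prime 2) := ⟨Nat.prime_two⟩
  set C := Subgroup.centralizer ({t} : Set G)
  have hT : IsPGroup 2 (T.subgroupOf C) := I.p.comap_of_injective C.subtype C.subtype_injective
  have hndvd : ¬ 2 ∣ (T.subgroupOf C).index := Nat.two_dvd_ne_zero.mpr (Nat.odd_iff.mp I.sylow)
  obtain ⟨Q, hQ⟩ := (hV.comap_of_injective C.subtype C.subtype_injective).exists_le_sylow
  obtain ⟨c, hc⟩ := MulAction.exists_smul_eq C Q (hT.toSylow hndvd)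
  refine ⟨c, c.2, fun x hx => ?_⟩
  have h1 : c * ⟨x, hVC hx⟩ * c⁻¹ ∈ ((hT.toSylow hndvd : Sylow 2 C) : Subgroup C) := by
    rw [← hc]
    exact ⟨⟨x, hVC hx⟩, hQ hx, rfl⟩
  exact h1

theorem card_le {V : Subgroup G} (hV : IsPGroup 2 V) (hVC : V ≤ Subgroup.centralizer ({t} : Set G)) :
    Nat.card V ≤ Nat.card T := by
  obtain ⟨c, -, hc⟩ := I.exists_conj hV hVC
  rw [← card_cj c V]
  exact Subgroup.card_le_of_le (by rintro _ ⟨x, hx, rfl⟩; exact hc x hx)

/-- A 2-group of the centraliser containing `T` is `T`. -/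
theorem le_eq {V : Subgroup G} (hV : IsPGroup 2 V) (hVC : V ≤ Subgroup.centralizer ({t} : Set G)) (hT : T ≤ V) :
    V = T :=
  (Subgroup.eq_of_le_of_card_ge hT (I.card_le hV hVC)).symm

/-- A 2-element of a 2-group containing `T` that centralises `t` is in `T`. -/
theorem mem_of_comm {S : Subgroup G} (hS : IsPGroup 2 S) (hT : T ≤ S) {x : G} (hx : x ∈ S) (hc : x * t = t * x) :
    x ∈ T := by
  have h := I.le_eq (V := S ⊓ Subgroup.centralizer ({t} : Set G)) (hS.to_le inf_le_left) inf_le_right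
    (le_inf hT I.TC)
  exact h ▸ Subgroup.mem_inf.mpr ⟨hx, Subgroup.mem_centralizer_singleton_iff.mpr hc⟩

/-- A 2-group centralising a conjugate of `t` has order at most `|T|`. -/
theorem conj_card_le {V : Subgroup G} (hV : IsPGroup 2 V) {k : G} (hk : IsConj t k)
    (hVk : ∀ x ∈ V, x * k = k * x) : Nat.card V ≤ Nat.card T := by
  obtain ⟨g, rfl⟩ := isConj_iff.mp hk
  rw [← card_cj g⁻¹ V]
  refine I.card_le (isPGroup_cj g⁻¹ hV) ?_
  rintro _ ⟨x, hx, rfl⟩
  rw [Subgroup.mem_centralizer_singleton_iff]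
  show g⁻¹ * x * g⁻¹⁻¹ * t = t * (g⁻¹ * x * g⁻¹⁻¹)
  calc g⁻¹ * x * g⁻¹⁻¹ * t = g⁻¹ * (x * (g * t * g⁻¹)) * g := by group
    _ = g⁻¹ * ((g * t * g⁻¹) * x) * g := by rw [hVk x hx]
    _ = t * (g⁻¹ * x * g⁻¹⁻¹) := by group

/-- The centraliser of `t` has 2-part the order of `T`. -/
theorem card_cent : ∃ o, Odd o ∧ Nat.card (Subgroup.centralizer ({t} : Set G)) = Nat.card T * o :=
  ⟨_, I.sylow, by rw [← Subgroup.relIndex_bot_left, ← Subgroup.relIndex_bot_left,
    Subgroup.relIndex_mul_relIndex _ _ _ bot_le I.TC]⟩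

end Inv

/-- The index of a subgroup inside a Sylow 2-subgroup. -/
theorem index_two_part [Finite G] (S : Sylow 2 G) {Y : Subgroup G} {a : ℕ} (hY : Y ≤ (S : Subgroup G))
    (ha : a * Nat.card Y = Nat.card (S : Subgroup G)) : ∃ o, Odd o ∧ Y.index = a * o := by
  haveI : Fact (Nat.Prime 2) := ⟨Nat.prime_two⟩
  refine ⟨(S : Subgroup G).index, ?_, ?_⟩
  · rw [← Nat.not_even_iff_odd, even_iff_two_dvd]
    exact S.not_dvd_index
  · refine Nat.eq_of_mul_eq_mul_left (Nat.card_pos (α := Y)) ?_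
    rw [Subgroup.card_mul_index, ← mul_assoc, mul_comm (Nat.card Y) a, ha, Subgroup.card_mul_index]

end CfsgLib.JT
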