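import Cfsg.Agent.Lib.Basic
import Mathlib

/-!
Signs and transfers at an involution of a non-abelian simple group.

* `kcount t Y`: the number of conjugates of `t` in `Y`;
* `card_fixed`: the fixed cosets of `Y` under `t`;
* `parity_false`: no involution acts oddly on the cosets of a subgroup;
* `thompson_false`: Thompson's transfer lemma;
* `transfer_const`: the transfer of an involution whose conjugates in a Sylow 2-subgroup have one image.
-/

set_option autoImplicit false
set_option linter.unusedSectionVars false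

namespace CfsgLib.JT

variable {G : Type*} [Group G] [Finite G]

/-- The number of conjugates of `t` in `Y`. -/
noncomputable def kcount (t : G) (Y : Subgroup G) : ℕ := Nat.card {y : G // y ∈ Y ∧ IsConj t y}

/-- The fixed cosets, counted through the conjugates in the subgroup. -/
theorem card_fixed (Y : Subgroup G) (t : G) :
    Nat.card (Function.fixedPoints (fun c : G ⧸ Y => t • c)) * Nat.card Y =
      kcount t Y * Nat.card (Subgroup.centralizer ({t} : Set G)) := by
  classical
  set E := {g : G // g⁻¹ * t * g ∈ Y}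
  have h1 : Nat.card E = Nat.card (Function.fixedPoints (fun c : G ⧸ Y => t • c)) * Nat.card Y := by
    rw [mul_comm, ← Nat.card_prod]
    refine Nat.card_congr ((Equiv.subtypeEquivRight fun g => ?_).trans
      (QuotientGroup.preimageMkEquivSubgroupProdSet Y (Function.fixedPoints fun c : G ⧸ Y => t • c)))
    show _ ↔ t • (g : G ⧸ Y) = g
    rw [MulAction.Quotient.smul_coe, smul_eq_mul, eq_comm, QuotientGroup.eq, mul_assoc]
  let f : E → {y : G // y ∈ Y ∧ IsConj t y} := fun g =>
    ⟨(g : G)⁻¹ * t * g, g.2, isConj_iff.mpr ⟨(g : G)⁻¹, by rw [inv_inv]⟩⟩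
  have h2 : ∀ y, Nonempty ({g : E // f g = y} ≃ Subgroup.centralizer ({t} : Set G)) := by
    rintro ⟨y, hy, hc⟩
    obtain ⟨c, hc⟩ := isConj_iff.mp hc
    refine ⟨{ toFun := fun g => ⟨(g.1 : G) * c, ?_⟩
              invFun := fun u => ⟨⟨(u : G) * c⁻¹, ?_⟩, ?_⟩
              left_inv := fun g => Subtype.ext (Subtype.ext (mul_inv_cancel_right _ _))
              right_inv := fun u => Subtype.ext (inv_mul_cancel_right _ _) }⟩
    · have h := congrArg Subtype.val g.2
      have h' : (g.1 : G)⁻¹ * t * (g.1 : G) = y := h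
      rw [Subgroup.mem_centralizer_singleton_iff]
      calc (g.1 : G) * c * t = (g.1 : G) * (c * t * c⁻¹) * c := by group
        _ = t * ((g.1 : G) * c) := by rw [hc.trans h'.symm]; group
    · have hu := Subgroup.mem_centralizer_singleton_iff.mp u.2
      show ((u : G) * c⁻¹)⁻¹ * t * ((u : G) * c⁻¹) ∈ Y
      rw [mul_inv_rev, inv_inv, show c * (u : G)⁻¹ * t * ((u : G) * c⁻¹) = c * ((u : G)⁻¹ * (t * u)) * c⁻¹ by group,
        ← hu, inv_mul_cancel_left, hc]
      exact hy
    · refine Subtype.ext ?_
      have hu := Subgroup.mem_centralizer_singleton_iff.mp u.2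
      show ((u : G) * c⁻¹)⁻¹ * t * ((u : G) * c⁻¹) = y
      rw [mul_inv_rev, inv_inv, show c * (u : G)⁻¹ * t * ((u : G) * c⁻¹) = c * ((u : G)⁻¹ * (t * u)) * c⁻¹ by group,
        ← hu, inv_mul_cancel_left, hc]
  rw [← h1, ← Nat.card_congr (Equiv.sigmaFiberEquiv f)]
  haveI := Fintype.ofFinite {y : G // y ∈ Y ∧ IsConj t y}
  rw [Nat.card_sigma, Finset.sum_congr rfl fun y _ => Nat.card_congr (h2 y).some, Finset.sum_const, Finset.card_univ,
    smul_eq_mul, ← Nat.card_eq_fintype_card, kcount]

/-- A homomorphism of a simple non-abelian group into an abelian group is trivial. -/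
theorem hom_trivial [IsSimpleGroup G] (hG : ¬ IsMulCommutative G) {A : Type*} [CommGroup A] (f : G →* A) (g : G) :
    f g = 1 := by
  rcases (inferInstance : f.ker.Normal).eq_bot_or_eq_top with h | h
  · exact absurd ⟨⟨fun a b => (MonoidHom.ker_eq_bot_iff f).mp h (by rw [map_mul, map_mul, mul_comm])⟩⟩ hG
  · exact MonoidHom.mem_ker.mp (h ▸ Subgroup.mem_top g)

/-- An involution of a non-abelian simple group is an even permutation of any cosets. -/
theorem parity_even [IsSimpleGroup G] (hG : ¬ IsMulCommutative G) (Y : Subgroup G) {t : G} (ht : t * t = 1) :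
    Even ((Y.index - Nat.card (Function.fixedPoints (fun c : G ⧸ Y => t • c))) / 2) := by
  classical
  letI : Fintype (G ⧸ Y) := Fintype.ofFinite _
  have h1 := hom_trivial hG (Equiv.Perm.sign.comp (MulAction.toPermHom G (G ⧸ Y))) t
  have hsq : (MulAction.toPermHom G (G ⧸ Y) t) ^ 2 = 1 := by rw [← map_pow, sq, ht, map_one]
  rw [MonoidHom.comp_apply, Equiv.Perm.sign_of_pow_two_eq_one hsq] at h1
  rw [Subgroup.index_eq_card, Nat.card_eq_fintype_card, Nat.card_eq_fintype_card]
  exact (neg_one_pow_eq_one_iff_even (show (-1 : ℤˣ) ≠ 1 by decide)).mp h1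

/-- No involution acts oddly: four divides the index and the fixed points are twice an odd number. -/
theorem parity_false [IsSimpleGroup G] (hG : ¬ IsMulCommutative G) (Y : Subgroup G) {t : G} (ht : t * t = 1)
    (h4 : 4 ∣ Y.index) {j : ℕ} (hj : Odd j)
    (hc : kcount t Y * Nat.card (Subgroup.centralizer ({t} : Set G)) = 2 * j * Nat.card Y) : False := by
  have hle : Nat.card (Function.fixedPoints (fun c : G ⧸ Y => t • c)) ≤ Y.index := by
    rw [Subgroup.index_eq_card]
    exact Nat.card_le_card_of_injective Subtype.val Subtype.val_injective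
  have h1 := parity_even hG Y ht
  have h2 : Nat.card (Function.fixedPoints (fun c : G ⧸ Y => t • c)) = 2 * j :=
    Nat.eq_of_mul_eq_mul_right Nat.card_pos ((card_fixed Y t).trans hc)
  rw [h2] at h1 hle
  obtain ⟨i, hi⟩ := h4
  obtain ⟨l, hl⟩ := hj
  obtain ⟨r, hr⟩ := h1
  omega

/-- Every involution of a non-abelian simple group has a conjugate in every subgroup of index twice odd, and
more precisely the fixed points there are twice an odd number. -/
theorem parity_two [IsSimpleGroup G] (hG : ¬ IsMulCommutative G) (M : Subgroup G) {m : ℕ} (hm : M.index = 2 * m)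
    (hodd : Odd m) {t : G} (ht : t * t = 1) :
    ∃ j, Odd j ∧ kcount t M * Nat.card (Subgroup.centralizer ({t} : Set G)) = 2 * j * Nat.card M := by
  have hle : Nat.card (Function.fixedPoints (fun c : G ⧸ M => t • c)) ≤ M.index := by
    rw [Subgroup.index_eq_card]
    exact Nat.card_le_card_of_injective Subtype.val Subtype.val_injective
  have h1 := parity_even hG M ht
  rw [hm] at h1 hle
  have h2 : Even (Nat.card (Function.fixedPoints (fun c : G ⧸ M => t • c))) := by
    classical
    haveI : Fact (Nat.Prime 2) := ⟨Nat.prime_two⟩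
    haveI := Fintype.ofFinite (G ⧸ M)
    have hs : (MulAction.toPerm t : Equiv.Perm (G ⧸ M)) ^ 2 ^ 1 = 1 := Equiv.ext fun c => by
      rw [pow_one, sq, Equiv.Perm.mul_apply, MulAction.toPerm_apply, MulAction.toPerm_apply, smul_smul, ht, one_smul]
      rfl
    have h3 := (MulAction.toPerm t : Equiv.Perm (G ⧸ M)).card_compl_support_modEq hs
    rw [Fintype.card_eq_nat_card, ← Subgroup.index_eq_card, hm, Nat.ModEq] at h3
    rw [Nat.even_iff]
    have h4 : Nat.card (Function.fixedPoints (fun c : G ⧸ M => t • c)) =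
        (MulAction.toPerm t : Equiv.Perm (G ⧸ M)).supportᶜ.card :=
      Nat.subtype_card _ fun c => by
        rw [Finset.mem_compl, Equiv.Perm.mem_support, not_not]
        rfl
    omega
  obtain ⟨j, hj⟩ := h2
  refine ⟨j, ?_, ?_⟩
  · obtain ⟨r, hr⟩ := h1
    obtain ⟨l, hl⟩ := hodd
    refine Nat.odd_iff.mpr ?_
    omega
  · rw [← card_fixed M t, hj, two_mul]

/-- Thompson's transfer lemma in a simple group. -/
theorem thompson_false [IsSimpleGroup G] (hG : ¬ IsMulCommutative G) (M : Subgroup G) {m : ℕ} (hm : M.index = 2 * m)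
    (hodd : Odd m) {t : G} (ht : t * t = 1) (hM : ∀ y ∈ M, ¬ IsConj t y) : False := by
  obtain ⟨j, hj, hc⟩ := parity_two hG M hm hodd ht
  have h0 : kcount t M = 0 := by
    haveI : IsEmpty {y : G // y ∈ M ∧ IsConj t y} := ⟨fun y => hM y y.2.1 y.2.2⟩
    exact Nat.card_of_isEmpty
  rw [h0, zero_mul, eq_comm, mul_eq_zero, mul_eq_zero] at hc
  obtain ⟨l, hl⟩ := hj
  rcases hc with (h | h) | h
  · omega
  · omega
  · exact Nat.card_pos.ne' h

/-- If all conjugates of `t` in a Sylow 2-subgroup have one image in an abelian group, that image is trivial. -/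
theorem transfer_const [IsSimpleGroup G] (hG : ¬ IsMulCommutative G) (S : Sylow 2 G) {A : Type*} [CommGroup A]
    (χ : (S : Subgroup G) →* A) {t : G} (ht : t * t = 1) (a : A) (ha : a * a = 1)
    (hS : ∀ (y : (S : Subgroup G)), IsConj t (y : G) → χ y = a) : a = 1 := by
  classical
  haveI : Fact (Nat.Prime 2) := ⟨Nat.prime_two⟩
  haveI := Fintype.ofFinite (Quotient (MulAction.orbitRel (Subgroup.zpowers t) (G ⧸ (S : Subgroup G))))
  have h1 := hom_trivial hG χ.transfer t
  rw [MonoidHom.transfer_eq_prod_quotient_orbitRel_zpowers_quot] at h1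
  have hp : ∀ c : G ⧸ (S : Subgroup G),
      Function.minimalPeriod (t • ·) c = 1 ∨ Function.minimalPeriod (t • ·) c = 2 := fun c => by
    have h2 : Function.IsPeriodicPt (t • ·) 2 c := by
      show t • t • c = c
      rw [smul_smul, ht, one_smul]
    have := Nat.le_of_dvd two_pos h2.minimalPeriod_dvd
    have := h2.minimalPeriod_pos two_pos
    omega
  rw [Finset.prod_congr rfl (g := fun q => a ^ Function.minimalPeriod (t • ·) q.out) fun q _ => ?_,
    Finset.prod_pow_eq_pow_sum] at h1
  swap
  · rcases hp q.out with e | e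
    · conv_rhs => rw [e, pow_one]
      refine hS _ (isConj_iff.mpr ⟨q.out.out⁻¹, ?_⟩)
      show _ = q.out.out⁻¹ * t ^ Function.minimalPeriod (t • ·) q.out * q.out.out
      rw [e, pow_one, inv_inv]
    · conv_rhs => rw [e, sq, ha]
      convert map_one χ
      show q.out.out⁻¹ * t ^ Function.minimalPeriod (t • ·) q.out * q.out.out = 1
      rw [e, sq, ht, mul_one, inv_mul_cancel]
  rw [← Subgroup.index_eq_sum_minimalPeriod] at h1
  obtain ⟨l, hl⟩ : Odd (S : Subgroup G).index := by
    rw [← Nat.not_even_iff_odd, even_iff_two_dvd]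
    exact S.not_dvd_index
  rw [hl, pow_succ, pow_mul, sq, ha, one_pow, one_mul] at h1
  exact h1

end CfsgLib.JT
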