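import Cfsg.Agent.Lib.JTType.Level

/-!
A 2-group `R'` normalising a level `R` and transitive on the conjugates of `t` there.

* `Cover`: the data;
* `Cover.no_out`: some conjugate of `t` lies outside `R`, given a complement.
-/

set_option autoImplicit false
set_option linter.unusedSectionVars false
set_option linter.style.haveILetI false

namespace CfsgLib.JT

variable {G : Type*} [Group G] [Finite G]

/-- The class of `s` in a subgroup. -/
theorem card_class (H : Subgroup G) (s : G) : ({z | ∃ g ∈ H, g * s * g⁻¹ = z} : Set G).ncard =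
    (Subgroup.centralizer ({s} : Set G)).relIndex H := by
  have h : ∀ g g' : H, (g : G) * s * (g : G)⁻¹ = (g' : G) * s * (g' : G)⁻¹ ↔
      g⁻¹ * g' ∈ (Subgroup.centralizer ({s} : Set G)).subgroupOf H := fun g g' => by
    rw [Subgroup.mem_subgroupOf, Subgroup.mem_centralizer_singleton_iff, Subgroup.coe_mul, Subgroup.coe_inv]
    constructor
    · intro e
      calc (g : G)⁻¹ * g' * s = (g : G)⁻¹ * ((g' : G) * s * (g' : G)⁻¹) * g' := by group
        _ = s * ((g : G)⁻¹ * g') := by rw [← e]; group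
    · intro e
      calc (g : G) * s * (g : G)⁻¹ = g * (s * ((g : G)⁻¹ * g')) * (g' : G)⁻¹ := by group
        _ = (g' : G) * s * (g' : G)⁻¹ := by rw [← e]; group
  rw [← Nat.card_coe_set_eq]
  refine (Nat.card_congr (Equiv.ofBijective
    (Quotient.lift (fun g : H => (⟨(g : G) * s * (g : G)⁻¹, g, g.2, rfl⟩ : ({z | ∃ g ∈ H, g * s * g⁻¹ = z} : Set G)))
      fun a b hab => Subtype.ext ((h a b).mpr (QuotientGroup.leftRel_apply.mp hab))) ⟨?_, ?_⟩)).symm
  · intro p q e
    induction p using Quotient.inductionOn with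
    | h a =>
      induction q using Quotient.inductionOn with
      | h b => exact Quotient.sound (QuotientGroup.leftRel_apply.mpr ((h a b).mp (congrArg Subtype.val e)))
  · rintro ⟨x, g, hg, rfl⟩
    exact ⟨Quotient.mk'' ⟨g, hg⟩, rfl⟩

/-- A 2-group over a level, transitive on it. -/
structure Cover (t : G) (U R P : Subgroup G) (k : ℕ) (R' : Subgroup G) : Prop where
  p : IsPGroup 2 R'
  RR : R ≤ R'
  RN : R' ≤ Subgroup.normalizer (R : Set G)
  onto : ∀ u ∈ U, ∃ r ∈ R', Level.tr t k r = u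
  card : Nat.card R' = Nat.card U * Nat.card R

namespace Cover

variable {t : G} {T U : Subgroup G} {c₀ : G} {R P : Subgroup G} {k : ℕ} {R' : Subgroup G}
variable (V : Cover t U R P k R') (L : Level t T U c₀ R P k) (E : Elem t T U c₀)

include V L E

theorem trans {x : G} (hx : x ∈ R) (hP : x ∉ P) : ∃ r ∈ R', r * t * r⁻¹ = x := by
  obtain ⟨g, hg, hgu⟩ := V.onto _ (L.pow _ ((L.t_mul_iff E hx).mpr hP))
  have hgN := V.RN hg
  set x' := g⁻¹ * x * g with hx'
  have hx'R : x' ∈ R := by
    have := norm_conj (inv_mem hgN) hx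
    rwa [inv_inv] at this
  have hx'P : x' ∉ P := fun h => hP (by
    have := L.conj_P E hgN h
    rwa [show g * x' * g⁻¹ = x by rw [hx']; group] at this)
  have h1 : (t * x') ^ 2 ^ k = 1 := by
    have e : t * x = t * (g * t * g⁻¹) * (g * (t * x') * g⁻¹) := by
      rw [hx']
      calc t * x = t * (g * (t * t) * (g⁻¹ * x * g) * g⁻¹) := by rw [E.inv.sq]; group
        _ = t * (g * t * g⁻¹) * (g * (t * (g⁻¹ * x * g)) * g⁻¹) := by group
    have h2 := L.pow_mul_of_mem E (L.base_mem E hgN) (L.conj_P E hgN ((L.t_mul_iff E hx'R).mpr hx'P))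
    rw [← e, conj_pow] at h2
    rw [Level.tr] at hgu
    rw [hgu] at h2
    exact conj_eq_one_iff.mp (mul_eq_left.mp h2.symm)
  obtain ⟨y, hy, e⟩ := L.class_sq E hx'R hx'P h1
  refine ⟨g * y, mul_mem hg (V.RR hy), ?_⟩
  calc g * y * t * (g * y)⁻¹ = g * (y * t * y⁻¹) * g⁻¹ := by group
    _ = x := by rw [e, hx']; group

/-- Nothing outside `R` centralises a conjugate of `t` in `R`. -/
theorem nocomm {x s : G} (hx : x ∈ R') (hs : s ∈ R) (hsP : s ∉ P) (hc : x * s = s * x) : x ∈ R := by
  obtain ⟨r, hr, rfl⟩ := V.trans L E hs hsP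
  have h1 : r⁻¹ * x * r * t = t * (r⁻¹ * x * r) := by
    calc r⁻¹ * x * r * t = r⁻¹ * (x * (r * t * r⁻¹)) * r := by group
      _ = t * (r⁻¹ * x * r) := by rw [hc]; group
  have h2 := norm_conj (V.RN hr) (L.TR (E.inv.mem_of_comm V.p (L.TR.trans V.RR)
    (mul_mem (mul_mem (inv_mem hr) hx) hr) h1))
  rwa [show r * (r⁻¹ * x * r) * r⁻¹ = x by group] at h2

/-- Squares landing in `R` land in `P`. -/
theorem sq_mem {x : G} (hx : x ∈ R') (h : x * x ∈ R) : x * x ∈ P := by
  by_contra hP
  have hxR := V.nocomm L E hx h hP (by group)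
  exact hP (Subgroup.mul_self_mem_of_index_two (show (P.subgroupOf R).index = 2 from L.idx) (⟨x, hxR⟩ : R))

/-- A class of conjugates of `t` in a subgroup of `R'` is large. -/
theorem class_large {H : Subgroup G} (hH : H ≤ R') {s : G} (hs : IsConj t s) :
    Nat.card H ≤ ({z | ∃ g ∈ H, g * s * g⁻¹ = z} : Set G).ncard * Nat.card T := by
  rw [card_class]
  have h1 := E.inv.conj_card_le (V := H ⊓ Subgroup.centralizer ({s} : Set G)) (V.p.to_le (inf_le_left.trans hH)) hs
    fun x hx => Subgroup.mem_centralizer_singleton_iff.mp hx.2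
  rw [← Subgroup.inf_relIndex_left H, ← Subgroup.relIndex_bot_left H,
    ← Subgroup.relIndex_mul_relIndex ⊥ (H ⊓ Subgroup.centralizer ({s} : Set G)) H bot_le inf_le_left,
    Subgroup.relIndex_bot_left, mul_comm]
  exact Nat.mul_le_mul_left _ h1

/-- All conjugates in a coset of `R` lie in one coset of `P`. -/
theorem one_coset {s r : G} (hs : s ∈ R') (hsR : s ∉ R) (hr : r ∈ R) (hs1 : IsConj t s)
    (hsr : IsConj t (s * r)) : r ∈ P := by
  by_contra hP
  have hsq : ∀ {x : G}, IsConj t x → x * x = 1 := fun {x} h => by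
    obtain ⟨g, rfl⟩ := isConj_iff.mp h
    rw [conj_mul, E.inv.sq, mul_one, mul_inv_cancel]
  refine hsR (V.nocomm L E hs hr hP ?_)
  calc s * r = (s * r)⁻¹ := (inv_eq_of_mul_eq_one_right (hsq hsr)).symm
    _ = r * s := by rw [mul_inv_rev, inv_eq_of_mul_eq_one_right (L.sq_out E hr hP),
      inv_eq_of_mul_eq_one_right (hsq hs1)]

/-- Thompson's lemma: with a complement, some conjugate of `t` is outside `R`. -/
theorem no_out [IsSimpleGroup G] (hG : ¬ IsMulCommutative G) {M : Subgroup G} (hM : M ≤ R')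
    (hidx : M.relIndex R' = 2) (hPM : P ≤ M) (htM : t ∉ M)
    (hout : ∀ x ∈ R', IsConj t x → x ∈ R) : False := by
  obtain ⟨S, hS⟩ := single_class E.inv V.p (L.TR.trans V.RR)
    fun x hx hc => V.trans L E (hout x hx hc) ((L.K x (hout x hx hc)).mp hc)
  obtain ⟨o, ho, hi⟩ := index_two_part S (Y := M) (a := 2) (hS ▸ hM) (by
    rw [← hS, ← Subgroup.relIndex_bot_left R', ← Subgroup.relIndex_mul_relIndex ⊥ M R' bot_le hM, hidx,
      Subgroup.relIndex_bot_left, mul_comm])
  refine thompson_false hG M hi ho E.inv.sq fun y hy hc => ?_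
  have hyR := hout y (hM hy) hc
  exact htM ((Subgroup.mul_mem_cancel_right M hy).mp (hPM ((L.t_mul_iff E hyR).mpr ((L.K y hyR).mp hc))))

end Cover

end CfsgLib.JT
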