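import Cfsg.Agent.Lib.JTType.StepCommon

/-!
The step when some element centralising `U` acts as a translation: the next level.
-/

set_option autoImplicit false
set_option linter.unusedSectionVars false
set_option linter.style.haveILetI false

namespace CfsgLib.JT

variable {G : Type*} [Group G] [Finite G]

variable {t : G} {T U : Subgroup G} {c₀ : G} {R P : Subgroup G} {k : ℕ}

theorem step_trans [IsSimpleGroup G] (hG : ¬ IsMulCommutative G) (L : Level t T U c₀ R P k) (E : Elem t T U c₀)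
    {g₁ : G} (hg₁ : g₁ ∈ Subgroup.normalizer (R : Set G)) (hg₁U : ∀ u ∈ U, g₁ * u = u * g₁)
    (hg₁t : Level.tr t k g₁ ≠ 1) :
    ∃ R₂ P₂, Level t T U c₀ R₂ P₂ (k + 1) ∧ Nat.card R < Nat.card R₂ := by
  classical
  haveI : Fact (Nat.Prime 2) := ⟨Nat.prime_two⟩
  set NA := Subgroup.normalizer (R : Set G) ⊓ Subgroup.centralizer (U : Set G) with hNA
  have hNAn : ∀ g ∈ NA, g ∈ Subgroup.normalizer (R : Set G) := fun g hg => hg.1
  have hNAc : ∀ g ∈ NA, ∀ u ∈ U, g * u = u * g := fun g hg u hu => (hg.2 u hu).symm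
  have hRNA : R ≤ NA := fun r hr => ⟨Subgroup.le_normalizer hr, fun u hu => (L.R_cent E hr hu).symm⟩
  have hinv : ∀ c ∈ Subgroup.centralizer ({t} : Set G), c ∈ Subgroup.normalizer (R : Set G) →
      ∀ g ∈ NA, c * g * c⁻¹ ∈ NA := by
    intro c _ hcN g hg
    refine ⟨Subgroup.mul_mem _ (Subgroup.mul_mem _ hcN hg.1) (Subgroup.inv_mem _ hcN), fun u hu => ?_⟩
    have hu' := L.conj_U E (inv_mem hcN) hu
    rw [inv_inv] at hu'
    calc u * (c * g * c⁻¹) = c * ((c⁻¹ * u * c) * g) * c⁻¹ := by group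
      _ = c * (g * (c⁻¹ * u * c)) * c⁻¹ := by rw [hNAc g hg _ hu']
      _ = c * g * c⁻¹ * u := by group
  let π : NA →* U := MonoidHom.mk' (fun g => ⟨Level.tr t k (g : G), L.tr_mem E (hNAn g g.2)⟩) fun g h => by
    refine Subtype.ext ?_
    show Level.tr t k ((g : G) * h) = Level.tr t k (g : G) * Level.tr t k (h : G)
    rw [L.tr_mul E (hNAn g g.2) (hNAn h h.2), hNAc g g.2 _ (L.tr_mem E (hNAn h h.2)), mul_inv_cancel_right]
  have hπ : ∀ g : NA, (π g : G) = Level.tr t k (g : G) := fun _ => rfl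
  have hsurj : Function.Surjective π := by
    rintro ⟨u, hu⟩
    obtain ⟨g, hg, e⟩ := L.tr_surj E NA inf_le_left hinv
      ⟨hg₁, fun u hu => (hg₁U u hu).symm⟩ hg₁t hu
    exact ⟨⟨g, hg⟩, Subtype.ext e⟩
  obtain ⟨Q, hQ⟩ := (L.p.comap_of_injective NA.subtype NA.subtype_injective).exists_le_sylow
  set R' := (Q : Subgroup NA).map NA.subtype with hR'
  have hR'NA : R' ≤ NA := Subgroup.map_subtype_le _
  have hQsurj : (Q : Subgroup NA).map π = ⊤ := by
    rw [← Subgroup.index_eq_one]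
    obtain ⟨n, _, hn⟩ := E.card_pow
    have h1 := (Q : Subgroup NA).index_map_dvd hsurj
    obtain ⟨j, -, hj⟩ := (Nat.dvd_prime_pow Nat.prime_two).mp (hn ▸ ((Q : Subgroup NA).map π).index_dvd_card)
    rw [hj]
    cases j with
    | zero => rfl
    | succ j =>
      exfalso
      exact Q.not_dvd_index ((hj ▸ Dvd.intro_left _ (pow_succ 2 j).symm : 2 ∣ _).trans h1)
  have hp' : IsPGroup 2 R' := Q.2.map _
  have hRR : R ≤ R' := fun r hr => ⟨⟨r, hRNA hr⟩, hQ (show (⟨r, hRNA hr⟩ : NA).1 ∈ R from hr), rfl⟩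
  have honto : ∀ u ∈ U, ∃ r ∈ R', Level.tr t k r = u := fun u hu => by
    obtain ⟨g, hg, e⟩ := (hQsurj ▸ Subgroup.mem_top (⟨u, hu⟩ : U) : (⟨u, hu⟩ : U) ∈ (Q : Subgroup NA).map π)
    exact ⟨g, ⟨g, hg, rfl⟩, congrArg Subtype.val e⟩
  let ψ : R' →* U := π.comp (Subgroup.inclusion hR'NA)
  have hψ : ∀ v : R', (ψ v : G) = Level.tr t k (v : G) := fun _ => rfl
  have hψker : ∀ v : R', ψ v = 1 ↔ (v : G) ∈ R := fun v =>
    ⟨fun h => L.mem_R E hp' hRR v.2 (hNAn _ (hR'NA v.2)) (congrArg Subtype.val h),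
      fun h => Subtype.ext (L.tr_R E h)⟩
  have hcard : Nat.card R' = Nat.card U * Nat.card R := by
    rw [← Subgroup.card_mul_index ψ.ker, Subgroup.index_ker, mul_comm]
    congr 1
    · refine Nat.card_congr ((Equiv.setCongr (congrArg SetLike.coe (MonoidHom.range_eq_top.mpr
        (fun u => ?_)))).trans (Equiv.Set.univ _))
      obtain ⟨r, hr, e⟩ := honto u u.2
      exact ⟨⟨r, hr⟩, Subtype.ext e⟩
    · rw [show ψ.ker = R.subgroupOf R' from Subgroup.ext fun v =>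
        MonoidHom.mem_ker.trans ((hψker v).trans Subgroup.mem_subgroupOf.symm)]
      exact Nat.card_congr (Subgroup.subgroupOfEquivOfLe hRR).toEquiv
  have V : Cover t U R P k R' := ⟨hp', hRR, fun g hg => hNAn g (hR'NA hg), honto, hcard⟩
  have hlt : Nat.card R < Nat.card R' := by
    rw [hcard]
    have := E.four
    have : 0 < Nat.card R := Nat.card_pos
    nlinarith
  -- an element acting like `c₀` in the centraliser and normalising `R'`
  obtain ⟨c, hc, hcN, hca⟩ : ∃ c ∈ Subgroup.centralizer ({t} : Set G), c ∈ Subgroup.normalizer (R' : Set G) ∧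
      c ∈ Subgroup.normalizer (R : Set G) ∧ ∀ u ∈ U, c * u * c⁻¹ = c₀ * u * c₀⁻¹ := by
    obtain ⟨c, hc, hcN, hca⟩ := L.act
    have hp'' : IsPGroup 2 ((cj c R').subgroupOf NA) :=
      (isPGroup_cj c hp').comap_of_injective NA.subtype NA.subtype_injective
    obtain ⟨Q₂, hQ₂⟩ := hp''.exists_le_sylow
    obtain ⟨a, ha⟩ := MulAction.exists_smul_eq NA Q₂ Q
    have hg : (a : G) * c ∈ Subgroup.normalizer (R' : Set G) := mem_norm fun x hx => by
      have hxc : c * x * c⁻¹ ∈ NA := hinv c hc hcN x (hR'NA hx)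
      have h1 : a * ⟨_, hxc⟩ * a⁻¹ ∈ (Q : Subgroup NA) := by
        rw [← ha]
        exact ⟨⟨_, hxc⟩, hQ₂ (show (⟨_, hxc⟩ : NA).1 ∈ cj c R' from mem_cj hx), rfl⟩
      exact ⟨_, h1, by
        show (a : G) * (c * x * c⁻¹) * (a : G)⁻¹ = _
        group⟩
    have hgR : (a : G) * c ∈ Subgroup.normalizer (R : Set G) := mul_mem (hNAn a a.2) hcN
    obtain ⟨r, hr, e⟩ := V.trans L E (norm_conj hgR (L.tR E))
      ((L.K _ (norm_conj hgR (L.tR E))).mp (isConj_iff.mpr ⟨_, rfl⟩))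
    refine ⟨r⁻¹ * ((a : G) * c), Subgroup.mem_centralizer_singleton_iff.mpr ?_,
      mul_mem (inv_mem (Subgroup.le_normalizer hr)) hg, mul_mem (inv_mem (V.RN hr)) hgR, fun u hu => ?_⟩
    · calc r⁻¹ * ((a : G) * c) * t = r⁻¹ * ((a : G) * c * t * ((a : G) * c)⁻¹) * ((a : G) * c) := by group
        _ = t * (r⁻¹ * ((a : G) * c)) := by rw [← e]; group
    · have h2 := L.conj_U E hcN hu
      have h3 : r⁻¹ * (a : G) ∈ NA := mul_mem (inv_mem (hR'NA hr)) a.2
      calc r⁻¹ * ((a : G) * c) * u * (r⁻¹ * ((a : G) * c))⁻¹ = (r⁻¹ * a) * (c * u * c⁻¹) * (r⁻¹ * (a : G))⁻¹ := by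
            group
        _ = c * u * c⁻¹ := by rw [hNAc _ h3 _ h2, mul_inv_cancel_right]
        _ = c₀ * u * c₀⁻¹ := hca u hu
  obtain ⟨hcR, hca⟩ := hca
  have hPR' : P ≤ R' := L.PR.trans hRR
  haveI hPn : (P.subgroupOf R').Normal :=
    ⟨fun n hn g => L.conj_P E (hNAn g (hR'NA g.2)) (Subgroup.mem_subgroupOf.mp hn)⟩
  have hsq : ∀ v : R', (v : G) * v ∈ P := fun v => by
    refine V.sq_mem L E v.2 ((hψker (v * v)).mp ?_)
    rw [map_mul]
    exact Subtype.ext (E.exp _ (E.UT (ψ v).2))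
  have hexp : ∀ x : R' ⧸ P.subgroupOf R', x * x = 1 := fun x => by
    obtain ⟨v, rfl⟩ := QuotientGroup.mk_surjective x
    rw [← QuotientGroup.mk_mul, QuotientGroup.eq_one_iff]
    exact hsq v
  letI : CommGroup (R' ⧸ P.subgroupOf R') :=
    { (inferInstance : Group (R' ⧸ P.subgroupOf R')) with
      mul_comm := fun x y => by
        calc x * y = (x * y)⁻¹ := (inv_eq_of_mul_eq_one_right (hexp _)).symm
          _ = y * x := by rw [mul_inv_rev, inv_eq_of_mul_eq_one_right (hexp x),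
            inv_eq_of_mul_eq_one_right (hexp y)] }
  let χ : R' →* R' ⧸ P.subgroupOf R' := QuotientGroup.mk' _
  have hχ : ∀ v : R', χ v = 1 ↔ (v : G) ∈ P := fun v => (QuotientGroup.eq_one_iff v).trans Subgroup.mem_subgroupOf
  let κ : R' →* R' := MonoidHom.mk' (fun v => ⟨c * (v : G) * c⁻¹, norm_conj hcN v.2⟩) fun v w =>
    Subtype.ext (by show c * ((v : G) * w) * c⁻¹ = c * v * c⁻¹ * (c * w * c⁻¹); group)
  let f : R' →* R' ⧸ P.subgroupOf R' := χ⁻¹ * χ.comp κ
  have hf : ∀ v : R', f v = χ (v⁻¹ * κ v) := fun v => by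
    show (χ v)⁻¹ * χ (κ v) = _
    rw [map_mul, map_inv]
  have hψκ : ∀ v : R', (ψ (κ v) : G) = c * (ψ v : G) * c⁻¹ := fun v => by
    rw [hψ, hψ]
    show Level.tr t k (c * (v : G) * c⁻¹) = _
    rw [L.tr_mul E (mul_mem hcR (V.RN v.2)) (inv_mem hcR), L.tr_mul E hcR (V.RN v.2),
      L.tr_cent E (inv_mem hc), L.tr_cent E hc, one_mul, mul_one, mul_inv_cancel, mul_one]
  have hfix : ∀ v : R', (ψ v : G) = c * (ψ v : G) * c⁻¹ → (v : G) ∈ R := by
    intro v h
    refine (hψker v).mp (by_contra fun hne => ?_)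
    have hne' : (ψ v : G) ≠ 1 := fun e => hne (Subtype.ext e)
    obtain ⟨w, hw, hw1, hwv⟩ : ∃ w ∈ U, w ≠ 1 ∧ w ≠ (ψ v : G) := by
      by_contra hcon
      push Not at hcon
      have hsub : (U : Set G) ⊆ {1, (ψ v : G)} := fun y hy => by
        by_cases h1 : y = 1
        · exact .inl h1
        · exact .inr (hcon y hy h1)
      have h1 := Set.ncard_le_ncard hsub (Set.toFinite _)
      rw [← Nat.card_coe_set_eq, SetLike.coe_sort_coe] at h1
      have h2 := (Set.ncard_insert_le 1 {(ψ v : G)}).trans_eq (by rw [Set.ncard_singleton])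
      have := E.four
      omega
    obtain ⟨i, hi⟩ := E.singer _ (ψ v).2 w hw hne' hw1
    refine hwv ?_
    rw [← hi, ← Level.act_pow E hca i _ (ψ v).2]
    have hcomm : Commute c (ψ v : G) := (eq_mul_inv_iff_mul_eq.mp h).symm
    rw [(hcomm.pow_left i).eq, mul_inv_cancel_right]
  have hfker : f.ker = R.subgroupOf R' := by
    ext v
    rw [MonoidHom.mem_ker, Subgroup.mem_subgroupOf, hf, hχ]
    constructor
    · intro h
      refine hfix v ?_
      have h1 : ψ (v⁻¹ * κ v) = 1 := (hψker _).mpr (L.PR h)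
      rw [map_mul, map_inv, inv_mul_eq_one] at h1
      rw [← hψκ, ← h1]
    · intro h
      show (v : G)⁻¹ * (c * (v : G) * c⁻¹) ∈ P
      rcases em ((v : G) ∈ P) with hP | hP
      · exact mul_mem (inv_mem hP) (L.conj_P E hcR hP)
      · have e : (v : G) = t * (t * v) := by rw [← mul_assoc, E.inv.sq, one_mul]
        have htv := (L.t_mul_iff E h).mpr hP
        rw [e, show (t * (t * (v : G)))⁻¹ * (c * (t * (t * v)) * c⁻¹) =
          (t * (v : G))⁻¹ * t⁻¹ * (c * t) * (t * v) * c⁻¹ by group, Subgroup.mem_centralizer_singleton_iff.mp hc,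
          show (t * (v : G))⁻¹ * t⁻¹ * (t * c) * (t * v) * c⁻¹ = (t * (v : G))⁻¹ * (c * (t * v) * c⁻¹) by group]
        exact mul_mem (inv_mem htv) (L.conj_P E hcR htv)
  set P' := (f.range.comap χ).map R'.subtype with hP'
  have hP'R' : P' ≤ R' := Subgroup.map_subtype_le _
  have hmemP' : ∀ v : R', (v : G) ∈ P' ↔ ∃ w, f w = χ v := fun v =>
    ⟨fun ⟨x, hx, e⟩ => by obtain rfl := Subtype.ext e; exact hx, fun h => ⟨v, h, rfl⟩⟩
  have hcardQ : Nat.card (R' ⧸ P.subgroupOf R') = 2 * Nat.card U := by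
    refine Nat.eq_of_mul_eq_mul_left (Nat.card_pos (α := P.subgroupOf R')) ?_
    rw [← Subgroup.index_eq_card, Subgroup.card_mul_index, hcard,
      Nat.card_congr (Subgroup.subgroupOfEquivOfLe hPR').toEquiv, ← Subgroup.relIndex_bot_left R,
      ← Subgroup.relIndex_mul_relIndex ⊥ P R bot_le L.PR, L.idx, Subgroup.relIndex_bot_left]
    ring
  have hidx' : P'.relIndex R' = 2 := by
    show ((( f.range.comap χ).map R'.subtype).comap R'.subtype).index = 2
    rw [Subgroup.comap_map_eq_self_of_injective R'.subtype_injective,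
      Subgroup.index_comap_of_surjective _ (QuotientGroup.mk'_surjective _)]
    refine Nat.eq_of_mul_eq_mul_left (Nat.card_pos (α := f.range)) ?_
    have h1 := Subgroup.card_mul_index (R.subgroupOf R')
    rw [hcard, Nat.card_congr (Subgroup.subgroupOfEquivOfLe hRR).toEquiv] at h1
    rw [Subgroup.card_mul_index, hcardQ, ← Subgroup.index_ker, hfker,
      Nat.eq_of_mul_eq_mul_left Nat.card_pos (h1.trans (mul_comm _ _))]
    ring
  have hPP' : P ≤ P' := fun p hp => (hmemP' ⟨p, hPR' hp⟩).mpr ⟨1, by rw [map_one, eq_comm, hχ]; exact hp⟩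
  have hP'R : ∀ y ∈ P', y ∈ R → y ∈ P := by
    intro y hy hyR
    obtain ⟨w, hw⟩ := (hmemP' ⟨y, hP'R' hy⟩).mp hy
    rw [← hχ ⟨y, hP'R' hy⟩, ← hw]
    refine MonoidHom.mem_ker.mp (hfker ▸ Subgroup.mem_subgroupOf.mpr (hfix w ?_))
    rw [hf, eq_comm, ← inv_mul_eq_one, ← map_inv, ← map_mul] at hw
    have h2 := L.PR ((hχ _).mp hw)
    have h3 : ψ ((⟨y, hP'R' hy⟩ : R')⁻¹ * (w⁻¹ * κ w)) = 1 := (hψker _).mpr h2
    rw [map_mul, map_inv, (hψker _).mpr hyR, inv_one, one_mul, map_mul, map_inv, inv_mul_eq_one] at h3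
    rw [← hψκ, ← h3]
  have htP' : t ∉ P' := fun h => L.tP E (hP'R t h (L.tR E))
  have hcP' : ∀ y ∈ P', c * y * c⁻¹ ∈ P' := by
    intro y hy
    obtain ⟨w, hw⟩ := (hmemP' ⟨y, hP'R' hy⟩).mp hy
    refine (hmemP' (κ ⟨y, hP'R' hy⟩)).mpr ⟨κ w, ?_⟩
    rw [hf] at hw ⊢
    have h1 : ((w⁻¹ * κ w)⁻¹ * ⟨y, hP'R' hy⟩ : R') ∈ P.subgroupOf R' := QuotientGroup.eq.mp hw
    refine QuotientGroup.eq.mpr ?_
    rw [show ((κ w)⁻¹ * κ (κ w))⁻¹ * κ ⟨y, hP'R' hy⟩ = κ ((w⁻¹ * κ w)⁻¹ * ⟨y, hP'R' hy⟩) by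
      rw [map_mul, map_inv, map_mul, map_inv]]
    exact L.conj_P E hcR h1
  have hside : ∀ v : G, v ∈ R' → (v ∈ P' ↔ v * t ∉ P') := fun v hv =>
    mem_iff_not_mul hidx' hv (hRR (L.tR E)) htP'
  have hψt : ∀ v : R', ψ (v * ⟨t, hRR (L.tR E)⟩) = ψ v := fun v => by
    rw [map_mul, (hψker ⟨t, hRR (L.tR E)⟩).mpr (L.tR E), mul_one]
  have hlift : ∀ u : U, ∃ v : R', (v : G) ∈ P' ∧ ψ v = u := fun u => by
    obtain ⟨r, hr, e⟩ := honto u u.2
    rcases em (r ∈ P') with h | h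
    · refine ⟨⟨r, hr⟩, h, ?_⟩
      exact Subtype.ext e
    · refine ⟨⟨r, hr⟩ * ⟨t, hRR (L.tR E)⟩, not_not.mp ((not_congr (hside r hr)).mp h), ?_⟩
      rw [hψt]
      exact Subtype.ext e
  have hKsq : ∀ {x : G}, IsConj t x → x * x = 1 := fun {x} h => by
    obtain ⟨g, rfl⟩ := isConj_iff.mp h
    rw [conj_mul, E.inv.sq, mul_one, mul_inv_cancel]
  -- whole cosets
  have hwhole : ∀ s ∈ R', s ∉ R → IsConj t s → ∀ p ∈ P, IsConj t (s * p) := by
    intro s hs hsR hsK p hp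
    have hsub : {z | ∃ g ∈ R', g * s * g⁻¹ = z} ⊆ (fun p => s * p) '' (P : Set G) := by
      rintro z ⟨g, hg, rfl⟩
      refine ⟨s⁻¹ * (g * s * g⁻¹), ?_, mul_inv_cancel_left _ _⟩
      show s⁻¹ * (g * s * g⁻¹) ∈ P
      refine (hχ ((⟨s, hs⟩ : R')⁻¹ * (⟨g, hg⟩ * ⟨s, hs⟩ * ⟨g, hg⟩⁻¹))).mp ?_
      rw [map_mul, map_inv, map_mul, map_mul, map_inv, mul_comm (χ ⟨g, hg⟩) (χ ⟨s, hs⟩), mul_inv_cancel_right,
        inv_mul_cancel]
    have himg : ((fun p => s * p) '' (P : Set G)).ncard = Nat.card P := by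
      rw [Set.ncard_image_of_injective _ (mul_right_injective s), ← Nat.card_coe_set_eq]
      rfl
    have hge : ((fun p => s * p) '' (P : Set G)).ncard ≤ ({z | ∃ g ∈ R', g * s * g⁻¹ = z} : Set G).ncard := by
      rw [himg]
      have h1 := V.class_large L E le_rfl hsK
      rw [hcard, E.cardT, ← Subgroup.relIndex_bot_left R, ← Subgroup.relIndex_mul_relIndex ⊥ P R bot_le L.PR,
        L.idx, Subgroup.relIndex_bot_left] at h1
      refine Nat.le_of_mul_le_mul_right ?_ (show 0 < 2 * Nat.card U by have := E.four; omega)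
      calc Nat.card P * (2 * Nat.card U) = Nat.card U * (Nat.card P * 2) := by ring
        _ ≤ _ := h1
    obtain ⟨g, -, e⟩ : s * p ∈ ({z | ∃ g ∈ R', g * s * g⁻¹ = z} : Set G) := by
      rw [Set.eq_of_subset_of_ncard_le hsub hge (Set.toFinite _)]
      exact ⟨p, hp, rfl⟩
    exact hsK.trans (isConj_iff.mpr ⟨g, e⟩)
  have hcpow : ∀ (i : ℕ) (y : G), y ∈ P' → c ^ i * y * (c ^ i)⁻¹ ∈ P' := by
    intro i
    induction i with
    | zero => simp
    | succ i ih =>
      intro y hy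
      rw [show c ^ (i + 1) * y * (c ^ (i + 1))⁻¹ = c ^ i * (c * y * c⁻¹) * (c ^ i)⁻¹ by rw [pow_succ]; group]
      exact ih _ (hcP' y hy)
  -- one conjugate outside `R` gives all on its side
  have hall : ∀ s ∈ R', s ∉ R → IsConj t s → ∀ s' ∈ R', s' ∉ R → (s ∈ P' ↔ s' ∈ P') → IsConj t s' := by
    intro s hs hsR hsK s' hs' hs'R hiff
    obtain ⟨i, hi⟩ := E.singer _ (ψ ⟨s, hs⟩).2 _ (ψ ⟨s', hs'⟩).2
      (fun e => hsR ((hψker ⟨s, hs⟩).mp (Subtype.ext e))) (fun e => hs'R ((hψker ⟨s', hs'⟩).mp (Subtype.ext e)))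
    have hciC := pow_mem hc i
    have hciR := pow_mem hcR i
    set w := c ^ i * s * (c ^ i)⁻¹ with hw
    have hwR' : w ∈ R' := norm_conj (pow_mem hcN i) hs
    have hwψ : ψ ⟨w, hwR'⟩ = ψ ⟨s', hs'⟩ := by
      refine Subtype.ext ?_
      rw [← hi, hψ, ← Level.act_pow E hca i _ (ψ ⟨s, hs⟩).2, hψ]
      show Level.tr t k (c ^ i * s * (c ^ i)⁻¹) = _
      rw [L.tr_mul E (mul_mem hciR (V.RN hs)) (inv_mem hciR), L.tr_mul E hciR (V.RN hs),
        L.tr_cent E (inv_mem hciC), L.tr_cent E hciC, one_mul, mul_one, mul_inv_cancel, mul_one]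
    have hy : w⁻¹ * s' ∈ R := (hψker ((⟨w, hwR'⟩ : R')⁻¹ * ⟨s', hs'⟩)).mp (by
      rw [map_mul, map_inv, hwψ, inv_mul_cancel])
    have hwR : w ∉ R := fun h => hs'R ((Subgroup.mul_mem_cancel_left R (inv_mem h)).mp hy)
    have hwP : w ∈ P' ↔ s ∈ P' := by
      refine ⟨fun h => ?_, fun h => hcpow i s h⟩
      by_contra hsP
      have h1 := hcpow i _ (not_not.mp ((not_congr (hside s hs)).mp hsP))
      have e : c ^ i * (s * t) * (c ^ i)⁻¹ = w * t := by
        rw [hw]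
        calc c ^ i * (s * t) * (c ^ i)⁻¹ = c ^ i * s * (c ^ i)⁻¹ * (c ^ i * t) * (c ^ i)⁻¹ := by group
          _ = _ := by rw [Subgroup.mem_centralizer_singleton_iff.mp hciC]; group
      rw [e] at h1
      exact (hside w hwR').mp h h1
    have hyP : w⁻¹ * s' ∈ P := hP'R _ ((Subgroup.mul_mem_iff_of_index_two (show (P'.subgroupOf R').index = 2 from hidx')
      (a := (⟨w, hwR'⟩ : R')⁻¹) (b := ⟨s', hs'⟩)).mpr (by
        simp only [Subgroup.mem_subgroupOf, Subgroup.coe_inv, inv_mem_iff]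
        exact hwP.trans hiff)) hy
    have := hwhole w hwR' hwR (hsK.trans (isConj_iff.mpr ⟨c ^ i, rfl⟩)) _ hyP
    rwa [mul_inv_cancel_left] at this
  -- no conjugate in `P'`
  have hnoP' : ∀ s ∈ P', ¬ IsConj t s := by
    intro s hs hsK
    have hsR : s ∉ R := fun h => (L.K s h).mp hsK (hP'R s hs h)
    have hK : ∀ y ∈ P', y ∉ R → IsConj t y := fun y hy hyR =>
      hall s (hP'R' hs) hsR hsK y (hP'R' hy) hyR (iff_of_true hs hy)
    obtain ⟨u₁, hu₁, hu₁1⟩ : ∃ u ∈ U, u ≠ 1 := U.bot_or_exists_ne_one.resolve_left fun e => by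
      have := E.four
      rw [e, Subgroup.card_bot] at this
      omega
    obtain ⟨u₂, hu₂, hu₂1, hu₂u⟩ : ∃ u ∈ U, u ≠ 1 ∧ u ≠ u₁ := by
      by_contra hcon
      push Not at hcon
      have hsub : (U : Set G) ⊆ {1, u₁} := fun y hy => by
        by_cases h1 : y = 1
        · exact .inl h1
        · exact .inr (hcon y hy h1)
      have h1 := Set.ncard_le_ncard hsub (Set.toFinite _)
      rw [← Nat.card_coe_set_eq, SetLike.coe_sort_coe] at h1
      have h2 := (Set.ncard_insert_le 1 {u₁}).trans_eq (by rw [Set.ncard_singleton])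
      have := E.four
      omega
    obtain ⟨v₁, hv₁, e₁⟩ := hlift ⟨u₁, hu₁⟩
    obtain ⟨v₂, hv₂, e₂⟩ := hlift ⟨u₂, hu₂⟩
    have hu₁₂ : u₁ * u₂ ≠ 1 := fun e => hu₂u (by
      rw [eq_inv_of_mul_eq_one_right e, inv_eq_of_mul_eq_one_right (E.exp _ (E.UT hu₁))])
    have h₁R : (v₁ : G) ∉ R := fun h => hu₁1 (by
      rw [← hψker v₁, e₁] at h; exact congrArg Subtype.val h)
    have h₂R : (v₂ : G) ∉ R := fun h => hu₂1 (by
      rw [← hψker v₂, e₂] at h; exact congrArg Subtype.val h)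
    have h₃R : (v₁ : G) * v₂ ∉ R := fun h => hu₁₂ (by
      have := (hψker (v₁ * v₂)).mpr h
      rw [map_mul, e₁, e₂] at this
      exact congrArg Subtype.val this)
    have hinvs : ∀ y ∈ P', y ∉ R → ∀ p ∈ P, y * p * y = p⁻¹ := by
      intro y hy hyR p hp
      have h1 := hKsq (hK (y * p) (mul_mem hy (hPP' hp)) fun h =>
        hyR ((Subgroup.mul_mem_cancel_right R (L.PR hp)).mp h))
      exact eq_inv_of_mul_eq_one_left (by rw [← h1]; group)
    have hP2 : ∀ p ∈ P, p * p = 1 := by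
      intro p hp
      have h3 := hinvs _ (mul_mem hv₁ hv₂) h₃R p hp
      have hcm : (v₁ : G) * v₂ = v₂ * v₁ := by
        calc (v₁ : G) * v₂ = ((v₁ : G) * v₂)⁻¹ :=
              (inv_eq_of_mul_eq_one_right (hKsq (hK _ (mul_mem hv₁ hv₂) h₃R))).symm
          _ = v₂ * v₁ := by rw [mul_inv_rev, inv_eq_of_mul_eq_one_right (hKsq (hK _ hv₁ h₁R)),
              inv_eq_of_mul_eq_one_right (hKsq (hK _ hv₂ h₂R))]
      have e : (v₁ : G) * v₂ * p * (v₁ * v₂) = p := by
        conv_lhs => arg 2; rw [hcm]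
        calc (v₁ : G) * v₂ * p * (v₂ * v₁) = v₁ * (v₂ * p * v₂) * v₁ := by group
          _ = p := by rw [hinvs _ hv₂ h₂R p hp, hinvs _ hv₁ h₁R p⁻¹ (inv_mem hp), inv_inv]
      rw [e] at h3
      nth_rw 2 [h3]
      exact mul_inv_cancel p
    -- a centraliser that is too big
    set W := P' ⊓ Subgroup.centralizer ({(v₁ : G)} : Set G) with hW
    have hWc := E.inv.conj_card_le (V := W) (hp'.to_le (inf_le_left.trans hP'R')) (hK _ hv₁ h₁R)
      fun x hx => Subgroup.mem_centralizer_singleton_iff.mp hx.2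
    let ρ : W →* U := ψ.comp (Subgroup.inclusion (inf_le_left.trans hP'R'))
    have hcentP : ∀ p ∈ P, p * (v₁ : G) = v₁ * p := fun p hp => by
      have h1 := hinvs _ hv₁ h₁R p hp
      rw [inv_eq_of_mul_eq_one_right (hP2 p hp)] at h1
      nth_rw 1 [← h1]
      calc (v₁ : G) * p * v₁ * v₁ = v₁ * p * ((v₁ : G) * v₁) := by group
        _ = v₁ * p := by rw [hKsq (hK _ hv₁ h₁R), mul_one]
    have hv₁W : (v₁ : G) ∈ W := ⟨hv₁, Subgroup.mem_centralizer_singleton_iff.mpr rfl⟩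
    have hv₂W : (v₂ : G) ∈ W := by
      refine ⟨hv₂, Subgroup.mem_centralizer_singleton_iff.mpr ?_⟩
      calc (v₂ : G) * v₁ = ((v₂ : G) * v₁)⁻¹⁻¹ := (inv_inv _).symm
        _ = ((v₁ : G) * v₂)⁻¹ := by
            rw [mul_inv_rev, inv_eq_of_mul_eq_one_right (hKsq (hK _ hv₁ h₁R)),
              inv_eq_of_mul_eq_one_right (hKsq (hK _ hv₂ h₂R))]
        _ = v₁ * v₂ := inv_eq_of_mul_eq_one_right (hKsq (hK _ (mul_mem hv₁ hv₂) h₃R))
    have hrange : 4 ≤ Nat.card ρ.range := by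
      have hsub : ({1, u₁, u₂, u₁ * u₂} : Set G) ⊆ ((ρ.range.map U.subtype : Subgroup G) : Set G) := by
        have m1 : u₁ ∈ ρ.range.map U.subtype :=
          ⟨_, ⟨⟨(v₁ : G), hv₁W⟩, rfl⟩, congrArg Subtype.val e₁⟩
        have m2 : u₂ ∈ ρ.range.map U.subtype :=
          ⟨_, ⟨⟨(v₂ : G), hv₂W⟩, rfl⟩, congrArg Subtype.val e₂⟩
        rintro y (rfl | rfl | rfl | rfl)
        exacts [one_mem _, m1, m2, mul_mem m1 m2]
      have h1 := Set.ncard_le_ncard hsub (Set.toFinite _)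
      rw [← Nat.card_coe_set_eq ((ρ.range.map U.subtype : Subgroup G) : Set G), SetLike.coe_sort_coe,
        Subgroup.card_map_of_injective U.subtype_injective] at h1
      refine le_trans (le_of_eq ?_) h1
      rw [Set.ncard_insert_of_notMem, Set.ncard_insert_of_notMem, Set.ncard_pair]
      · intro e; exact hu₁1 (mul_eq_right.mp e.symm)
      · rintro (e | e)
        · exact hu₂u e.symm
        · exact hu₂1 (mul_eq_left.mp e.symm)
      · rintro (e | e | e)
        · exact hu₁1 e.symm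
        · exact hu₂1 e.symm
        · exact hu₁₂ e.symm
    have hkerle : Nat.card P ≤ Nat.card ρ.ker := Nat.card_le_card_of_injective
      (fun p => ⟨⟨p.1, hPP' p.2, Subgroup.mem_centralizer_singleton_iff.mpr (hcentP p.1 p.2)⟩,
        MonoidHom.mem_ker.mpr ((hψker _).mpr (L.PR p.2))⟩)
      (fun a b e => Subtype.ext (congrArg (fun x : ρ.ker => ((x : W) : G)) e))
    have h2 := Nat.mul_le_mul hkerle hrange
    rw [← Subgroup.index_ker, Subgroup.card_mul_index] at h2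
    have h3 := Subgroup.card_le_of_le L.UP
    have h4 := E.cardT
    have := E.four
    omega
  by_cases hout : ∀ x ∈ R', IsConj t x → x ∈ R
  · exact absurd (V.no_out L E hG hP'R' hidx' hPP' htP' hout) id
  push Not at hout
  obtain ⟨s, hs, hsK, hsR⟩ := hout
  have hKiff : ∀ x ∈ R', IsConj t x ↔ x ∉ P' := by
    refine fun x hx => ⟨fun h h' => hnoP' x h' h, fun hxP => ?_⟩
    rcases em (x ∈ R) with hxR | hxR
    · exact (L.K x hxR).mpr fun h => hxP (hPP' h)
    · exact hall s hs hsR hsK x hx hxR (iff_of_false (fun h => hnoP' s h hsK) hxP)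
  have hinvP' : ∀ y ∈ P', t * y * t = y⁻¹ := fun y hy => by
    have hty : t * y ∈ R' := mul_mem (hRR (L.tR E)) (hP'R' hy)
    have h1 := hKsq ((hKiff _ hty).mpr fun h => htP' ((Subgroup.mul_mem_cancel_right P' hy).mp h))
    exact eq_inv_of_mul_eq_one_left (by rw [← h1]; group)
  have hcommP' : ∀ a ∈ P', ∀ b ∈ P', a * b = b * a := by
    intro a ha b hb
    have h : (a * b)⁻¹ = a⁻¹ * b⁻¹ := by
      rw [← hinvP' _ (mul_mem ha hb), ← hinvP' a ha, ← hinvP' b hb]
      calc t * (a * b) * t = t * a * (t * t) * b * t := by rw [E.inv.sq]; group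
        _ = t * a * t * (t * b * t) := by group
    rw [mul_inv_rev] at h
    exact inv_injective (by rw [mul_inv_rev, mul_inv_rev, h])
  have hsqP : ∀ y ∈ P', y * y ∈ P := fun y hy => hsq ⟨y, hP'R' hy⟩
  refine ⟨R', P', ⟨hp', hP'R', hidx', L.TR.trans hRR, L.UP.trans hPP', hKiff, ?_, ?_, c, hc, hcN, hca⟩, hlt⟩
  · intro x hx
    rw [pow_succ', pow_mul, pow_two]
    exact L.pow _ (hsqP x hx)
  · intro u hu
    obtain ⟨z, hz, rfl⟩ := L.onto u hu
    letI : CommGroup P' :=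
      { (inferInstance : Group P') with mul_comm := fun a b => Subtype.ext (hcommP' _ a.2 _ b.2) }
    let sq' : P' →* P' := powMonoidHom 2
    have hle : sq'.range.map P'.subtype ≤ P := by
      rintro _ ⟨_, ⟨y, rfl⟩, rfl⟩
      show (y : G) ^ 2 ∈ P
      rw [pow_two]
      exact hsqP y y.2
    have hkerU : Nat.card sq'.ker ≤ Nat.card U := by
      refine Nat.card_le_card_of_injective (fun y => ⟨y.1.1, ?_⟩) fun a b e => ?_
      · have hy2 : (y.1.1 : G) * y.1.1 = 1 := by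
          rw [← pow_two]
          exact congrArg Subtype.val (MonoidHom.mem_ker.mp y.2)
        have hct : y.1.1 * t = t * y.1.1 := by
          calc y.1.1 * t = y.1.1⁻¹ * t := by rw [inv_eq_of_mul_eq_one_right hy2]
            _ = t * y.1.1 * (t * t) := by rw [← hinvP' _ y.1.2]; group
            _ = t * y.1.1 := by rw [E.inv.sq, mul_one]
        have hyT := E.inv.mem_of_comm hp' (L.TR.trans hRR) (hP'R' y.1.2) hct
        exact (E.mem_U_iff L hyT).mpr (hP'R _ y.1.2 (L.TR hyT))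
      · exact Subtype.ext (Subtype.ext (congrArg (fun u : U => (u : G)) e))
    have hcP : Nat.card P' = Nat.card U * Nat.card P := by
      refine Nat.eq_of_mul_eq_mul_left two_pos ?_
      have h1 : Nat.card P' * P'.relIndex R' = Nat.card R' := by
        rw [← Subgroup.relIndex_bot_left P', Subgroup.relIndex_mul_relIndex _ _ _ bot_le hP'R',
          Subgroup.relIndex_bot_left]
      rw [hidx', hcard, ← Subgroup.relIndex_bot_left R, ← Subgroup.relIndex_mul_relIndex ⊥ P R bot_le L.PR,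
        L.idx, Subgroup.relIndex_bot_left] at h1
      rw [mul_comm 2, h1]
      ring
    have heq : sq'.range.map P'.subtype = P := by
      refine Subgroup.eq_of_le_of_card_ge hle (Nat.le_of_mul_le_mul_left ?_ (Nat.card_pos (α := U)))
      rw [← hcP, Subgroup.card_map_of_injective P'.subtype_injective, ← Subgroup.card_mul_index sq'.ker,
        Subgroup.index_ker]
      exact Nat.mul_le_mul_right _ hkerU
    obtain ⟨_, ⟨y, rfl⟩, e⟩ := (heq.symm ▸ hz : z ∈ sq'.range.map P'.subtype)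
    refine ⟨y, y.2, ?_⟩
    rw [pow_succ', pow_mul]
    rw [← e]
    rfl

end CfsgLib.JT
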